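import Mathlib
import Cfsg.Agent.Lib.UnitaryTransvection

/-! Field facts and the annihilator of an additive subgroup for the index bound of unitary groups. -/

set_option autoImplicit false

namespace CfsgLib.PsuMin

open CfsgLib.UnitaryTransvection

section pairing

variable {U : Type*} [AddCommGroup U] [Finite U] {F : Type*} [Field F]

/-- The annihilator of `A` through `ψ ∘ B`. -/
def ann (B : U →+ U →+ F) (ψ : AddChar F ℂ) (A : AddSubgroup U) : AddSubgroup U where
  carrier := {y | ∀ w ∈ A, ψ (B y w) = 1}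
  zero_mem' := fun w _ => by simp
  add_mem' := fun {a b} ha hb w hw => by
    rw [map_add, AddMonoidHom.add_apply, AddChar.map_add_eq_mul, ha w hw, hb w hw, one_mul]
  neg_mem' := fun {a} ha w hw => by
    rw [map_neg, AddMonoidHom.neg_apply, AddChar.map_neg_eq_inv, ha w hw, inv_one]

theorem card_ann (B : U →+ U →+ F) (ψ : AddChar F ℂ) (hnd : ∀ x : U, x ≠ 0 → ∃ y, ψ (B y x) ≠ 1)
    (A : AddSubgroup U) : Nat.card (ann B ψ A) * Nat.card A = Nat.card U := by
  classical
  haveI : Fintype U := Fintype.ofFinite U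
  have h1 : ∀ y : U, ∑ w : A, ψ (B y w) = if y ∈ ann B ψ A then (Nat.card A : ℂ) else 0 := by
    intro y
    let χ : AddChar A ℂ :=
      { toFun := fun w => ψ (B y (w : U))
        map_zero_eq_one' := by simp
        map_add_eq_mul' := fun a b => by rw [AddSubgroup.coe_add, map_add, AddChar.map_add_eq_mul] }
    show ∑ w : A, χ w = _
    rw [AddChar.sum_eq_ite, Nat.card_eq_fintype_card]
    have : χ = 0 ↔ y ∈ ann B ψ A := by
      constructor
      · intro h w hw
        exact DFunLike.congr_fun h (⟨w, hw⟩ : A)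
      · intro h
        exact DFunLike.ext χ 0 fun w : A => h (w : U) w.2
    simp only [this]
  have h2 : ∀ w : A, ∑ y : U, ψ (B y w) = if w = 0 then (Fintype.card U : ℂ) else 0 := by
    intro w
    let χ : AddChar U ℂ :=
      { toFun := fun y => ψ (B y (w : U))
        map_zero_eq_one' := by simp
        map_add_eq_mul' := fun a b => by rw [map_add, AddMonoidHom.add_apply, AddChar.map_add_eq_mul] }
    show ∑ y : U, χ y = _
    rw [AddChar.sum_eq_ite]
    have : χ = 0 ↔ w = 0 := by
      constructor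
      · intro h
        by_contra hw
        obtain ⟨y, hy⟩ := hnd (w : U) (fun e => hw (Subtype.ext e))
        exact hy (DFunLike.congr_fun h y)
      · intro h
        exact DFunLike.ext _ _ fun y => by
          show ψ (B y (w : U)) = 1
          rw [h]; simp
    simp only [this]
  have key := Finset.sum_comm (s := (Finset.univ : Finset U)) (t := (Finset.univ : Finset A))
    (f := fun y w => ψ (B y (w : U)))
  rw [Finset.sum_congr rfl fun y _ => h1 y, Finset.sum_congr rfl fun w _ => h2 w, Finset.sum_ite_eq',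
    if_pos (Finset.mem_univ _), ← Finset.sum_filter, Finset.sum_const, nsmul_eq_mul] at key
  rw [Nat.card_eq_fintype_card (α := U)]
  have e : (Finset.univ.filter fun y => y ∈ ann B ψ A).card = Nat.card (ann B ψ A) := by
    rw [Nat.card_eq_fintype_card, Fintype.card_subtype]
  rw [e] at key
  exact_mod_cast key

/-- An isotropic subgroup of an annihilator pairing is small. -/
theorem card_isotropic (B : U →+ U →+ F) (ψ : AddChar F ℂ) (hnd : ∀ x : U, x ≠ 0 → ∃ y, ψ (B y x) ≠ 1)
    (A : AddSubgroup U) (hA : ∀ a ∈ A, ∀ b ∈ A, ψ (B a b) = 1) : Nat.card A * Nat.card A ≤ Nat.card U := by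
  rw [← card_ann B ψ hnd A]
  exact Nat.mul_le_mul_right _ (AddSubgroup.card_le_of_le fun a ha w hw => hA a ha w hw)

/-- A maximal isotropic subgroup is its own annihilator. -/
theorem ann_eq_self (B : U →+ U →+ F) (ψ : AddChar F ℂ) (hnd : ∀ x : U, x ≠ 0 → ∃ y, ψ (B y x) ≠ 1)
    (A : AddSubgroup U) (hA : ∀ a ∈ A, ∀ b ∈ A, ψ (B a b) = 1) (hc : Nat.card A * Nat.card A = Nat.card U) :
    ann B ψ A = A := by
  have h := card_ann B ψ hnd A
  rw [← hc] at h
  exact (AddSubgroup.eq_of_le_of_card_ge (show A ≤ ann B ψ A from fun a ha w hw => hA a ha w hw)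
    (Nat.eq_of_mul_eq_mul_right Nat.card_pos h).le).symm

end pairing

variable {F : Type*} [Field F] [Fintype F] {q : ℕ} (hF : Fintype.card F = q ^ 2)

local notation "σ" => frob hF

include hF in
theorem two_le_q : 2 ≤ q := (UnitaryBasic.frob_exists hF).1

/-- The elements of trace zero. -/
def skew : AddSubgroup F where
  carrier := {c | c + σ c = 0}
  zero_mem' := by simp
  add_mem' := fun {a b} (ha : a + σ a = 0) (hb : b + σ b = 0) => by
    show a + b + σ (a + b) = 0
    rw [map_add]; linear_combination ha + hb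
  neg_mem' := fun {a} (ha : a + σ a = 0) => by
    show -a + σ (-a) = 0
    rw [map_neg]; linear_combination -ha

theorem mem_skew {c : F} : c ∈ skew hF ↔ c + σ c = 0 := Iff.rfl

theorem skew_neg {c : F} (h : c ∈ skew hF) : σ c = -c := by
  have : c + σ c = 0 := h
  linear_combination this

theorem sub_frob_skew (x : F) : x - σ x ∈ skew hF := by
  rw [mem_skew, map_sub, frob_frob hF]; ring

theorem skew_mul_fix {c f : F} (hc : c ∈ skew hF) (hf : σ f = f) : c * f ∈ skew hF := by
  rw [mem_skew, map_mul, hf, skew_neg hF hc]; ring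

theorem exists_sub_frob {t : F} (ht : t ∈ skew hF) : ∃ c, c - σ c = t := by
  obtain ⟨d, hd⟩ := exists_trace_one hF
  exact ⟨d * t, by rw [map_mul, skew_neg hF ht]; linear_combination t * hd⟩

theorem card_fix_le : Nat.card {x : F // σ x = x} ≤ q := by
  classical
  have hq := two_le_q hF
  rw [Nat.card_eq_fintype_card, Fintype.card_subtype]
  have hsub : (Finset.univ.filter fun x : F => σ x = x) ⊆ (Polynomial.X ^ q - Polynomial.X : Polynomial F).roots.toFinset := by
    intro x hx
    rw [Finset.mem_filter] at hx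
    rw [Multiset.mem_toFinset, Polynomial.mem_roots (FiniteField.X_pow_card_sub_X_ne_zero F (by omega))]
    simp [Polynomial.IsRoot, ← frob_apply hF, hx.2]
  refine (Finset.card_le_card hsub).trans ((Multiset.toFinset_card_le _).trans ?_)
  refine (Polynomial.card_roots' _).trans ?_
  rw [FiniteField.X_pow_card_sub_X_natDegree_eq F (by omega)]

/-- Trace zero elements correspond to fixed elements. -/
theorem card_skew_eq : Nat.card (skew hF) = Nat.card {x : F // σ x = x} := by
  obtain ⟨c, hc0, hc⟩ := exists_skew hF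
  have hc' : σ c = -c := by linear_combination hc
  exact Nat.card_congr
    { toFun := fun x => ⟨x.1 / c, by rw [map_div₀, skew_neg hF x.2, hc', neg_div_neg_eq]⟩
      invFun := fun x => ⟨x.1 * c, by rw [mem_skew, map_mul, x.2, hc']; ring⟩
      left_inv := fun x => Subtype.ext (div_mul_cancel₀ _ hc0)
      right_inv := fun x => Subtype.ext (mul_div_cancel_right₀ _ hc0) }

theorem card_skew : Nat.card (skew hF) = q := by
  classical
  have h1 := card_fix_le hF
  rw [← card_skew_eq hF] at h1
  let T : F →+ F := AddMonoidHom.mk' (fun x => x + σ x) fun a b => by simp only [map_add]; ring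
  have hk : T.ker = skew hF := by ext x; rfl
  have hr : Nat.card T.range ≤ q := by
    refine le_trans (Nat.card_le_card_of_injective (fun y => (⟨y.1, ?_⟩ : {x : F // σ x = x})) fun a b h => ?_)
      (card_fix_le hF)
    · obtain ⟨x, hx⟩ := y.2
      rw [← hx]
      show σ (x + σ x) = x + σ x
      rw [map_add, frob_frob hF]; ring
    · exact Subtype.ext (congrArg Subtype.val h :)
  have hm := T.ker.card_mul_index
  rw [AddSubgroup.index_ker, hk, Nat.card_eq_fintype_card (α := F), hF, pow_two] at hm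
  have : q * q ≤ Nat.card (skew hF) * q := hm.ge.trans (Nat.mul_le_mul_left _ hr)
  have := Nat.le_of_mul_le_mul_right this (by have := two_le_q hF; omega)
  omega

theorem card_fix : Nat.card {x : F // σ x = x} = q := by rw [← card_skew_eq, card_skew]

theorem exists_char {Z : AddSubgroup F} {x : F} (hx : x ∉ Z) :
    ∃ ψ : AddChar F ℂ, (∀ z ∈ Z, ψ z = 1) ∧ ψ x ≠ 1 := by
  obtain ⟨φ, hφ⟩ := AddChar.exists_apply_ne_zero.2 (fun h => hx ((QuotientAddGroup.eq_zero_iff x).1 h) :
    (QuotientAddGroup.mk' Z x) ≠ 0)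
  refine ⟨φ.compAddMonoidHom (QuotientAddGroup.mk' Z), fun z hz => ?_, hφ⟩
  show φ (QuotientAddGroup.mk' Z z) = 1
  rw [show QuotientAddGroup.mk' Z z = 0 from (QuotientAddGroup.eq_zero_iff z).2 hz, AddChar.map_zero_eq_one]

include hF in
theorem card_norm_ker : Nat.card (powMonoidHom (q + 1) : Fˣ →* Fˣ).ker = q + 1 := by
  rw [IsCyclic.card_powMonoidHom_ker, HermCount.card_sub_one hF, Nat.gcd_eq_right (dvd_mul_right _ _)]

/-- Scalars fixing a proper subgroup of trace zero elements. -/
theorem scalar_bound (Z : AddSubgroup F) (hZ : Z ≤ skew hF) {x : F} (hx : x ∈ skew hF) (hxZ : x ∉ Z)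
    (Sc : Subgroup Fˣ) (hinv : ∀ l ∈ Sc, ∀ z ∈ Z, (l : F) * σ (l : F) * z ∈ Z) :
    Nat.card Sc * Nat.card Z ≤ q ^ 2 - 1 := by
  classical
  let f : Sc →* Fˣ := (powMonoidHom (q + 1)).comp Sc.subtype
  have hk : Nat.card f.ker ≤ q + 1 := by
    rw [← card_norm_ker hF]
    exact Nat.card_le_card_of_injective (fun l => ⟨l.1.1, l.2⟩) fun a b h =>
      Subtype.ext (Subtype.ext (congrArg Subtype.val h :))
  have hM : ∀ l ∈ f.range, σ (l : F) = l ∧ ∀ z ∈ Z, (l : F) * z ∈ Z := by
    rintro _ ⟨⟨l, hl⟩, rfl⟩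
    have e : ((f ⟨l, hl⟩ : Fˣ) : F) = (l : F) * σ (l : F) := by
      show ((l ^ (q + 1) : Fˣ) : F) = _
      rw [Units.val_pow_eq_pow_val, pow_succ', frob_apply hF]
    rw [e]
    exact ⟨by rw [map_mul, frob_frob hF, mul_comm], hinv l hl⟩
  have hcount : Nat.card f.range * Nat.card Z + Nat.card Z ≤ q := by
    let φ : f.range × Z ⊕ Z → skew hF := Sum.elim
      (fun p => ⟨x * (p.1.1 : F) + p.2.1, (skew hF).add_mem (skew_mul_fix hF hx (hM _ p.1.2).1) (hZ p.2.2)⟩)
      (fun z => ⟨z.1, hZ z.2⟩)
    have key : ∀ (l l' : f.range) (z : F), z ∈ Z → x * (l.1 : F) - x * (l'.1 : F) = z → l = l' := by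
      intro l l' z hz h
      by_contra hne
      set r : F := (l.1 : F) - (l'.1 : F) with hr
      have hr0 : r ≠ 0 := sub_ne_zero.2 fun e => hne (Subtype.ext (Units.ext e))
      let g : Z → Z := fun w => ⟨r * w.1, by
        rw [hr, sub_mul]; exact Z.sub_mem ((hM _ l.2).2 _ w.2) ((hM _ l'.2).2 _ w.2)⟩
      have hg : Function.Injective g := fun a b e => Subtype.ext (mul_left_cancel₀ hr0 (congrArg Subtype.val e))
      obtain ⟨w, hw⟩ := (Finite.injective_iff_surjective.1 hg) ⟨z, hz⟩
      refine hxZ ?_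
      have : r * w.1 = r * x := (congrArg Subtype.val hw).trans (show z = r * x by rw [← h, hr]; ring)
      rw [← mul_left_cancel₀ hr0 this]
      exact w.2
    have hφ : Function.Injective φ := by
      have hno : ∀ (l : f.range) (z : F), z ∈ Z → x * (l.1 : F) ≠ z := by
        intro l z hz h
        let g : Z → Z := fun w => ⟨(l.1 : F) * w.1, (hM _ l.2).2 _ w.2⟩
        have hg : Function.Injective g := fun a b e =>
          Subtype.ext (mul_left_cancel₀ l.1.ne_zero (congrArg Subtype.val e))
        obtain ⟨w, hw⟩ := (Finite.injective_iff_surjective.1 hg) ⟨z, hz⟩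
        refine hxZ ?_
        have : (l.1 : F) * w.1 = (l.1 : F) * x := (congrArg Subtype.val hw).trans (show z = (l.1 : F) * x by rw [← h]; ring)
        rw [← mul_left_cancel₀ l.1.ne_zero this]
        exact w.2
      rintro (⟨l, z⟩ | z) (⟨l', z'⟩ | z') h <;>
        simp only [φ, Sum.elim_inl, Sum.elim_inr, Subtype.mk.injEq] at h
      · have e := key l l' (z'.1 - z.1) (Z.sub_mem z'.2 z.2) (by linear_combination h)
        subst e
        rw [Subtype.ext (add_left_cancel h)]
      · exact absurd (show x * (l.1 : F) = z'.1 - z.1 by linear_combination h) (hno l _ (Z.sub_mem z'.2 z.2))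
      · exact absurd (show x * (l'.1 : F) = z.1 - z'.1 by linear_combination -h) (hno l' _ (Z.sub_mem z.2 z'.2))
      · rw [Subtype.ext h]
    have := Nat.card_le_card_of_injective φ hφ
    rwa [Nat.card_sum, Nat.card_prod, card_skew hF] at this
  have h1 := f.ker.card_mul_index
  rw [Subgroup.index_ker] at h1
  have hz : 0 < Nat.card Z := Nat.card_pos
  calc Nat.card Sc * Nat.card Z = Nat.card f.ker * (Nat.card f.range * Nat.card Z) := by rw [← h1]; ring
    _ ≤ (q + 1) * (q - 1) := Nat.mul_le_mul hk (by omega)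
    _ = q ^ 2 - 1 := by rw [← Nat.sq_sub_sq, one_pow]

/-- Hilbert 90. -/
theorem exists_quot {w : F} (hw : w * σ w = 1) : ∃ r : F, r ≠ 0 ∧ r = w * σ r := by
  by_cases h : w = -1
  · obtain ⟨c, hc0, hc⟩ := exists_skew hF
    exact ⟨c, hc0, by rw [h]; linear_combination hc⟩
  · refine ⟨1 + w, fun e => h (by linear_combination e), ?_⟩
    rw [map_add, map_one]
    linear_combination -hw

include hF in
theorem exists_prime : ∃ p f : ℕ, p.Prime ∧ q = p ^ f := by
  obtain ⟨p, hp⟩ := CharP.exists F
  obtain ⟨n, hpp, hn⟩ := FiniteField.card F p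
  obtain ⟨f, -, hf⟩ := (Nat.dvd_prime_pow hpp).1 (show q ∣ p ^ (n : ℕ) by rw [← hn, hF, pow_two]; exact dvd_mul_right q q)
  exact ⟨p, f, hpp, hf⟩

include hF in
/-- A divisor below a power is at most half of it. -/
theorem half_of_lt {a N j : ℕ} (ha : a ∣ q ^ N) (hlt : a < q ^ j) : 2 * a ≤ q ^ j := by
  obtain ⟨p, f, hp, rfl⟩ := exists_prime hF
  rw [← pow_mul] at ha hlt ⊢
  obtain ⟨i, -, rfl⟩ := (Nat.dvd_prime_pow hp).1 ha
  have hi : i < f * j := (Nat.pow_lt_pow_iff_right hp.one_lt).1 hlt
  calc 2 * p ^ i ≤ p * p ^ i := Nat.mul_le_mul_right _ hp.two_le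
    _ = p ^ (i + 1) := by ring
    _ ≤ _ := Nat.pow_le_pow_right hp.pos hi

end CfsgLib.PsuMin
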