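import Mathlib
import Cfsg.Agent.Lib.PsuMin.Field
import Cfsg.Agent.Lib.UnitaryTransConj
import Cfsg.Agent.Lib.IsotropicHerm
import Cfsg.Agent.Lib.OmegaMin.Generic

/-! Transitivity, counting and basic elements in the group of isometries of determinant one. -/

set_option autoImplicit false

namespace CfsgLib.PsuMin

open Matrix CfsgLib.UnitaryTransvection Module
open CfsgLib.UnitarySimple (umat umat_mulVec umat_isometry det_umat)

variable {F : Type*} [Field F] [Fintype F] {q n : ℕ} (hF : Fintype.card F = q ^ 2)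

local notation "h" => Cfsg.hermForm n F q
local notation "σ" => frob hF
local notation "G" => Cfsg.GU n F q

variable (n F q) in
/-- The isometries of determinant one. -/
def det1 : Subgroup G := ((GeneralLinearGroup.det).comp (Cfsg.GU n F q).subtype).ker

omit [Fintype F] in
theorem mem_det1 {g : G} : g ∈ det1 F q n ↔ g.1.1.det = 1 :=
  ⟨fun e => congrArg Units.val (MonoidHom.mem_ker.1 e), fun e => MonoidHom.mem_ker.2 (Units.ext e)⟩

omit [Fintype F] in
/-- The matrix of an element acting on vectors. -/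
theorem mul_apply (g g' : G) (x : Fin n → F) : (g * g').1.1 *ᵥ x = g.1.1 *ᵥ (g'.1.1 *ᵥ x) :=
  (mulVec_mulVec x g.1.1 g'.1.1).symm

omit [Fintype F] in
theorem one_apply (x : Fin n → F) : (1 : G).1.1 *ᵥ x = x := one_mulVec x

omit [Fintype F] in
theorem inv_apply_apply (g : G) (x : Fin n → F) : g⁻¹.1.1 *ᵥ (g.1.1 *ᵥ x) = x := by
  rw [← mul_apply, inv_mul_cancel, one_apply]

omit [Fintype F] in
theorem apply_inv_apply (g : G) (x : Fin n → F) : g.1.1 *ᵥ (g⁻¹.1.1 *ᵥ x) = x := by
  rw [← mul_apply, mul_inv_cancel, one_apply]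

omit [Fintype F] in
theorem mulVec_ne_zero (g : G) {x : Fin n → F} (hx : x ≠ 0) : g.1.1 *ᵥ x ≠ 0 := fun e => hx (by
  rw [← inv_apply_apply g x, e, mulVec_zero])

include hF in
theorem h_zero_left (y : Fin n → F) : h 0 y = 0 := by simp [Cfsg.hermForm]

include hF in
theorem h_zero_right (y : Fin n → F) : h y 0 = 0 := by rw [← h_swap hF (0 : Fin n → F) y, h_zero_left hF, map_zero]

theorem h_neg_left (x y : Fin n → F) : h (-x) y = -h x y := by
  rw [← neg_one_smul F x, h_smul_left, neg_one_mul]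

include hF in
theorem h_neg_right (x y : Fin n → F) : h x (-y) = -h x y := by
  rw [← neg_one_smul F y, h_smul_right hF, map_neg, map_one, neg_one_mul]

include hF in
theorem h_sum_left {ι : Type*} (s : Finset ι) (f : ι → Fin n → F) (y : Fin n → F) :
    h (∑ i ∈ s, f i) y = ∑ i ∈ s, h (f i) y := by
  classical
  induction s using Finset.induction_on with
  | empty => simp [h_zero_left hF]
  | insert a s ha ih => rw [Finset.sum_insert ha, h_add_left, ih, Finset.sum_insert ha]

include hF in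
theorem h_sum_right {ι : Type*} (s : Finset ι) (f : ι → Fin n → F) (y : Fin n → F) :
    h y (∑ i ∈ s, f i) = ∑ i ∈ s, h y (f i) := by
  rw [← h_swap hF (∑ i ∈ s, f i) y, h_sum_left hF, map_sum]
  exact Finset.sum_congr rfl fun i _ => h_swap hF _ _

theorem eq_zero_of_frob {x : F} (e : σ x = 0) : x = 0 := (map_eq_zero (frob hF)).1 e

include hF in
theorem perp_symm {x y : Fin n → F} (e : h x y = 0) : h y x = 0 := by rw [← h_swap hF x y, e, map_zero]

/-- An element from an isometric linear map. -/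
noncomputable def ofLin (φ : (Fin n → F) →ₗ[F] (Fin n → F)) (hφ : ∀ x y, h (φ x) (φ y) = h x y) : G :=
  mkGU hF (LinearMap.toMatrix' φ) fun x y => by
    rw [LinearMap.toMatrix'_mulVec, LinearMap.toMatrix'_mulVec]; exact hφ x y

theorem ofLin_apply (φ : (Fin n → F) →ₗ[F] (Fin n → F)) (hφ : ∀ x y, h (φ x) (φ y) = h x y) (x : Fin n → F) :
    (ofLin hF φ hφ).1.1 *ᵥ x = φ x := LinearMap.toMatrix'_mulVec φ x

/-- The root element at an isotropic vector. -/
noncomputable def root (z : Fin n → F) (c : F) : G :=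
  open Classical in if hg : Good hF z c then tg hF z c hg else 1

theorem good_iso {z : Fin n → F} {c : F} (hz : h z z = 0) (hc : c ∈ skew hF) : Good hF z c := by
  unfold Good
  rw [hz, mul_zero, add_zero]
  exact hc

theorem root_apply {z : Fin n → F} {c : F} (hz : h z z = 0) (hc : c ∈ skew hF) (x : Fin n → F) :
    (root hF z c).1.1 *ᵥ x = x + (c * h x z) • z := by
  rw [root, dif_pos (good_iso hF hz hc), tg_mulVec]

theorem root_mem {z : Fin n → F} {c : F} (hz : h z z = 0) (hc : c ∈ skew hF) : root hF z c ∈ det1 F q n := by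
  rw [mem_det1, root, dif_pos (good_iso hF hz hc), det_tg, hz, mul_zero, add_zero]

theorem root_zero {z : Fin n → F} (hz : h z z = 0) : root hF z 0 = 1 :=
  gu_ext fun x => by rw [root_apply hF hz (zero_mem _), one_apply]; simp

theorem root_mul {z : Fin n → F} {c d : F} (hz : h z z = 0) (hc : c ∈ skew hF) (hd : d ∈ skew hF) :
    root hF z c * root hF z d = root hF z (c + d) := gu_ext fun x => by
  rw [mul_apply, root_apply hF hz hd, root_apply hF hz hc, root_apply hF hz (add_mem hc hd), h_add_left,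
    h_smul_left, hz]
  module

theorem root_inv {z : Fin n → F} {c : F} (hz : h z z = 0) (hc : c ∈ skew hF) :
    (root hF z c)⁻¹ = root hF z (-c) :=
  inv_eq_of_mul_eq_one_right (by rw [root_mul hF hz hc (neg_mem hc), add_neg_cancel, root_zero hF hz])

theorem root_conj (g : G) {z : Fin n → F} {c : F} (hz : h z z = 0) (hc : c ∈ skew hF) :
    g * root hF z c * g⁻¹ = root hF (g.1.1 *ᵥ z) c := gu_ext fun x => by
  rw [mul_apply, mul_apply, root_apply hF hz hc, root_apply hF (by rw [gu_h g, hz]) hc, mulVec_add,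
    mulVec_smul, apply_inv_apply]
  conv_rhs => rw [← apply_inv_apply g x, gu_h g, apply_inv_apply]

include hF in
theorem smul_iso {z : Fin n → F} (hz : h z z = 0) (k : F) : h (k • z) (k • z) = 0 := by
  rw [h_smul_left, h_smul_right hF, hz, mul_zero, mul_zero]

theorem root_smul {z : Fin n → F} {c : F} (hz : h z z = 0) (hc : c ∈ skew hF) (k : F) :
    root hF (k • z) c = root hF z (c * (k * σ k)) := gu_ext fun x => by
  rw [root_apply hF (smul_iso hF hz k) hc, root_apply hF hz (skew_mul_fix hF hc (by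
    rw [map_mul, frob_frob hF, mul_comm])), h_smul_right hF, smul_smul]
  congr 2
  ring

/-- All root elements at `x` lie in `H`. -/
def Rt (H : Subgroup G) (x : Fin n → F) : Prop := x ≠ 0 ∧ h x x = 0 ∧ ∀ c ∈ skew hF, root hF x c ∈ H

theorem rt_smul {H : Subgroup G} {x : Fin n → F} (hx : Rt hF H x) {k : F} (hk : k ≠ 0) : Rt hF H (k • x) :=
  ⟨smul_ne_zero hk hx.1, smul_iso hF hx.2.1 k, fun c hc => by
    rw [root_smul hF hx.2.1 hc]
    exact hx.2.2 _ (skew_mul_fix hF hc (by rw [map_mul, frob_frob hF, mul_comm]))⟩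

theorem rt_map {H : Subgroup G} {x : Fin n → F} (hx : Rt hF H x) {g : G} (hg : g ∈ H) :
    Rt hF H (g.1.1 *ᵥ x) :=
  ⟨mulVec_ne_zero g hx.1, by rw [gu_h g, hx.2.1], fun c hc => by
    rw [← root_conj hF g hx.2.1 hc]; exact mul_mem (mul_mem hg (hx.2.2 c hc)) (inv_mem hg)⟩

theorem rt_move {H : Subgroup G} {x r : Fin n → F} (hx : Rt hF H x) (hr : Rt hF H r) {c : F} (hc : c ∈ skew hF) :
    Rt hF H (x + (c * h x r) • r) := by
  rw [← root_apply hF hr.2.1 hc x]
  exact rt_map hF hx (hr.2.2 c hc)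

include hF in
/-- The group of determinant one is generated by root elements. -/
theorem eq_det1_of_roots (hn : 3 ≤ n) (h32 : ¬ (n = 3 ∧ q = 2)) {H : Subgroup G}
    (hR : ∀ x, x ≠ 0 → h x x = 0 → ∀ c ∈ skew hF, root hF x c ∈ H) : det1 F q n ≤ H := by
  intro g hg
  refine (Subgroup.closure_le (K := H)).2 ?_ (det_one_mem hF hn h32 g (mem_det1.1 hg))
  rintro _ ⟨z, c, hg', hz, rfl⟩
  rw [SetLike.mem_coe]
  have hc : c ∈ skew hF := by
    have := hg'
    unfold Good at this
    rwa [hz, mul_zero, add_zero] at this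
  have e : tg hF z c hg' = root hF z c := gu_ext fun x => by rw [tg_mulVec, root_apply hF hz hc]
  rw [e]
  by_cases hz0 : z = 0
  · have : root hF z c = 1 := gu_ext fun x => by rw [root_apply hF hz hc, hz0, one_apply]; simp
    rw [this]; exact one_mem _
  · exact hR z hz0 hz c hc

/-- The inclusion of `SU`. -/
noncomputable def incl : Cfsg.SU n F q →* G where
  toFun g := mkGU hF (UnitarySimple.mat g) (UnitarySimple.su_h g)
  map_one' := gu_ext fun _ => rfl
  map_mul' _ _ := gu_ext fun _ => rfl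

theorem incl_injective : Function.Injective (incl (n := n) hF) := fun _ _ e =>
  UnitarySimple.su_ext fun x => congrArg (fun a : G => a.1.1 *ᵥ x) e

theorem incl_range : (incl (n := n) hF).range = det1 F q n := by
  refine le_antisymm ?_ fun g hg => ?_
  · rintro _ ⟨g, rfl⟩
    exact mem_det1.2 (g : Matrix.SpecialLinearGroup (Fin n) F).2
  · exact ⟨⟨⟨g.1.1, mem_det1.1 hg⟩, g.2⟩, gu_ext fun _ => rfl⟩

include hF in
/-- A root element is a commutator of elements of determinant one. -/
theorem root_commutator (hn : 3 ≤ n) {z : Fin n → F} {c : F} (hz : h z z = 0) (hc : c ∈ skew hF) :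
    ∃ a ∈ det1 F q n, ∃ b ∈ det1 F q n, a * b * a⁻¹ * b⁻¹ = root hF z c := by
  obtain ⟨a, b, e⟩ := UnitarySimple.tv_mem_commutatorSet hF hn hz (A := UnitarySimple.tv hF z hz c hc) (c := c) rfl
  refine ⟨incl hF a, (incl_range hF).le ⟨a, rfl⟩, incl hF b, (incl_range hF).le ⟨b, rfl⟩, ?_⟩
  rw [← map_inv, ← map_inv, ← map_mul, ← map_mul, ← map_mul, ← commutatorElement_def, e]
  exact gu_ext fun x => (tmat_mulVec z c x).trans (root_apply hF hz hc x).symm

/-! ### Transitivity -/

include hF in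
/-- Witt's theorem for two families with the same Gram matrix. -/
theorem witt {k : ℕ} {s t : Fin k → Fin n → F} (hs : LinearIndependent F s) (ht : LinearIndependent F t)
    (hg : ∀ i j, h (t i) (t j) = h (s i) (s j)) : ∃ g : G, ∀ i, g.1.1 *ᵥ s i = t i := by
  let b := Basis.span hs
  let φ := b.constr F t
  have hb : ∀ i, (b i : Fin n → F) = s i := fun i =>
    congrArg Subtype.val (Basis.span_apply hs i) |>.trans rfl
  have hinj : Function.Injective φ := by
    rw [injective_iff_map_eq_zero]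
    intro x hx
    rw [Basis.constr_apply_fintype] at hx
    exact b.equivFun.injective (funext fun i =>
      (Fintype.linearIndependent_iff.mp ht _ hx i).trans (by simp))
  have hx : ∀ x : Submodule.span F (Set.range s), (x : Fin n → F) = ∑ i, b.repr x i • s i := fun x => by
    refine (congrArg Subtype.val (b.sum_repr x)).symm.trans ?_
    rw [AddSubmonoidClass.coe_finset_sum]
    exact Finset.sum_congr rfl fun i _ => by rw [Submodule.coe_smul, hb]
  obtain ⟨g, hg'⟩ := IsotropicCount.herm_extend hF _ φ hinj (fun x x' => by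
    rw [Basis.constr_apply_fintype, Basis.constr_apply_fintype, hx x, hx x', h_sum_left hF, h_sum_left hF]
    refine Finset.sum_congr rfl fun i _ => ?_
    rw [h_sum_right hF, h_sum_right hF]
    refine Finset.sum_congr rfl fun j _ => ?_
    simp only [h_smul_left, h_smul_right hF, hg, Basis.equivFun_apply])
  exact ⟨g, fun i => by rw [← hb, hg', Basis.constr_basis]⟩

include hF in
theorem det_norm (g : G) : g.1.1.det * σ g.1.1.det = 1 := by
  have := UnitaryBasic.det_pow hF g.2
  rw [frob_apply, ← pow_succ']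
  exact congrArg Units.val this

include hF in
theorem exists_det {w : F} (hw : w * σ w = 1) {u : Fin n → F} (hu : h u u = 1) :
    ∃ g : G, g.1.1.det = w ∧ ∀ x, h x u = 0 → g.1.1 *ᵥ x = x := by
  have hg : Good hF u (w - 1) := (scale_move hF hu hw).1
  exact ⟨tg hF u (w - 1) hg, by rw [det_tg, hu]; ring,
    fun x hx => by rw [tg_mulVec, hx, mul_zero, zero_smul, add_zero]⟩

include hF in
/-- Correcting the determinant at a unit vector. -/
theorem det_fix (g : G) {u : Fin n → F} (hu : h u u = 1) :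
    ∃ g' ∈ det1 F q n, ∀ x, h (g.1.1 *ᵥ x) u = 0 → g'.1.1 *ᵥ x = g.1.1 *ᵥ x := by
  have hd := det_norm hF g
  have h0 : g.1.1.det ≠ 0 := left_ne_zero_of_mul_eq_one hd
  obtain ⟨k, hk, hfix⟩ := exists_det hF (w := (g.1.1.det)⁻¹) (by rw [map_inv₀, ← mul_inv, hd, inv_one]) hu
  refine ⟨k * g, mem_det1.2 ?_, fun x hx => by rw [mul_apply, hfix _ hx]⟩
  show (k.1.1 * g.1.1).det = 1
  rw [det_mul, hk, inv_mul_cancel₀ h0]

/-- The map scaling a hyperbolic pair. -/
noncomputable def hypScale (b y : Fin n → F) (r : F) : (Fin n → F) →ₗ[F] (Fin n → F) :=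
  Matrix.mulVecLin (1 + Matrix.vecMulVec ((r - 1) • b) (fun j => y j ^ q) +
    Matrix.vecMulVec (((σ r)⁻¹ - 1) • y) (fun j => b j ^ q))

theorem hypScale_apply (b y : Fin n → F) (r : F) (x : Fin n → F) :
    hypScale hF b y r x = x + ((r - 1) * h x y) • b + (((σ r)⁻¹ - 1) * h x b) • y := by
  have e : ∀ u : Fin n → F, (fun j => u j ^ q) ⬝ᵥ x = h x u := fun u => dotProduct_comm _ _
  simp only [hypScale, Matrix.mulVecLin_apply, Matrix.add_mulVec, Matrix.one_mulVec, Matrix.vecMulVec_mulVec,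
    op_smul_eq_smul, e, smul_smul]
  congr 2 <;> ring

include hF in
theorem hyp_isometry {b y : Fin n → F} (hb : h b b = 0) (hy : h y y = 0) (hby : h b y = 1) {r : F} (hr : r ≠ 0)
    (x z : Fin n → F) : h (hypScale hF b y r x) (hypScale hF b y r z) = h x z := by
  have hsr : σ r ≠ 0 := fun e => hr (eq_zero_of_frob hF e)
  have hyb : h y b = 1 := by rw [← h_swap hF b y, hby, map_one]
  simp only [hypScale_apply, h_add_left, h_add_right hF, h_smul_left, h_smul_right hF, hb, hy, hby, hyb,
    map_mul, map_sub, map_inv₀, map_one, frob_frob hF, h_swap hF]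
  field_simp
  ring

include hF in
theorem det_hypScale {b y : Fin n → F} (hb : h b b = 0) (hy : h y y = 0) (hby : h b y = 1) (r : F) :
    (LinearMap.toMatrix' (hypScale hF b y r)).det = r * (σ r)⁻¹ := by
  have hyb : h y b = 1 := by rw [← h_swap hF b y, hby, map_one]
  rw [hypScale, ← Matrix.toLin'_apply', LinearMap.toMatrix'_toLin']
  let U : Matrix (Fin n) (Fin 2) F := Matrix.of fun i => ![((r - 1) • b) i, (((σ r)⁻¹ - 1) • y) i]
  let V : Matrix (Fin 2) (Fin n) F := Matrix.of ![fun j => y j ^ q, fun j => b j ^ q]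
  have e : Matrix.vecMulVec ((r - 1) • b) (fun j => y j ^ q) +
      Matrix.vecMulVec (((σ r)⁻¹ - 1) • y) (fun j => b j ^ q) = U * V := by
    ext i j
    simp [U, V, Matrix.mul_apply, Fin.sum_univ_two, Matrix.vecMulVec_apply]
    ring
  rw [add_assoc, e, Matrix.det_one_add_mul_comm]
  have eh : ∀ u z : Fin n → F, ∑ j, z j ^ q * u j = h u z := fun u z =>
    Finset.sum_congr rfl fun j _ => mul_comm _ _
  have e2 : V * U = !![(r - 1) * h b y, ((σ r)⁻¹ - 1) * h y y; (r - 1) * h b b, ((σ r)⁻¹ - 1) * h y b] := by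
    ext i j
    fin_cases i <;> fin_cases j <;>
      simp [U, V, Matrix.mul_apply, ← eh, Finset.mul_sum, mul_left_comm]
  rw [e2, hby, hyb, hy, hb]
  simp [Matrix.det_fin_two]

include hF in
theorem exists_hyp_det {b y : Fin n → F} (hb : h b b = 0) (hy : h y y = 0) (hby : h b y = 1) {w : F}
    (hw : w * σ w = 1) : ∃ g : G, g.1.1.det = w ∧ (∃ r : F, r ≠ 0 ∧ g.1.1 *ᵥ b = r • b) ∧
      ∀ x, h x b = 0 → (∃ t : F, g.1.1 *ᵥ x = x + t • b) ∧
        (h x y = 0 → g.1.1 *ᵥ x = x) := by
  obtain ⟨r, hr0, hr⟩ := exists_quot hF hw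
  have hsr : σ r ≠ 0 := fun e => hr0 (eq_zero_of_frob hF e)
  have hiso := hyp_isometry hF hb hy hby hr0
  have happ : ∀ x, (ofLin hF _ hiso).1.1 *ᵥ x = x + ((r - 1) * h x y) • b + (((σ r)⁻¹ - 1) * h x b) • y :=
    fun x => by rw [ofLin_apply, hypScale_apply]
  refine ⟨ofLin hF _ hiso, ?_, ⟨r, hr0, ?_⟩, fun x hx => ⟨?_, fun hxy => ?_⟩⟩
  · show (LinearMap.toMatrix' (hypScale hF b y r)).det = w
    rw [det_hypScale hF hb hy hby, ← div_eq_mul_inv, div_eq_iff hsr]
    exact hr
  · rw [happ, hby, hb]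
    module
  · rw [happ, hx, mul_zero, zero_smul, add_zero]
    exact ⟨_, rfl⟩
  · rw [happ, hx, hxy]; simp

include hF in
/-- An isotropic partner. -/
theorem exists_iso_partner {b : Fin n → F} (hb0 : b ≠ 0) (hb : h b b = 0) :
    ∃ y, h y y = 0 ∧ h b y = 1 ∧ h y b = 1 := by
  obtain ⟨y, h1, h2⟩ := UnitarySimple.exists_partner hF hb0
  obtain ⟨d, hd⟩ := exists_trace_one hF
  have hyy := h_swap hF y y
  refine ⟨y + (-(d * h y y)) • b, ?_, ?_, ?_⟩
  · simp only [h_add_left, h_add_right hF, h_smul_left, h_smul_right hF, hb, h1, h2, map_neg, map_mul, hyy]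
    linear_combination -(h y y) * hd
  · rw [h_add_right hF, h_smul_right hF, hb, h1, mul_zero, add_zero]
  · rw [h_add_left, h_smul_left, hb, h2, mul_zero, add_zero]

include hF in
/-- Correcting the determinant along an isotropic line. -/
theorem det_fix_line (g : G) {b y : Fin n → F} (hb : h b b = 0) (hy : h y y = 0) (hby : h b y = 1) :
    ∃ g' ∈ det1 F q n, (∀ x, h (g.1.1 *ᵥ x) b = 0 → ∃ t : F, g'.1.1 *ᵥ x = g.1.1 *ᵥ x + t • b) ∧
      (∀ x, h (g.1.1 *ᵥ x) b = 0 → h (g.1.1 *ᵥ x) y = 0 → g'.1.1 *ᵥ x = g.1.1 *ᵥ x) ∧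
      (∀ x, (∃ r : F, r ≠ 0 ∧ g.1.1 *ᵥ x = r • b) → ∃ r : F, r ≠ 0 ∧ g'.1.1 *ᵥ x = r • b) := by
  have hd := det_norm hF g
  have h0 : g.1.1.det ≠ 0 := left_ne_zero_of_mul_eq_one hd
  obtain ⟨k, hk, ⟨r, hr0, hr⟩, hfix⟩ :=
    exists_hyp_det hF hb hy hby (w := (g.1.1.det)⁻¹) (by rw [map_inv₀, ← mul_inv, hd, inv_one])
  refine ⟨k * g, mem_det1.2 ?_, fun x hx => by rw [mul_apply]; exact (hfix _ hx).1,
    fun x hx hx' => by rw [mul_apply]; exact (hfix _ hx).2 hx', fun x hx => ?_⟩
  · show (k.1.1 * g.1.1).det = 1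
    rw [det_mul, hk, inv_mul_cancel₀ h0]
  · obtain ⟨s, hs0, hs⟩ := hx
    exact ⟨s * r, mul_ne_zero hs0 hr0, by rw [mul_apply, hs, mulVec_smul, hr, smul_smul]⟩

theorem single_li {x : Fin n → F} (hx : x ≠ 0) : LinearIndependent F ![x] := LinearIndependent.of_subsingleton 0 hx

include hF in
/-- Elements of determinant one are transitive on nonzero vectors of one norm. -/
theorem trans_level (hn : 3 ≤ n) {x y : Fin n → F} (hx : x ≠ 0) (hy : y ≠ 0) (e : h x x = h y y) :
    ∃ g ∈ det1 F q n, g.1.1 *ᵥ x = y := by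
  obtain ⟨g, hg⟩ := witt hF (single_li hx) (single_li hy) (fun i j => by
    fin_cases i; fin_cases j; simpa using e.symm)
  have hg0 : g.1.1 *ᵥ x = y := by simpa using hg 0
  obtain ⟨u, hu, huy⟩ := UnitaryTransConj.exists_unit_perp hF hn hy
  obtain ⟨g', hg', hfix⟩ := det_fix hF g hu
  exact ⟨g', hg', by rw [hfix x (by rw [hg0]; exact huy), hg0]⟩

/-! ### Non-degenerate pairs -/

include hF in
theorem exists_sqrt_norm {a : Fin n → F} (ha : h a a ≠ 0) :
    ∃ t : F, t ≠ 0 ∧ t * σ t = h a a ∧ h (t⁻¹ • a) (t⁻¹ • a) = 1 := by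
  obtain ⟨t, ht⟩ := exists_norm_eq hF (h_swap hF a a)
  have ht0 : t ≠ 0 := fun e => ha (by rw [← ht, e, zero_mul])
  refine ⟨t, ht0, ht, ?_⟩
  rw [h_smul_left, h_smul_right hF, ← ht, map_inv₀]
  have hs : σ t ≠ 0 := fun e => ht0 (eq_zero_of_frob hF e)
  field_simp

/-- A pair spans a non-degenerate plane. -/
def NdPair (a b : Fin n → F) : Prop := h a a * h b b - h a b * h b a ≠ 0

set_option maxHeartbeats 800000 in
include hF in
/-- A non-degenerate pair in terms of an orthonormal pair. -/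
theorem ortho {a b : Fin n → F} (hnd : NdPair (q := q) a b) :
    ∃ (e e' : Fin n → F) (p r p' r' : F), h e e = 1 ∧ h e' e' = 1 ∧ h e e' = 0 ∧ a = p • e + r • e' ∧
      b = p' • e + r' • e' ∧ p * r' - r * p' ≠ 0 := by
  have main : ∀ {a b : Fin n → F}, NdPair (q := q) a b → h a a ≠ 0 →
      ∃ (e e' : Fin n → F) (p r p' r' : F), h e e = 1 ∧ h e' e' = 1 ∧ h e e' = 0 ∧ a = p • e + r • e' ∧
        b = p' • e + r' • e' ∧ p * r' - r * p' ≠ 0 := by
    intro a b hnd ha
    obtain ⟨t, ht0, ht, he⟩ := exists_sqrt_norm hF ha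
    set b' := b - (h b a / h a a) • a with hb'
    have hb'a : h b' a = 0 := by rw [hb', h_sub_left, h_smul_left, div_mul_cancel₀ _ ha, sub_self]
    have hb'b' : h b' b' ≠ 0 := by
      intro e
      apply hnd
      rw [hb', h_sub_right hF, h_smul_right hF, ← hb', hb'a, mul_zero, sub_zero, hb', h_sub_left, h_smul_left] at e
      field_simp at e
      linear_combination e
    obtain ⟨t', ht0', ht', he'⟩ := exists_sqrt_norm hF hb'b'
    refine ⟨t⁻¹ • a, t'⁻¹ • b', t, 0, h b a / h a a * t, t', he, he', ?_, ?_, ?_, ?_⟩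
    · rw [h_smul_left, h_smul_right hF, perp_symm hF hb'a, mul_zero, mul_zero]
    · rw [smul_smul, mul_inv_cancel₀ ht0, one_smul, zero_smul, add_zero]
    · rw [smul_smul, smul_smul, mul_assoc, mul_inv_cancel₀ ht0, mul_one, mul_inv_cancel₀ ht0', one_smul, hb']
      abel
    · simp [ht0, ht0']
  by_cases ha : h a a = 0
  · by_cases hb : h b b = 0
    · have hba : h b a ≠ 0 := fun e => hnd (by rw [ha, e]; ring)
      obtain ⟨d, hd⟩ := exists_trace_one hF
      set τ := d / h b a with hτ
      have hab : h a b = σ (h b a) := (h_swap hF b a).symm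
      have hsb : σ (h b a) ≠ 0 := fun e => hba (eq_zero_of_frob hF e)
      have hn' : h (a + τ • b) (a + τ • b) = 1 := by
        rw [h_add_left, h_add_right hF, h_add_right hF, h_smul_left, h_smul_left, h_smul_right hF,
          h_smul_right hF, ha, hb, hab, hτ, map_div₀]
        field_simp
        linear_combination (σ (h b a) * h b a) * hd
      have hnd' : NdPair (q := q) (a + τ • b) b := by
        intro e
        apply hnd
        rw [hb, mul_zero, h_add_left, h_add_right hF, h_smul_left, h_smul_right hF, hb] at e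
        rw [hb, mul_zero]
        linear_combination e
      obtain ⟨e, e', p, r, p', r', h1, h2, h3, h4, h5, h6⟩ := main hnd' (by rw [hn']; exact one_ne_zero)
      refine ⟨e, e', p - τ * p', r - τ * r', p', r', h1, h2, h3, ?_, h5, fun e => h6 (by linear_combination e)⟩
      have : a = (p • e + r • e') - τ • (p' • e + r' • e') := by rw [← h4, ← h5]; abel
      rw [this]
      module
    · obtain ⟨e, e', p, r, p', r', h1, h2, h3, h4, h5, h6⟩ := main (a := b) (b := a) (fun e => hnd (by
        linear_combination e)) hb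
      exact ⟨e, e', p', r', p, r, h1, h2, h3, h5, h4, fun e => h6 (by linear_combination -e)⟩
  · exact main hnd ha

include hF in
theorem pair_li {a b : Fin n → F} (hnd : NdPair (q := q) a b) : LinearIndependent F ![a, b] := by
  rw [LinearIndependent.pair_iff]
  intro s t e
  have e1 : s * h a a + t * h b a = 0 := by
    rw [← h_smul_left, ← h_smul_left, ← h_add_left, e, h_zero_left hF]
  have e2 : s * h a b + t * h b b = 0 := by
    rw [← h_smul_left, ← h_smul_left, ← h_add_left, e, h_zero_left hF]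
  constructor
  · exact (mul_eq_zero.1 (show s * (h a a * h b b - h a b * h b a) = 0 by
      linear_combination h b b * e1 - h b a * e2)).resolve_right hnd
  · exact (mul_eq_zero.1 (show t * (h a a * h b b - h a b * h b a) = 0 by
      linear_combination h a a * e2 - h a b * e1)).resolve_right hnd

include hF in
/-- Elements of determinant one are transitive on non-degenerate pairs with one Gram matrix. -/
theorem trans_pair (hn : 3 ≤ n) {a b x y : Fin n → F} (hnd : NdPair (q := q) a b)
    (h1 : h x x = h a a) (h2 : h x y = h a b) (h3 : h y y = h b b) :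
    ∃ g ∈ det1 F q n, g.1.1 *ᵥ a = x ∧ g.1.1 *ᵥ b = y := by
  have h4 : h y x = h b a := by rw [← h_swap hF x y, h2, h_swap hF]
  have hnd' : NdPair (q := q) x y := by rw [NdPair, h1, h2, h3, h4]; exact hnd
  obtain ⟨g, hg⟩ := witt hF (pair_li hF hnd) (pair_li hF hnd') (fun i j => by
    fin_cases i <;> fin_cases j <;> simp [h1, h2, h3, h4])
  have ga : g.1.1 *ᵥ a = x := by simpa using hg 0
  have gb : g.1.1 *ᵥ b = y := by simpa using hg 1
  obtain ⟨e, e', p, r, p', r', he, he', hee, hx, hy, -⟩ := ortho hF hnd'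
  obtain ⟨u, hu, huu⟩ := unit_perp hF ![e, e'] ![e, e'] (fun i => Submodule.subset_span ⟨i, rfl⟩)
    (fun i j => by fin_cases i <;> fin_cases j <;> simp [he, he', hee, perp_symm hF hee]) (by omega)
  have hue : h e u = 0 := perp_symm hF (hu 0)
  have hue' : h e' u = 0 := perp_symm hF (hu 1)
  obtain ⟨g', hg', hfix⟩ := det_fix hF g huu
  refine ⟨g', hg', ?_, ?_⟩
  · rw [hfix a (by rw [ga, hx, h_add_left, h_smul_left, h_smul_left, hue, hue']; ring), ga]
  · rw [hfix b (by rw [gb, hy, h_add_left, h_smul_left, h_smul_left, hue, hue']; ring), gb]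

end CfsgLib.PsuMin
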