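import Mathlib
import Cfsg.Agent.Lib.PsuMin.Space

/-! Counting vectors and pairs with prescribed Hermitian products. -/

set_option autoImplicit false

namespace CfsgLib.PsuMin

open Matrix CfsgLib.UnitaryTransvection Module CfsgLib.HermCount

variable {F : Type*} [Field F] [Fintype F] {q n : ℕ} (hF : Fintype.card F = q ^ 2)

local notation "h" => Cfsg.hermForm n F q
local notation "σ" => frob hF

variable (F q) in
/-- The number of nonzero isotropic vectors. -/
noncomputable def L0 (n : ℕ) : ℕ := ({x : Fin n → F | x ≠ 0 ∧ Cfsg.hermForm n F q x x = 0}).ncard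

include hF in
theorem L0_succ (n : ℕ) : L0 F q n + 1 = A0 F q n := by
  classical
  have h0 : (0 : Fin n → F) ∈ {x : Fin n → F | Cfsg.hermForm n F q x x = 0} := h_zero_left hF _
  have e : {x : Fin n → F | x ≠ 0 ∧ Cfsg.hermForm n F q x x = 0} =
      {x : Fin n → F | Cfsg.hermForm n F q x x = 0} \ {0} := by
    ext x; simp [and_comm]
  rw [L0, e, Set.ncard_sdiff_singleton_add_one h0 (Set.toFinite _), ← Nat.card_coe_set_eq]
  rfl

include hF in
theorem L0_eq (k : ℕ) : (L0 F q (k + 1) : ℤ) =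
    ((q : ℤ) ^ (k + 1) - (-1) ^ (k + 1)) * ((q : ℤ) ^ k + (-1) ^ (k + 1)) := by
  have hq := two_le_q hF
  have h0 := q_mul_A0 hF (k + 1)
  rw [← L0_succ hF, neg_pow] at h0
  push_cast at h0
  have hs : ((-1 : ℤ) ^ (k + 1)) * ((-1 : ℤ) ^ (k + 1)) = 1 := by rw [← mul_pow]; norm_num
  refine mul_left_cancel₀ (show (q : ℤ) ≠ 0 by exact_mod_cast (by omega : q ≠ 0)) ?_
  have e1 : ((q : ℤ) ^ (2 * (k + 1))) = (q : ℤ) ^ (k + 1) * (q : ℤ) ^ k * q := by
    rw [show 2 * (k + 1) = k + 1 + k + 1 by ring, pow_succ, pow_add]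
  rw [e1] at h0
  have e2 : (q : ℤ) ^ (k + 1) = (q : ℤ) ^ k * q := pow_succ _ _
  rw [e2] at h0 ⊢
  linear_combination h0 + (q : ℤ) * hs

include hF in
theorem A1_eq (k : ℕ) : (A1 F q (k + 1) : ℤ) = (q : ℤ) ^ k * ((q : ℤ) ^ (k + 1) - (-1) ^ (k + 1)) := by
  have hq := two_le_q hF
  have h0 := q_mul_A1 hF (k + 1)
  rw [neg_pow] at h0
  refine mul_left_cancel₀ (show (q : ℤ) ≠ 0 by exact_mod_cast (by omega : q ≠ 0)) ?_
  rw [h0, show 2 * (k + 1) = k + 1 + (k + 1) by ring, pow_add, show (q : ℤ) ^ (k + 1) = (q : ℤ) ^ k * q from pow_succ _ _]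
  ring

include hF in
/-- All nonzero norms occur equally often. -/
theorem card_level {c : F} (hc0 : c ≠ 0) (hc : σ c = c) :
    ({x : Fin n → F | h x x = c}).ncard = A1 F q n := by
  obtain ⟨t, ht⟩ := exists_norm_eq hF hc
  have ht0 : t ≠ 0 := fun e => hc0 (by rw [← ht, e, zero_mul])
  have hs : σ t ≠ 0 := fun e => ht0 (eq_zero_of_frob hF e)
  rw [← Nat.card_coe_set_eq]
  exact Nat.card_congr
    { toFun := fun x => ⟨t⁻¹ • x.1, by
        rw [h_smul_left, h_smul_right hF, x.2, map_inv₀, ← ht]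
        field_simp⟩
      invFun := fun x => ⟨t • x.1, by
        show h (t • x.1) (t • x.1) = c
        rw [h_smul_left, h_smul_right hF, x.2, mul_one, ht]⟩
      left_inv := fun x => Subtype.ext (by simp [smul_smul, ht0])
      right_inv := fun x => Subtype.ext (by simp [smul_smul, ht0]) }

include hF in
theorem herm_single_left (x : Fin n → F) (i : Fin n) : h (Pi.single i 1) x = σ (x i) := by
  rw [← h_swap hF x, UnitaryOrder.herm_single_right hF]

include hF in
/-- The orthogonal of an anisotropic vector. -/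
theorem perp_equiv {m : ℕ} {a : Fin (m + 1) → F} (ha : Cfsg.hermForm (m + 1) F q a a ≠ 0) :
    ∃ E : {x : Fin (m + 1) → F // Cfsg.hermForm (m + 1) F q x a = 0} ≃ (Fin m → F),
      ∀ x y, Cfsg.hermForm m F q (E x) (E y) = Cfsg.hermForm (m + 1) F q x.1 y.1 := by
  classical
  obtain ⟨t, ht0, ht, hu⟩ := exists_sqrt_norm hF ha
  set e : Fin (m + 1) → F := Pi.single 0 1 with he
  have hee : Cfsg.hermForm (m + 1) F q e e = 1 := by
    rw [he, UnitaryOrder.herm_single_right hF]; simp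
  have he0 : e ≠ 0 := fun e0 => by rw [e0, h_zero_left hF] at hee; exact zero_ne_one hee
  have hu0 : t⁻¹ • a ≠ 0 := fun e0 => by rw [e0, h_zero_left hF] at hu; exact zero_ne_one hu
  obtain ⟨g, hg⟩ := witt hF (single_li he0) (single_li hu0) (fun i j => by
    fin_cases i; fin_cases j; simpa using hu.trans hee.symm)
  have hge : g.1.1 *ᵥ e = t⁻¹ • a := by simpa using hg 0
  have hzero : ∀ x, Cfsg.hermForm (m + 1) F q x a = 0 ↔ (g⁻¹.1.1 *ᵥ x) 0 = 0 := fun x => by
    have : a = t • (g.1.1 *ᵥ e) := by rw [hge, smul_smul, mul_inv_cancel₀ ht0, one_smul]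
    rw [this, h_smul_right hF]
    conv_lhs => rw [← apply_inv_apply g x, gu_h g, he, UnitaryOrder.herm_single_right hF]
    exact ⟨fun h0 => (mul_eq_zero.1 h0).resolve_left fun e1 => ht0 (eq_zero_of_frob hF e1),
      fun h0 => by rw [h0, mul_zero]⟩
  have hcons : ∀ x : {x : Fin (m + 1) → F // Cfsg.hermForm (m + 1) F q x a = 0},
      Fin.cons 0 (Fin.tail (g⁻¹.1.1 *ᵥ x.1)) = g⁻¹.1.1 *ᵥ x.1 := fun x => by
    conv_rhs => rw [← Fin.cons_self_tail (g⁻¹.1.1 *ᵥ x.1)]
    rw [(hzero x.1).1 x.2]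
  refine ⟨{ toFun := fun x => Fin.tail (g⁻¹.1.1 *ᵥ x.1)
            invFun := fun y => ⟨g.1.1 *ᵥ Fin.cons 0 y, by rw [hzero, inv_apply_apply]; simp⟩
            left_inv := fun x => Subtype.ext (by
              show g.1.1 *ᵥ Fin.cons 0 (Fin.tail (g⁻¹.1.1 *ᵥ x.1)) = x.1
              rw [hcons, apply_inv_apply])
            right_inv := fun y => by simp [inv_apply_apply] }, fun x y => ?_⟩
  show Cfsg.hermForm m F q (Fin.tail (g⁻¹.1.1 *ᵥ x.1)) (Fin.tail (g⁻¹.1.1 *ᵥ y.1)) = _
  conv_rhs => rw [← gu_h g⁻¹, ← hcons x, ← hcons y, UnitaryOrder.herm_cons]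
  simp

include hF in
theorem card_perp {m : ℕ} {a : Fin (m + 1) → F} (ha : Cfsg.hermForm (m + 1) F q a a ≠ 0)
    (P : F → Prop) :
    ({x : Fin (m + 1) → F | Cfsg.hermForm (m + 1) F q x a = 0 ∧ x ≠ 0 ∧ P (Cfsg.hermForm (m + 1) F q x x)}).ncard =
      ({y : Fin m → F | y ≠ 0 ∧ P (Cfsg.hermForm m F q y y)}).ncard := by
  obtain ⟨E, hE⟩ := perp_equiv hF ha
  have hz : ∀ x, E x = 0 ↔ x.1 = 0 := fun x => by
    constructor
    · intro h0
      have : ∀ y, Cfsg.hermForm (m + 1) F q x.1 y = 0 := by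
        intro y
        set b := Cfsg.hermForm (m + 1) F q y a / Cfsg.hermForm (m + 1) F q a a with hb
        have hy' : Cfsg.hermForm (m + 1) F q (y - b • a) a = 0 := by
          rw [h_sub_left, h_smul_left, hb, div_mul_cancel₀ _ ha, sub_self]
        have := hE x ⟨y - b • a, hy'⟩
        rw [h0, h_zero_left hF, h_sub_right hF, h_smul_right hF, x.2, mul_zero, sub_zero] at this
        exact this.symm
      exact h_nondeg hF this
    · intro h0
      refine h_nondeg hF fun y => ?_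
      rw [← E.apply_symm_apply y, hE, h0, h_zero_left hF]
  rw [← Nat.card_coe_set_eq, ← Nat.card_coe_set_eq]
  exact Nat.card_congr
    { toFun := fun x => ⟨E ⟨x.1, x.2.1⟩, fun h0 => x.2.2.1 ((hz _).1 h0), by rw [hE]; exact x.2.2.2⟩
      invFun := fun y => ⟨(E.symm y.1).1, (E.symm y.1).2, fun h0 => y.2.1 (by
          rw [← E.apply_symm_apply y.1]; exact (hz _).2 h0), by
          rw [← hE, E.apply_symm_apply]; exact y.2.2⟩
      left_inv := fun x => Subtype.ext (by simp)
      right_inv := fun y => Subtype.ext (by simp) }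

include hF in
theorem ncard_nonzero_level {m : ℕ} {c : F} (hc0 : c ≠ 0) :
    {y : Fin m → F | y ≠ 0 ∧ Cfsg.hermForm m F q y y = c} = {y | Cfsg.hermForm m F q y y = c} :=
  Set.ext fun y => ⟨fun hy => hy.2, fun hy => ⟨fun e => hc0 (by rw [← hy, e, h_zero_left hF]), hy⟩⟩

/-- The pairs with the Gram matrix of a given pair. -/
def SameGram (a b : Fin n → F) : Set ((Fin n → F) × (Fin n → F)) :=
  {p | h p.1 p.1 = h a a ∧ h p.1 p.2 = h a b ∧ h p.2 p.2 = h b b}

include hF in
/-- There are many pairs with a given non-degenerate Gram matrix. -/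
theorem pair_count {m : ℕ} {a b : Fin (m + 1) → F} (hnd : NdPair (q := q) a b) :
    A1 F q (m + 1) * A1 F q m ≤ (SameGram (q := q) a b).ncard := by
  classical
  obtain ⟨e, e', p, r, p', r', he, he', hee, ha, hb, hdet⟩ := ortho hF hnd
  set S := Σ u : {u : Fin (m + 1) → F // Cfsg.hermForm (m + 1) F q u u = 1},
    {w : Fin (m + 1) → F | Cfsg.hermForm (m + 1) F q w u.1 = 0 ∧ w ≠ 0 ∧ Cfsg.hermForm (m + 1) F q w w = 1}
  have hS : Nat.card S = A1 F q (m + 1) * A1 F q m := by
    rw [Nat.card_sigma, Finset.sum_congr rfl fun u _ => by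
      rw [Nat.card_coe_set_eq, card_perp hF (by rw [u.2]; exact one_ne_zero) (fun c => c = 1),
        ncard_nonzero_level hF one_ne_zero, ← Nat.card_coe_set_eq]]
    rw [Finset.sum_const, Finset.card_univ, smul_eq_mul, ← Nat.card_eq_fintype_card]
    rfl
  rw [← hS, ← Nat.card_coe_set_eq]
  refine Nat.card_le_card_of_injective
    (fun x => ⟨(p • x.1.1 + r • x.2.1, p' • x.1.1 + r' • x.2.1), ?_⟩) ?_
  · obtain ⟨⟨u, hu⟩, ⟨w, hwu, -, hw⟩⟩ := x
    have huw := perp_symm hF hwu
    have he'e := perp_symm hF hee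
    refine ⟨?_, ?_, ?_⟩ <;>
      simp only [ha, hb, h_add_left, h_add_right hF, h_smul_left, h_smul_right hF, he, he', hee, he'e, hu, hw,
        hwu, huw]
  · rintro ⟨⟨u, hu⟩, ⟨w, hw⟩⟩ ⟨⟨u', hu'⟩, ⟨w', hw'⟩⟩ h1
    simp only [Subtype.mk.injEq, Prod.mk.injEq] at h1
    have e1 : u = u' := by
      have : (p * r' - r * p') • (u - u') = r' • ((p • u + r • w) - (p • u' + r • w')) -
          r • ((p' • u + r' • w) - (p' • u' + r' • w')) := by module
      rw [h1.1, h1.2, sub_self, sub_self, smul_zero, smul_zero, sub_self] at this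
      exact sub_eq_zero.1 ((smul_eq_zero.1 this).resolve_left hdet)
    have e2 : w = w' := by
      have : (p * r' - r * p') • (w - w') = p • ((p' • u + r' • w) - (p' • u' + r' • w')) -
          p' • ((p • u + r • w) - (p • u' + r • w')) := by module
      rw [h1.1, h1.2, sub_self, sub_self, smul_zero, smul_zero, sub_self] at this
      exact sub_eq_zero.1 ((smul_eq_zero.1 this).resolve_left hdet)
    subst e1 e2
    rfl

end CfsgLib.PsuMin
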