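import Mathlib
import Cfsg.Agent.Lib.PsuMin.Count

/-! Orthogonal splittings of the standard space, and closed sets of root points. -/

set_option autoImplicit false

namespace CfsgLib.PsuMin

open Matrix CfsgLib.UnitaryTransvection Module

variable {F : Type*} [Field F] [Fintype F] {q m s : ℕ} (hF : Fintype.card F = q ^ 2)

local notation "σ" => frob hF
local notation "hm" => Cfsg.hermForm m F q
local notation "hs" => Cfsg.hermForm s F q
local notation "hn" => Cfsg.hermForm (m + s) F q

/-- The inclusion of the first coordinates. -/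
def inc (a : Fin m → F) : Fin (m + s) → F := Fin.append a 0

/-- The inclusion of the last coordinates. -/
def top (b : Fin s → F) : Fin (m + s) → F := Fin.append 0 b

/-- The first coordinates. -/
def pr (x : Fin (m + s) → F) : Fin m → F := fun i => x (Fin.castAdd s i)

/-- The last coordinates. -/
def lo (x : Fin (m + s) → F) : Fin s → F := fun j => x (Fin.natAdd m j)

omit [Fintype F] in
theorem ext2 {x y : Fin (m + s) → F} (e1 : pr x = pr y) (e2 : lo x = lo y) : x = y := by
  funext i
  refine Fin.addCases (fun i => congrFun e1 i) (fun j => congrFun e2 j) i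

omit [Fintype F] in
theorem pr_inc (a : Fin m → F) : pr (inc (s := s) a) = a := funext fun i => Fin.append_left _ _ _

omit [Fintype F] in
theorem lo_inc (a : Fin m → F) : lo (inc (s := s) a) = 0 := funext fun i => Fin.append_right _ _ _

omit [Fintype F] in
theorem pr_top (b : Fin s → F) : pr (top (m := m) b) = 0 := funext fun i => Fin.append_left _ _ _

omit [Fintype F] in
theorem lo_top (b : Fin s → F) : lo (top (m := m) b) = b := funext fun i => Fin.append_right _ _ _

omit [Fintype F] in
theorem pr_add (x y : Fin (m + s) → F) : pr (x + y) = pr x + pr y := rfl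

omit [Fintype F] in
theorem lo_add (x y : Fin (m + s) → F) : lo (x + y) = lo x + lo y := rfl

omit [Fintype F] in
theorem pr_smul (c : F) (x : Fin (m + s) → F) : pr (c • x) = c • pr x := rfl

omit [Fintype F] in
theorem lo_smul (c : F) (x : Fin (m + s) → F) : lo (c • x) = c • lo x := rfl

omit [Fintype F] in
theorem pr_zero : pr (0 : Fin (m + s) → F) = 0 := rfl

omit [Fintype F] in
theorem lo_zero : lo (0 : Fin (m + s) → F) = 0 := rfl

omit [Fintype F] in
theorem parts (x : Fin (m + s) → F) : inc (pr x) + top (lo x) = x :=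
  ext2 (by rw [pr_add, pr_inc, pr_top, add_zero]) (by rw [lo_add, lo_inc, lo_top, zero_add])

omit [Fintype F] in
theorem h_split (x y : Fin (m + s) → F) : hn x y = hm (pr x) (pr y) + hs (lo x) (lo y) := by
  simp only [Cfsg.hermForm, Fin.sum_univ_add, pr, lo]

include hF in
theorem h_inc (a b : Fin m → F) : hn (inc a) (inc b) = hm a b := by
  rw [h_split, pr_inc, pr_inc, lo_inc, lo_inc, h_zero_left hF, add_zero]

include hF in
theorem h_top (a b : Fin s → F) : hn (top a) (top b) = hs a b := by
  rw [h_split, pr_top, pr_top, lo_top, lo_top, h_zero_left hF, zero_add]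

/-- A block diagonal matrix. -/
def blkMat (A : Matrix (Fin m) (Fin m) F) (D : Matrix (Fin s) (Fin s) F) :
    Matrix (Fin (m + s)) (Fin (m + s)) F :=
  (Matrix.fromBlocks A 0 0 D).submatrix finSumFinEquiv.symm finSumFinEquiv.symm

omit [Fintype F] in
theorem blkMat_mulVec (A : Matrix (Fin m) (Fin m) F) (D : Matrix (Fin s) (Fin s) F) (x : Fin (m + s) → F) :
    blkMat A D *ᵥ x = Fin.append (A *ᵥ pr x) (D *ᵥ lo x) := by
  funext i
  rw [blkMat, Matrix.submatrix_mulVec_equiv, Matrix.fromBlocks_mulVec]
  refine Fin.addCases (fun i => ?_) (fun j => ?_) i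
  · simp [Fin.append_left, Function.comp_def]
    rfl
  · simp [Fin.append_right, Function.comp_def]
    rfl

/-- A block diagonal isometry. -/
noncomputable def blk (g : Cfsg.GU m F q) (t : Cfsg.GU s F q) : Cfsg.GU (m + s) F q :=
  mkGU hF (blkMat g.1.1 t.1.1) fun x y => by
    rw [blkMat_mulVec, blkMat_mulVec, h_split]
    have e1 : ∀ (a : Fin m → F) (b : Fin s → F), pr (Fin.append a b) = a := fun a b =>
      funext fun i => Fin.append_left _ _ _
    have e2 : ∀ (a : Fin m → F) (b : Fin s → F), lo (Fin.append a b) = b := fun a b =>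
      funext fun i => Fin.append_right _ _ _
    rw [e1, e1, e2, e2, gu_h g, gu_h t, ← h_split]

theorem blk_pr (g : Cfsg.GU m F q) (t : Cfsg.GU s F q) (x : Fin (m + s) → F) :
    pr ((blk hF g t).1.1 *ᵥ x) = g.1.1 *ᵥ pr x := by
  show pr (blkMat g.1.1 t.1.1 *ᵥ x) = _
  rw [blkMat_mulVec]
  exact funext fun i => Fin.append_left _ _ _

theorem blk_lo (g : Cfsg.GU m F q) (t : Cfsg.GU s F q) (x : Fin (m + s) → F) :
    lo ((blk hF g t).1.1 *ᵥ x) = t.1.1 *ᵥ lo x := by
  show lo (blkMat g.1.1 t.1.1 *ᵥ x) = _
  rw [blkMat_mulVec]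
  exact funext fun i => Fin.append_right _ _ _

theorem blk_inc (g : Cfsg.GU m F q) (t : Cfsg.GU s F q) (a : Fin m → F) :
    (blk hF g t).1.1 *ᵥ inc a = inc (g.1.1 *ᵥ a) :=
  ext2 (by rw [blk_pr, pr_inc, pr_inc]) (by rw [blk_lo, lo_inc, lo_inc, mulVec_zero])

theorem blk_top (g : Cfsg.GU m F q) (t : Cfsg.GU s F q) (b : Fin s → F) :
    (blk hF g t).1.1 *ᵥ top b = top (t.1.1 *ᵥ b) :=
  ext2 (by rw [blk_pr, pr_top, pr_top, mulVec_zero]) (by rw [blk_lo, lo_top, lo_top])

theorem blk_mul (g g' : Cfsg.GU m F q) (t t' : Cfsg.GU s F q) :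
    blk hF g t * blk hF g' t' = blk hF (g * g') (t * t') := gu_ext fun x => ext2
  (by rw [mul_apply, blk_pr, blk_pr, blk_pr, mul_apply]) (by rw [mul_apply, blk_lo, blk_lo, blk_lo, mul_apply])

theorem blk_one : blk hF (1 : Cfsg.GU m F q) (1 : Cfsg.GU s F q) = 1 := gu_ext fun x => ext2
  (by rw [blk_pr, one_apply, one_apply]) (by rw [blk_lo, one_apply, one_apply])

theorem blk_inv (g : Cfsg.GU m F q) (t : Cfsg.GU s F q) : (blk hF g t)⁻¹ = blk hF g⁻¹ t⁻¹ :=
  inv_eq_of_mul_eq_one_right (by rw [blk_mul, mul_inv_cancel, mul_inv_cancel, blk_one])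

theorem det_blk (g : Cfsg.GU m F q) (t : Cfsg.GU s F q) :
    (blk hF g t).1.1.det = g.1.1.det * t.1.1.det := by
  show (blkMat g.1.1 t.1.1).det = _
  rw [blkMat, Matrix.det_submatrix_equiv_self, Matrix.det_fromBlocks_zero₂₁]

theorem blk_root {a : Fin m → F} {c : F} (ha : hm a a = 0) (hc : c ∈ skew hF) :
    blk hF (root hF a c) (1 : Cfsg.GU s F q) = root hF (inc a) c := gu_ext fun x => ext2
  (by rw [blk_pr, root_apply hF ha hc, root_apply hF (by rw [h_inc hF, ha]) hc, pr_add, pr_smul, pr_inc,
      h_split x (inc a), pr_inc, lo_inc, h_zero_right hF, add_zero])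
  (by rw [blk_lo, one_apply, root_apply hF (by rw [h_inc hF, ha]) hc, lo_add, lo_smul, lo_inc, smul_zero, add_zero])

/-! ### Prescribed products -/

include hF in
theorem exists_unit (hm1 : 1 ≤ m) : ∃ u : Fin m → F, hm u u = 1 :=
  ⟨Pi.single ⟨0, hm1⟩ 1, by rw [UnitaryOrder.herm_single_right hF]; simp⟩

include hF in
/-- A vector with prescribed norm and product with a given vector. -/
theorem prescribe (hm3 : 3 ≤ m) {b : Fin m → F} (hb : b ≠ 0) (k : F) {c : F} (hc : σ c = c) :
    ∃ b', b' ≠ 0 ∧ b + b' ≠ 0 ∧ hm b b' = k ∧ hm b' b' = c := by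
  by_cases hn0 : hm b b = 0
  · obtain ⟨y, hy, hby, hyb⟩ := exists_iso_partner hF hb hn0
    obtain ⟨u, hu, huu⟩ := unit_perp hF ![b, y] ![y, b] (fun i => by
        fin_cases i
        · exact Submodule.subset_span ⟨1, rfl⟩
        · exact Submodule.subset_span ⟨0, rfl⟩)
      (fun i j => by fin_cases i <;> fin_cases j <;> simp [hn0, hy, hby, hyb]) (by omega)
    have hub : hm u b = 0 := hu 0
    have huy : hm u y = 0 := hu 1
    obtain ⟨e, he⟩ := exists_norm_eq hF hc
    have hbu := perp_symm hF hub
    have hyu := perp_symm hF huy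
    by_cases hk : k = 0
    · by_cases hc0 : c = 0
      · obtain ⟨w, hw⟩ : ∃ w : F, w ≠ 0 ∧ w ≠ -1 := by
          obtain ⟨t, ht1, ht⟩ := exists_omega hF
          exact ⟨-t, neg_ne_zero.2 (left_ne_zero_of_mul_eq_one ht), fun e1 => ht1 (neg_injective e1)⟩
        refine ⟨w • b, smul_ne_zero hw.1 hb, fun e1 => ?_, ?_, ?_⟩
        · refine hb ((smul_eq_zero.1 (show (1 + w) • b = 0 by rw [add_smul, one_smul]; exact e1)).resolve_left ?_)
          exact fun e2 => hw.2 (by linear_combination e2)
        · rw [h_smul_right hF, hn0, mul_zero, hk]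
        · rw [h_smul_left, h_smul_right hF, hn0, hc0, mul_zero, mul_zero]
      · have he0 : e ≠ 0 := fun e1 => hc0 (by rw [← he, e1, zero_mul])
        refine ⟨e • u, fun e1 => ?_, fun e1 => ?_, ?_, ?_⟩
        · have := congrArg (fun x => hm x u) e1
          simp only [h_smul_left, huu, mul_one, h_zero_left hF] at this
          exact he0 this
        · have := congrArg (fun x => hm x u) e1
          simp only [h_add_left, h_smul_left, huu, mul_one, hbu, zero_add, h_zero_left hF] at this
          exact he0 this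
        · rw [h_smul_right hF, hbu, mul_zero, hk]
        · rw [h_smul_left, h_smul_right hF, huu, mul_one, he]
    · refine ⟨σ k • y + e • u, fun e1 => ?_, fun e1 => ?_, ?_, ?_⟩
      · have := congrArg (fun x => hm b x) e1
        simp only [h_add_right hF, h_smul_right hF, frob_frob hF, hby, hbu, mul_one, mul_zero, add_zero,
          h_zero_right hF] at this
        exact hk this
      · have := congrArg (fun x => hm b x) e1
        simp only [h_add_right hF, h_smul_right hF, frob_frob hF, hby, hbu, hn0, mul_one, mul_zero, add_zero,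
          zero_add, h_zero_right hF] at this
        exact hk this
      · simp only [h_add_right hF, h_smul_right hF, frob_frob hF, hby, hbu, mul_one, mul_zero, add_zero]
      · simp only [h_add_left, h_add_right hF, h_smul_left, h_smul_right hF, hy, hyu, huy, huu, mul_one, mul_zero,
          add_zero, zero_add]
        linear_combination he
  · obtain ⟨t, ht0, ht, he⟩ := exists_sqrt_norm hF hn0
    obtain ⟨u, hu, huu⟩ := unit_perp hF ![t⁻¹ • b] ![t⁻¹ • b] (fun i => Submodule.subset_span ⟨i, rfl⟩)
      (fun i j => by fin_cases i <;> fin_cases j <;> simp [he]) (by omega)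
    have hub : hm u b = 0 := by
      have h0 : hm u (t⁻¹ • b) = 0 := hu 0
      rw [h_smul_right hF] at h0
      exact (mul_eq_zero.1 h0).resolve_left fun e1 => inv_ne_zero ht0 (eq_zero_of_frob hF e1)
    obtain ⟨u', hu', huu'⟩ := unit_perp hF ![t⁻¹ • b, u] ![t⁻¹ • b, u] (fun i => Submodule.subset_span ⟨i, rfl⟩)
      (fun i j => by
        have h0 : hm u (t⁻¹ • b) = 0 := hu 0
        fin_cases i <;> fin_cases j <;> simp [he, huu, h0, perp_symm hF h0]) (by omega)
    have hu'b : hm u' b = 0 := by
      have h0 : hm u' (t⁻¹ • b) = 0 := hu' 0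
      rw [h_smul_right hF] at h0
      exact (mul_eq_zero.1 h0).resolve_left fun e1 => inv_ne_zero ht0 (eq_zero_of_frob hF e1)
    have hu'u : hm u' u = 0 := hu' 1
    set N := hm b b
    have hN : σ N = N := h_swap hF b b
    set z := σ k / N with hz
    -- a nonzero vector orthogonal to `b` with the norm that is left
    obtain ⟨p, hp0, hpb, hpp⟩ : ∃ p, p ≠ 0 ∧ hm p b = 0 ∧ hm p p = c - z * σ z * N := by
      obtain ⟨e, he'⟩ := exists_norm_eq hF (c := c - z * σ z * N) (by
        rw [map_sub, map_mul, map_mul, frob_frob hF, hc, hN]; ring)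
      by_cases he0 : e = 0
      · obtain ⟨θ, hθ⟩ := exists_norm_eq hF (c := (-1 : F)) (by simp)
        refine ⟨u + θ • u', fun e1 => ?_, by rw [h_add_left, h_smul_left, hub, hu'b]; simp, ?_⟩
        · have := congrArg (fun x => hm x u) e1
          simp only [h_add_left, h_smul_left, huu, hu'u, mul_zero, add_zero, h_zero_left hF] at this
          exact one_ne_zero this
        · rw [← he', he0, zero_mul]
          simp only [h_add_left, h_add_right hF, h_smul_left, h_smul_right hF, huu, huu', hu'u, perp_symm hF hu'u]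
          linear_combination hθ
      · refine ⟨e • u, fun e1 => ?_, by rw [h_smul_left, hub, mul_zero], ?_⟩
        · have := congrArg (fun x => hm x u) e1
          simp only [h_smul_left, huu, mul_one, h_zero_left hF] at this
          exact he0 this
        · rw [h_smul_left, h_smul_right hF, huu, mul_one, he']
    have hbp := perp_symm hF hpb
    have key : ∀ a : F, a • b + p = 0 → False := by
      intro a e1
      have e2 := congrArg (fun x => hm x b) e1
      simp only [h_add_left, h_smul_left, hpb, add_zero, h_zero_left hF] at e2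
      rw [(mul_eq_zero.1 e2).resolve_right hn0, zero_smul, zero_add] at e1
      exact hp0 e1
    refine ⟨z • b + p, key z, fun e1 => key (1 + z) (by rw [add_smul, one_smul, add_assoc]; exact e1), ?_, ?_⟩
    · rw [h_add_right hF, h_smul_right hF, hbp, add_zero, hz, map_div₀, frob_frob hF, hN, div_mul_cancel₀ _ hn0]
    · simp only [h_add_left, h_add_right hF, h_smul_left, h_smul_right hF, hpb, hbp, hpp]
      ring

/-! ### Closed sets of root points -/

/-- A set of isotropic vectors closed under the moves by its members and containing the first coordinates. -/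
structure Closed (R : Set (Fin (m + s) → F)) : Prop where
  iso : ∀ x ∈ R, x ≠ 0 ∧ hn x x = 0
  scal : ∀ x ∈ R, ∀ k : F, k ≠ 0 → k • x ∈ R
  low : ∀ a : Fin m → F, a ≠ 0 → hm a a = 0 → inc a ∈ R
  move : ∀ x ∈ R, ∀ r ∈ R, ∀ c ∈ skew hF, x + (c * hn x r) • r ∈ R
  trans : ∀ x ∈ R, pr x ≠ 0 → ∀ b : Fin m → F, b ≠ 0 → hm b b = hm (pr x) (pr x) → inc b + top (lo x) ∈ R

/-- The last parts of the members outside the last coordinates. -/
def Shadow (R : Set (Fin (m + s) → F)) : Set (Fin s → F) := {A | A = 0 ∨ ∃ x ∈ R, pr x ≠ 0 ∧ lo x = A}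

omit [Fintype F] in
theorem shadow_of_mem {R : Set (Fin (m + s) → F)} {x : Fin (m + s) → F} (hx : x ∈ R) (hp : pr x ≠ 0) :
    lo x ∈ Shadow R := Or.inr ⟨x, hx, hp, rfl⟩

include hF in
theorem shadow_smul {R : Set (Fin (m + s) → F)} (hR : Closed hF R) (k : F) {A : Fin s → F} (hA : A ∈ Shadow R) :
    k • A ∈ Shadow R := by
  by_cases hk : k = 0
  · exact Or.inl (by rw [hk, zero_smul])
  rcases hA with rfl | ⟨x, hx, hp, rfl⟩
  · exact Or.inl (smul_zero k)
  · exact Or.inr ⟨k • x, hR.scal x hx k hk, by rw [pr_smul]; exact smul_ne_zero hk hp, lo_smul k x⟩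

include hF in
theorem shadow_add (hm3 : 3 ≤ m) {R : Set (Fin (m + s) → F)} (hR : Closed hF R) {A B : Fin s → F}
    (hA : A ∈ Shadow R) (hB : B ∈ Shadow R) : A + B ∈ Shadow R := by
  by_cases hA0 : A = 0
  · rw [hA0, zero_add]; exact hB
  by_cases hB0 : B = 0
  · rw [hB0, add_zero]; exact hA
  obtain ⟨x, hx, hp, rfl⟩ := hA.resolve_left hA0
  obtain ⟨y, hy, hp', rfl⟩ := hB.resolve_left hB0
  obtain ⟨c, hc0, hc⟩ := exists_skew hF
  have hcs : c ∈ skew hF := hc
  have hy' := (hR.iso y hy).2
  rw [h_split] at hy'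
  obtain ⟨b', hb'0, hsum, hk, hnorm⟩ := prescribe hF hm3 hp (c - hs (lo x) (lo y)) (c := hm (pr y) (pr y)) (h_swap hF _ _)
  have hr := hR.trans y hy hp' b' hb'0 hnorm
  set r := inc b' + top (lo y)
  have hpr : pr r = b' := by rw [pr_add, pr_inc, pr_top, add_zero]
  have hlr : lo r = lo y := by rw [lo_add, lo_inc, lo_top, zero_add]
  have hci : c⁻¹ ∈ skew hF := by
    rw [mem_skew, map_inv₀, skew_neg hF hcs, inv_neg, add_neg_cancel]
  have hz := hR.move x hx r hr c⁻¹ hci
  rw [h_split x r, hpr, hlr, hk, sub_add_cancel, inv_mul_cancel₀ hc0, one_smul] at hz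
  exact Or.inr ⟨_, hz, by rw [pr_add, hpr]; exact hsum, by rw [lo_add, hlr]⟩

include hF in
/-- The shadow is a subspace. -/
theorem exists_shadow (hm3 : 3 ≤ m) {R : Set (Fin (m + s) → F)} (hR : Closed hF R) :
    ∃ T : Submodule F (Fin s → F), ∀ A, A ∈ T ↔ A ∈ Shadow R :=
  ⟨{ carrier := Shadow R
     zero_mem' := Or.inl rfl
     add_mem' := shadow_add hF hm3 hR
     smul_mem' := fun k _ hA => shadow_smul hF hR k hA }, fun _ => Iff.rfl⟩

include hF in
/-- A full shadow gives every isotropic vector. -/
theorem all_of_shadow (hm2 : 2 ≤ m) {R : Set (Fin (m + s) → F)} (hR : Closed hF R)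
    (hS : ∀ A, A ∈ Shadow R) (x : Fin (m + s) → F) (hx0 : x ≠ 0) (hx : hn x x = 0) : x ∈ R := by
  have main : ∀ x : Fin (m + s) → F, hn x x = 0 → pr x ≠ 0 → x ∈ R := by
    intro x hx hp
    rcases hS (lo x) with e | ⟨y, hy, hpy, hl⟩
    · rw [← parts x, e, show top (0 : Fin s → F) = (0 : Fin (m + s) → F) from ext2 (pr_top _) (lo_top _),
        add_zero]
      refine hR.low _ hp ?_
      rw [h_split, e, h_zero_left hF, add_zero] at hx
      exact hx
    · rw [← parts x, ← hl]
      refine hR.trans y hy hpy _ hp ?_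
      have := (hR.iso y hy).2
      rw [h_split, hl] at this
      rw [h_split] at hx
      linear_combination hx - this
  by_cases hp : pr x = 0
  swap
  · exact main x hx hp
  obtain ⟨u, hu⟩ := exists_unit hF (show 1 ≤ m by omega)
  obtain ⟨e, he⟩ : ∃ e : Fin s → F, hs (lo x) e ≠ 0 := by
    by_contra hc
    push Not at hc
    exact hx0 (ext2 (hp.trans pr_zero.symm) (h_nondeg hF hc))
  -- a member with nonzero first part and nonzero product with `x`
  obtain ⟨y, hy, hyp, hxy⟩ : ∃ y, y ∈ R ∧ pr y ≠ 0 ∧ hn x y ≠ 0 := by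
    by_cases hee : hs e e = 0
    · obtain ⟨θ, hθ⟩ := exists_norm_eq hF (c := (-1 : F)) (by simp)
      set i : Fin m := ⟨0, by omega⟩
      set j : Fin m := ⟨1, by omega⟩
      have hij : j ≠ i := fun e1 => by simpa [i, j] using congrArg Fin.val e1
      set b : Fin m → F := Pi.single i 1 + θ • Pi.single j 1 with hb
      have hb0 : b ≠ 0 := fun e1 => by simpa [hb, hij, hij.symm] using congrFun e1 i
      have hbb : hm b b = 0 := by
        rw [hb]
        simp [h_add_left, h_add_right hF, h_smul_left, h_smul_right hF, UnitaryOrder.herm_single_right hF,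
          Pi.single_apply, hij, hij.symm]
        linear_combination hθ
      refine ⟨inc b + top e, main _ ?_ (by rw [pr_add, pr_inc, pr_top, add_zero]; exact hb0),
        by rw [pr_add, pr_inc, pr_top, add_zero]; exact hb0, ?_⟩
      · rw [h_split, pr_add, pr_inc, pr_top, lo_add, lo_inc, lo_top, add_zero, zero_add, hbb, hee, add_zero]
      · rw [h_split, hp, h_zero_left hF, zero_add, lo_add, lo_inc, lo_top, zero_add]
        exact he
    · obtain ⟨t, ht⟩ := exists_norm_eq hF (c := -(hs e e)) (by rw [map_neg, h_swap hF])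
      have ht0 : t • u ≠ 0 := fun e1 => by
        have := congrArg (fun z => hm z (t • u)) e1
        simp only [h_smul_left, h_smul_right hF, hu, mul_one, h_zero_left hF] at this
        exact hee (neg_eq_zero.1 (ht.symm.trans (by linear_combination this)))
      refine ⟨inc (t • u) + top e, main _ ?_ (by rw [pr_add, pr_inc, pr_top, add_zero]; exact ht0),
        by rw [pr_add, pr_inc, pr_top, add_zero]; exact ht0, ?_⟩
      · rw [h_split, pr_add, pr_inc, pr_top, lo_add, lo_inc, lo_top, add_zero, zero_add, h_smul_left,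
          h_smul_right hF, hu, mul_one, ht, neg_add_cancel]
      · rw [h_split, hp, h_zero_left hF, zero_add, lo_add, lo_inc, lo_top, zero_add]
        exact he
  obtain ⟨c, hc0, hc⟩ := exists_skew hF
  have hyy := (hR.iso y hy).2
  set z := x + (c * hn x y) • y with hz
  have hzp : pr z ≠ 0 := by
    rw [hz, pr_add, hp, zero_add, pr_smul]
    exact smul_ne_zero (mul_ne_zero hc0 hxy) hyp
  have hzz : hn z z = 0 := by
    rw [hz, ← root_apply hF hyy hc x, gu_h (root hF y c), hx]
  have := hR.move z (main z hzz hzp) y hy (-c) (neg_mem (show c ∈ skew hF from hc))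
  have e1 : hn z y = hn x y := by rw [hz, h_add_left, h_smul_left, hyy, mul_zero, add_zero]
  rwa [e1, hz, add_assoc, ← add_smul, neg_mul, add_neg_cancel, zero_smul, add_zero] at this

end CfsgLib.PsuMin
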