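import Mathlib
import Cfsg.Agent.Lib.PsuMin.Split

/-! The stabiliser of an isotropic point and the basic inequality. -/

set_option autoImplicit false

namespace CfsgLib.PsuMin

open Matrix CfsgLib.UnitaryTransvection Module
open CfsgLib.UnitarySimple (umat umat_mulVec umat_isometry det_umat)

variable {F : Type*} [Field F] [Fintype F] {q m : ℕ} (hF : Fintype.card F = q ^ 2)

local notation "σ" => frob hF
local notation "hm" => Cfsg.hermForm m F q
local notation "hn" => Cfsg.hermForm (m + 2) F q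
local notation "h2" => Cfsg.hermForm 2 F q
local notation "Gb" => Cfsg.GU (m + 2) F q
local notation "Gl" => Cfsg.GU m F q

variable (F q) in
/-- A hyperbolic pair of the plane. -/
structure HPair where
  v : Fin 2 → F
  w : Fin 2 → F
  vv : Cfsg.hermForm 2 F q v v = 0
  ww : Cfsg.hermForm 2 F q w w = 0
  vw : Cfsg.hermForm 2 F q v w = 1

include hF in
theorem exists_hpair : Nonempty (HPair F q) := by
  obtain ⟨v, hv0, hv⟩ := UnitarySimple.exists_isotropic hF (n := 2) le_rfl
  obtain ⟨w, hw, hvw, -⟩ := exists_iso_partner hF hv0 hv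
  exact ⟨⟨v, w, hv, hw, hvw⟩⟩

variable (P : HPair F q)

include hF in
theorem HPair.wv : h2 P.w P.v = 1 := by rw [← h_swap hF P.v P.w, P.vw, map_one]

include hF in
theorem HPair.ne : P.v ≠ 0 := fun e => by
  have := P.vw
  rw [e, h_zero_left hF] at this
  exact zero_ne_one this

include hF in
theorem HPair.dec (z : Fin 2 → F) : z = h2 z P.w • P.v + h2 z P.v • P.w := by
  have hnd : NdPair (q := q) P.v P.w := by rw [NdPair, P.vv, P.ww, P.vw, P.wv hF]; simp
  have htop := (pair_li hF hnd).span_eq_top_of_card_eq_finrank (by simp)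
  have hz : z ∈ Submodule.span F (Set.range ![P.v, P.w]) := htop ▸ Submodule.mem_top
  rw [Matrix.range_cons_cons_empty, Submodule.mem_span_pair] at hz
  obtain ⟨a, b, rfl⟩ := hz
  simp [h_add_left, h_smul_left, P.vv, P.ww, P.vw, P.wv hF]

/-- The point. -/
abbrev vp : Fin (m + 2) → F := top P.v

/-- Its partner. -/
abbrev wp : Fin (m + 2) → F := top P.w

include hF in
theorem h_vp (x : Fin (m + 2) → F) : hn x (vp P) = h2 (lo x) P.v := by
  rw [h_split, pr_top, lo_top, h_zero_right hF, zero_add]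

include hF in
theorem h_wp (x : Fin (m + 2) → F) : hn x (wp P) = h2 (lo x) P.w := by
  rw [h_split, pr_top, lo_top, h_zero_right hF, zero_add]

include hF in
theorem vp_ne : (vp P : Fin (m + 2) → F) ≠ 0 := fun e => P.ne hF (by rw [← lo_top (m := m) P.v]; exact congrArg lo e)

include hF in
theorem vp_iso : hn (vp P) (vp P) = 0 := by rw [h_top hF]; exact P.vv

include hF in
theorem vp_wp : hn (vp P) (wp P) = 1 := by rw [h_top hF]; exact P.vw

include hF in
theorem split3 (x : Fin (m + 2) → F) : x = hn x (wp P) • vp P + hn x (vp P) • wp P + inc (pr x) := by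
  refine ext2 ?_ ?_
  · simp only [pr_add, pr_smul, pr_top, pr_inc, smul_zero, zero_add]
  · simp only [lo_add, lo_smul, lo_top, lo_inc, add_zero]
    rw [h_vp hF, h_wp hF]
    exact P.dec hF _

/-- The element scaling the point. -/
noncomputable def tor (l : Fˣ) : Cfsg.GU 2 F q :=
  ofLin hF (hypScale hF P.v P.w (l : F)) (hyp_isometry hF P.vv P.ww P.vw l.ne_zero)

theorem tor_apply (l : Fˣ) (z : Fin 2 → F) :
    (tor hF P l).1.1 *ᵥ z = ((l : F) * h2 z P.w) • P.v + ((σ (l : F))⁻¹ * h2 z P.v) • P.w := by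
  rw [tor, ofLin_apply, hypScale_apply]
  conv_lhs => arg 1; arg 1; rw [P.dec hF z]
  module

theorem det_tor (l : Fˣ) : (tor hF P l).1.1.det = (l : F) * (σ (l : F))⁻¹ :=
  det_hypScale hF P.vv P.ww P.vw _

theorem tor_mul (l l' : Fˣ) : tor hF P l * tor hF P l' = tor hF P (l * l') := gu_ext fun z => by
  simp only [mul_apply, tor_apply, h_add_left, h_smul_left, P.vv, P.ww, P.vw, P.wv hF, Units.val_mul, map_mul,
    mul_inv]
  module

theorem tor_one : tor hF P 1 = 1 := gu_ext fun z => by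
  rw [tor_apply, one_apply, Units.val_one, map_one, inv_one, one_mul, one_mul]
  exact (P.dec hF z).symm

/-- The Levi element. -/
noncomputable def emb (l : Fˣ) (g : Gl) : Gb := blk hF g (tor hF P l)

theorem emb_mul (l l' : Fˣ) (g g' : Gl) : emb hF P l g * emb hF P l' g' = emb hF P (l * l') (g * g') := by
  rw [emb, emb, emb, blk_mul, tor_mul]

theorem emb_one : emb hF P 1 (1 : Gl) = 1 := by rw [emb, tor_one, blk_one]

theorem emb_inv (l : Fˣ) (g : Gl) : (emb hF P l g)⁻¹ = emb hF P l⁻¹ g⁻¹ :=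
  inv_eq_of_mul_eq_one_right (by rw [emb_mul, mul_inv_cancel, mul_inv_cancel, emb_one])

theorem emb_vp (l : Fˣ) (g : Gl) : (emb hF P l g).1.1 *ᵥ vp P = (l : F) • vp P := by
  rw [emb, vp, blk_top, tor_apply, P.vw, P.vv, mul_one, mul_zero, zero_smul, add_zero]
  exact ext2 (by rw [pr_top, pr_smul, pr_top, smul_zero]) (by rw [lo_top, lo_smul, lo_top])

theorem emb_det (l : Fˣ) (g : Gl) : (emb hF P l g).1.1.det = g.1.1.det * ((l : F) * (σ (l : F))⁻¹) := by
  rw [emb, det_blk, det_tor]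

/-- The condition on the parameters of a radical element. -/
def Ok (a : Fin m → F) (s : F) : Prop := hm a a + s + σ s = 0

/-- The radical element. -/
noncomputable def uel (a : Fin m → F) (s : F) : Gb :=
  open Classical in if hs : Ok hF a s then
    mkGU hF (umat (q := q) (vp P) (inc a) s) (umat_isometry hF (vp_iso hF P)
      (by rw [h_vp hF, lo_inc, h_zero_left hF]) (by rw [h_inc hF]; exact hs))
  else 1

theorem uel_apply {a : Fin m → F} {s : F} (hs : Ok hF a s) (x : Fin (m + 2) → F) :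
    (uel hF P a s).1.1 *ᵥ x = x + hn x (vp P) • inc a - hm (pr x) a • vp P + (s * hn x (vp P)) • vp P := by
  rw [uel, dif_pos hs]
  show umat (q := q) (vp P) (inc a) s *ᵥ x = _
  rw [umat_mulVec, h_split x (inc a), pr_inc, lo_inc, h_zero_right hF, add_zero]

theorem uel_mem {a : Fin m → F} {s : F} (hs : Ok hF a s) : uel hF P a s ∈ det1 F q (m + 2) := by
  rw [mem_det1, uel, dif_pos hs]
  exact det_umat hF (vp_iso hF P) (by rw [h_vp hF, lo_inc, h_zero_left hF])

theorem ok_add {a b : Fin m → F} {s t : F} (hs : Ok hF a s) (ht : Ok hF b t) :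
    Ok hF (a + b) (s + t - hm b a) := by
  unfold Ok at *
  rw [h_add_left, h_add_right hF, h_add_right hF, map_sub, map_add, h_swap hF b a]
  linear_combination hs + ht

theorem uel_mul {a b : Fin m → F} {s t : F} (hs : Ok hF a s) (ht : Ok hF b t) :
    uel hF P a s * uel hF P b t = uel hF P (a + b) (s + t - hm b a) := gu_ext fun x => by
  have e : inc (s := 2) (a + b) = inc a + inc b :=
    ext2 (by rw [pr_add, pr_inc, pr_inc, pr_inc]) (by rw [lo_add, lo_inc, lo_inc, lo_inc, add_zero])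
  rw [mul_apply, uel_apply hF P hs, uel_apply hF P ht, uel_apply hF P (ok_add hF hs ht), e, h_add_right hF]
  have e1 : hn (x + hn x (vp P) • inc b - hm (pr x) b • vp P + (t * hn x (vp P)) • vp P) (vp P) = hn x (vp P) := by
    simp only [h_add_left, h_sub_left, h_smul_left, vp_iso hF P, h_vp hF P (inc b), lo_inc, h_zero_left hF]
    ring
  have e2 : pr (x + hn x (vp P) • inc b - hm (pr x) b • vp P + (t * hn x (vp P)) • vp P) =
      pr x + hn x (vp P) • b := by
    funext i
    have := congrFun (pr_top (m := m) P.v) i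
    have := congrFun (pr_inc (s := 2) b) i
    simp only [pr, Pi.add_apply, Pi.sub_apply, Pi.smul_apply, Pi.zero_apply, smul_eq_mul] at *
    rw [show vp P (Fin.castAdd 2 i) = 0 by assumption, show inc b (Fin.castAdd 2 i) = b i by assumption]
    ring
  rw [e1, e2, h_add_left, h_smul_left]
  module

theorem uel_zero {c : F} (hc : c ∈ skew hF) : uel hF P (0 : Fin m → F) c = root hF (vp P) c := by
  have hs : Ok hF (0 : Fin m → F) c := by
    unfold Ok; rw [h_zero_left hF, zero_add]; exact hc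
  refine gu_ext fun x => ?_
  rw [uel_apply hF P hs, root_apply hF (vp_iso hF P) hc, h_zero_right hF,
    show inc (0 : Fin m → F) = (0 : Fin (m + 2) → F) from ext2 (pr_inc _) (lo_inc _)]
  module

theorem ok_neg {a : Fin m → F} {s : F} (hs : Ok hF a s) : Ok hF (-a) (σ s) := by
  unfold Ok at *
  rw [h_neg_left, h_neg_right hF, neg_neg, frob_frob hF]
  linear_combination hs

theorem uel_one : uel hF P (0 : Fin m → F) 0 = 1 := by rw [uel_zero hF P (zero_mem _), root_zero hF (vp_iso hF P)]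

theorem uel_inv {a : Fin m → F} {s : F} (hs : Ok hF a s) : (uel hF P a s)⁻¹ = uel hF P (-a) (σ s) := by
  refine inv_eq_of_mul_eq_one_right ?_
  rw [uel_mul hF P hs (ok_neg hF hs), add_neg_cancel, h_neg_left, sub_neg_eq_add,
    show s + σ s + hm a a = 0 by unfold Ok at hs; linear_combination hs, uel_one]

theorem uel_vp {a : Fin m → F} {s : F} (hs : Ok hF a s) : (uel hF P a s).1.1 *ᵥ vp P = vp P := by
  rw [uel_apply hF P hs, vp_iso hF P, pr_top, h_zero_left hF]
  simp

theorem ok_smul {a : Fin m → F} {s : F} (hs : Ok hF a s) (l : F) (g : Gl) :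
    Ok hF (σ l • g.1.1 *ᵥ a) (l * σ l * s) := by
  unfold Ok at *
  rw [h_smul_left, h_smul_right hF, gu_h g, map_mul, map_mul, frob_frob hF]
  linear_combination (l * σ l) * hs

theorem emb_conj {a : Fin m → F} {s : F} (hs : Ok hF a s) (l : Fˣ) (g : Gl) :
    emb hF P l g * uel hF P a s * (emb hF P l g)⁻¹ = uel hF P (σ (l : F) • g.1.1 *ᵥ a) ((l : F) * σ (l : F) * s) := by
  refine gu_ext fun x => ?_
  obtain ⟨y, rfl⟩ : ∃ y, (emb hF P l g).1.1 *ᵥ y = x := ⟨_, apply_inv_apply _ x⟩
  rw [mul_apply, mul_apply, inv_apply_apply, uel_apply hF P hs, uel_apply hF P (ok_smul hF hs _ g)]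
  set E := emb hF P l g with hE
  have e0 : E.1.1 *ᵥ inc a = inc (g.1.1 *ᵥ a) := by rw [hE, emb, blk_inc]
  have e1 : hn (E.1.1 *ᵥ y) (vp P) * σ (l : F) = hn y (vp P) := by
    rw [mul_comm, ← h_smul_right hF, ← emb_vp hF P l g, gu_h E]
  have e2 : pr (E.1.1 *ᵥ y) = g.1.1 *ᵥ pr y := blk_pr hF g _ y
  rw [mulVec_add, mulVec_sub, mulVec_add, mulVec_smul, mulVec_smul, mulVec_smul, emb_vp, e0, e2,
    h_smul_right hF, frob_frob hF, gu_h g, ← e1,
    show inc (σ (l : F) • g.1.1 *ᵥ a) = σ (l : F) • inc (s := 2) (g.1.1 *ᵥ a) from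
      ext2 (by rw [pr_inc, pr_smul, pr_inc]) (by rw [lo_inc, lo_smul, lo_inc, smul_zero])]
  module

variable (m) in
/-- The stabiliser of the point. -/
def Line : Subgroup Gb where
  carrier := {g | g ∈ det1 F q (m + 2) ∧ ∃ r : F, g.1.1 *ᵥ vp P = r • vp P}
  one_mem' := ⟨one_mem _, 1, by rw [one_apply, one_smul]⟩
  mul_mem' := fun {a b} ha hb => ⟨mul_mem ha.1 hb.1, by
    obtain ⟨r, hr⟩ := ha.2
    obtain ⟨t, ht⟩ := hb.2
    exact ⟨t * r, by rw [mul_apply, ht, mulVec_smul, hr, smul_smul]⟩⟩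
  inv_mem' := fun {a} ha => ⟨inv_mem ha.1, by
    obtain ⟨r, hr⟩ := ha.2
    by_cases hr0 : r = 0
    · exact ⟨0, by
        have := congrArg (fun y => a⁻¹.1.1 *ᵥ y) hr
        simp only [inv_apply_apply, hr0, zero_smul, mulVec_zero] at this
        rw [this, mulVec_zero, zero_smul]⟩
    · exact ⟨r⁻¹, by
        apply_fun (fun y => a.1.1 *ᵥ y) using (fun x y e => by
          simpa [inv_apply_apply] using congrArg (fun z => a⁻¹.1.1 *ᵥ z) e)
        simp only [apply_inv_apply, mulVec_smul, hr, smul_smul, inv_mul_cancel₀ hr0, one_smul]⟩⟩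

include hF in
theorem coef_ne {g : Gb} (hg : g ∈ Line m P) : hn (g.1.1 *ᵥ vp P) (wp P) ≠ 0 := by
  obtain ⟨r, hr⟩ := hg.2
  rw [hr, h_smul_left, vp_wp hF, mul_one]
  intro e
  exact mulVec_ne_zero g (vp_ne hF P) (by rw [hr, e, zero_smul])

include hF in
theorem line_vp {g : Gb} (hg : g ∈ Line m P) : g.1.1 *ᵥ vp P = hn (g.1.1 *ᵥ vp P) (wp P) • vp P := by
  obtain ⟨r, hr⟩ := hg.2
  conv_lhs => rw [hr]
  rw [hr, h_smul_left, vp_wp hF, mul_one]

include hF in
theorem line_perp {g : Gb} (hg : g ∈ Line m P) {x : Fin (m + 2) → F} (hx : hn x (vp P) = 0) :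
    hn (g.1.1 *ᵥ x) (vp P) = 0 := by
  have e := gu_h g x (vp P)
  rw [hx, line_vp hF P hg, h_smul_right hF] at e
  exact (mul_eq_zero.1 e).resolve_left fun e1 => coef_ne hF P hg (eq_zero_of_frob hF e1)

include hF in
theorem line_h {g : Gb} (hg : g ∈ Line m P) (y z : Fin m → F) :
    hm (pr (g.1.1 *ᵥ inc y)) (pr (g.1.1 *ᵥ inc z)) = hm y z := by
  have h0 : ∀ y : Fin m → F, h2 (lo (g.1.1 *ᵥ inc y)) P.v = 0 := fun y => by
    rw [← h_vp hF]; exact line_perp hF P hg (by rw [h_vp hF, lo_inc, h_zero_left hF])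
  have e := gu_h g (inc y) (inc z)
  rw [h_inc hF, h_split, P.dec hF (lo (g.1.1 *ᵥ inc y)), P.dec hF (lo (g.1.1 *ᵥ inc z))] at e
  simp only [h0, zero_smul, add_zero] at e
  rw [h_smul_left, h_smul_right hF, P.vv, mul_zero, mul_zero, add_zero] at e
  exact e

/-- The action on the orthogonal of the pair. -/
noncomputable def small (g : Line m P) : Gl :=
  ofLin hF
    { toFun := fun y => pr (g.1.1.1 *ᵥ inc y)
      map_add' := fun y z => by
        rw [← pr_add, ← mulVec_add]; congr 2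
        exact ext2 (by rw [pr_add, pr_inc, pr_inc, pr_inc]) (by rw [lo_add, lo_inc, lo_inc, lo_inc, add_zero])
      map_smul' := fun c y => by
        show _ = c • pr (g.1.1.1 *ᵥ inc y)
        rw [← pr_smul, ← mulVec_smul]; congr 2
        exact ext2 (by rw [pr_smul, pr_inc, pr_inc]) (by rw [lo_smul, lo_inc, lo_inc, smul_zero]) }
    (line_h hF P g.2)

theorem small_apply (g : Line m P) (y : Fin m → F) : (small hF P g).1.1 *ᵥ y = pr (g.1.1.1 *ᵥ inc y) :=
  ofLin_apply hF _ _ y

/-- The Levi quotient. -/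
noncomputable def rho : Line m P →* Fˣ × Gl where
  toFun g := (Units.mk0 _ (coef_ne hF P g.2), small hF P g)
  map_one' := Prod.ext (Units.ext (by
      show hn ((1 : Gb).1.1 *ᵥ vp P) (wp P) = 1
      rw [one_apply, vp_wp hF]))
    (gu_ext fun y => by
      show (small hF P (1 : Line m P)).1.1 *ᵥ y = (1 : Gl).1.1 *ᵥ y
      rw [small_apply]
      show pr ((1 : Gb).1.1 *ᵥ inc y) = _
      rw [one_apply, one_apply, pr_inc])
  map_mul' g g' := Prod.ext (Units.ext (by
      show hn ((g * g').1.1.1 *ᵥ vp P) (wp P) = hn (g.1.1.1 *ᵥ vp P) (wp P) * hn (g'.1.1.1 *ᵥ vp P) (wp P)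
      rw [Subgroup.coe_mul, mul_apply]
      conv_lhs => rw [line_vp hF P g'.2, mulVec_smul, h_smul_left]
      ring))
    (gu_ext fun y => by
      show (small hF P (g * g')).1.1 *ᵥ y = (small hF P g * small hF P g').1.1 *ᵥ y
      rw [mul_apply, small_apply, small_apply, small_apply, Subgroup.coe_mul, mul_apply]
      have h0 : hn (g'.1.1.1 *ᵥ inc y) (vp P) = 0 :=
        line_perp hF P g'.2 (by rw [h_vp hF, lo_inc, h_zero_left hF])
      conv_lhs => rw [split3 hF P (g'.1.1.1 *ᵥ inc y), h0, zero_smul, add_zero, mulVec_add, mulVec_smul,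
        line_vp hF P g.2, pr_add, pr_smul, pr_smul, pr_top, smul_zero, smul_zero, zero_add])

theorem emb_line {l : Fˣ} {g : Gl} (hd : g.1.1.det * ((l : F) * (σ (l : F))⁻¹) = 1) : emb hF P l g ∈ Line m P :=
  ⟨mem_det1.2 ((emb_det hF P l g).trans hd), _, emb_vp hF P l g⟩

theorem uel_line {a : Fin m → F} {s : F} (hs : Ok hF a s) : uel hF P a s ∈ Line m P :=
  ⟨uel_mem hF P hs, 1, by rw [uel_vp hF P hs, one_smul]⟩

theorem rho_val {l : Fˣ} {g : Gl} {a : Fin m → F} {s : F} (hs : Ok hF a s)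
    (hmem : emb hF P l g * uel hF P a s ∈ Line m P) : rho hF P ⟨_, hmem⟩ = (l, g) := by
  refine Prod.ext (Units.ext ?_) (gu_ext fun y => ?_)
  · show hn ((emb hF P l g * uel hF P a s).1.1 *ᵥ vp P) (wp P) = l
    rw [mul_apply, uel_vp hF P hs, emb_vp, h_smul_left, vp_wp hF, mul_one]
  · show (small hF P _).1.1 *ᵥ y = g.1.1 *ᵥ y
    rw [small_apply]
    show pr ((emb hF P l g * uel hF P a s).1.1 *ᵥ inc y) = _
    rw [mul_apply, uel_apply hF P hs, h_vp hF, lo_inc, h_zero_left hF, mul_zero, zero_smul, zero_smul, add_zero,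
      add_zero, emb, blk_pr]
    congr 1
    funext i
    have := congrFun (pr_top (m := m) P.v) i
    have := congrFun (pr_inc (s := 2) y) i
    simp only [pr, Pi.sub_apply, Pi.smul_apply, Pi.zero_apply, smul_eq_mul] at *
    rw [show vp P (Fin.castAdd 2 i) = 0 by assumption, show inc y (Fin.castAdd 2 i) = y i by assumption]
    ring

theorem decomp {g : Gb} (hg : g ∈ Line m P) :
    ∃ a s, Ok hF a s ∧ g = emb hF P (rho hF P ⟨g, hg⟩).1 (rho hF P ⟨g, hg⟩).2 * uel hF P a s := by
  set l := (rho hF P ⟨g, hg⟩).1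
  set A := (rho hF P ⟨g, hg⟩).2
  set k := (emb hF P l A)⁻¹ * g with hk
  have hkv : k.1.1 *ᵥ vp P = vp P := by
    rw [hk, mul_apply, line_vp hF P hg]
    show (emb hF P l A)⁻¹.1.1 *ᵥ ((l : F) • vp P) = vp P
    rw [← emb_vp hF P l A, inv_apply_apply]
  have hinc : ∀ y : Fin m → F, hn (k.1.1 *ᵥ inc y) (vp P) = 0 := fun y => by
    conv_lhs => rw [← hkv, gu_h k, h_vp hF, lo_inc, h_zero_left hF]
  have hpr : ∀ y : Fin m → F, pr (k.1.1 *ᵥ inc y) = y := fun y => by
    rw [hk, mul_apply, emb_inv, emb, blk_pr, show pr (g.1.1 *ᵥ inc y) = A.1.1 *ᵥ y from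
      (small_apply hF P ⟨g, hg⟩ y).symm, inv_apply_apply]
  set x := k.1.1 *ᵥ wp P with hx
  have hxv : hn x (vp P) = 1 := by
    conv_lhs => rw [← hkv, hx, gu_h k, h_top hF, P.wv hF]
  set a := pr x
  set s := hn x (wp P)
  have hxdec : x = s • vp P + wp P + inc a := by
    conv_lhs => rw [split3 hF P x, hxv, one_smul]
  have hs : Ok hF a s := by
    have := gu_h k (wp P) (wp P)
    rw [← hx, h_top hF, P.ww, hxdec] at this
    simp only [h_add_left, h_add_right hF, h_smul_left, h_smul_right hF, vp_iso hF P, vp_wp hF P,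
      h_top hF P.w P.v, h_top hF P.w P.w, P.wv hF, P.ww, h_inc hF, h_vp hF P (inc a), h_wp hF P (inc a), lo_inc,
      h_zero_left hF] at this
    rw [perp_symm hF (show hn (inc a) (vp P) = 0 by rw [h_vp hF, lo_inc, h_zero_left hF]),
      perp_symm hF (show hn (inc a) (wp P) = 0 by rw [h_wp hF, lo_inc, h_zero_left hF])] at this
    unfold Ok
    linear_combination this
  refine ⟨a, s, hs, ?_⟩
  suffices k = uel hF P a s by rw [← this, hk, mul_inv_cancel_left]
  have hy : ∀ y : Fin m → F, k.1.1 *ᵥ inc y = inc y - hm y a • vp P := by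
    intro y
    have e := split3 hF P (k.1.1 *ᵥ inc y)
    rw [hinc, zero_smul, add_zero, hpr] at e
    have e2 := gu_h k (inc y) (wp P)
    rw [← hx, e, hxdec, h_wp hF P (inc y), lo_inc, h_zero_left hF] at e2
    simp only [h_add_left, h_add_right hF, h_smul_left, h_smul_right hF, vp_iso hF P, vp_wp hF P,
      h_inc hF, h_vp hF P (inc y), h_wp hF P (inc y), lo_inc, h_zero_left hF] at e2
    rw [perp_symm hF (show hn (inc a) (vp P) = 0 by rw [h_vp hF, lo_inc, h_zero_left hF])] at e2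
    rw [e, show hn (k.1.1 *ᵥ inc y) (wp P) = -hm y a by linear_combination e2, neg_smul]
    abel
  refine gu_ext fun z => ?_
  rw [uel_apply hF P hs]
  conv_lhs => rw [split3 hF P z, mulVec_add, mulVec_add, mulVec_smul, mulVec_smul, hkv, ← hx, hy, hxdec]
  conv_rhs => arg 1; arg 1; arg 1; rw [split3 hF P z]
  module

end CfsgLib.PsuMin
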