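import Mathlib
import Cfsg.Agent.Lib.PsuMin.Point

/-! The part of a subgroup at an isotropic point, and the basic inequality. -/

set_option autoImplicit false

namespace CfsgLib.PsuMin

open Matrix CfsgLib.UnitaryTransvection Module

variable {F : Type*} [Field F] [Fintype F] {q m : ℕ} (hF : Fintype.card F = q ^ 2)

local notation "σ" => frob hF
local notation "hm" => Cfsg.hermForm m F q
local notation "Gb" => Cfsg.GU (m + 2) F q
local notation "Gl" => Cfsg.GU m F q

variable (P : HPair F q) (H : Subgroup (Cfsg.GU (m + 2) F q))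

/-- The Levi image. -/
noncomputable def Rg : Subgroup (Fˣ × Gl) := (H.subgroupOf (Line m P)).map (rho hF P)

/-- The scalars of the Levi image. -/
noncomputable def Sc : Subgroup Fˣ := (Rg hF P H).map (MonoidHom.fst Fˣ Gl)

/-- The kernel part of the Levi image. -/
noncomputable def Kh : Subgroup Gl := (Rg hF P H).comap (MonoidHom.inr Fˣ Gl)

theorem mem_Rg (hH : H ≤ det1 F q (m + 2)) {p : Fˣ × Gl} :
    p ∈ Rg hF P H ↔ ∃ a s, Ok hF a s ∧ emb hF P p.1 p.2 * uel hF P a s ∈ H := by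
  constructor
  · rintro ⟨⟨g, hg⟩, hgH, rfl⟩
    obtain ⟨a, s, hs, e⟩ := decomp hF P hg
    exact ⟨a, s, hs, e ▸ Subgroup.mem_subgroupOf.1 hgH⟩
  · rintro ⟨a, s, hs, he⟩
    have hl : emb hF P p.1 p.2 * uel hF P a s ∈ Line m P := ⟨hH he, p.1, by
      rw [mul_apply, uel_vp hF P hs, emb_vp]⟩
    exact ⟨⟨_, hl⟩, Subgroup.mem_subgroupOf.2 he, rho_val hF P hs hl⟩

theorem mem_Kh (hH : H ≤ det1 F q (m + 2)) {g : Gl} :
    g ∈ Kh hF P H ↔ ∃ a s, Ok hF a s ∧ emb hF P 1 g * uel hF P a s ∈ H := mem_Rg hF P H hH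

theorem kh_det (hH : H ≤ det1 F q (m + 2)) : Kh hF P H ≤ det1 F q m := by
  intro g hg
  obtain ⟨a, s, hs, he⟩ := (mem_Kh hF P H hH).1 hg
  have h1 : emb hF P 1 g ∈ det1 F q (m + 2) := by
    have := mul_mem (hH he) (inv_mem (uel_mem hF P hs))
    rwa [mul_inv_cancel_right] at this
  rw [mem_det1, emb_det, Units.val_one, map_one, inv_one, mul_one, mul_one] at h1
  exact mem_det1.2 h1

/-- The translations of `H` at the point. -/
noncomputable def Wh : AddSubgroup (Fin m → F) where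
  carrier := {a | ∃ s, Ok hF a s ∧ uel hF P a s ∈ H}
  zero_mem' := ⟨0, by unfold Ok; rw [h_zero_left hF]; simp, by rw [uel_one]; exact one_mem H⟩
  add_mem' := by
    rintro a b ⟨s, hs, ha⟩ ⟨t, ht, hb⟩
    exact ⟨_, ok_add hF hs ht, by rw [← uel_mul hF P hs ht]; exact mul_mem ha hb⟩
  neg_mem' := by
    rintro a ⟨s, hs, ha⟩
    exact ⟨_, ok_neg hF hs, by rw [← uel_inv hF P hs]; exact inv_mem ha⟩

/-- The root elements of `H` at the point. -/
noncomputable def Zh : AddSubgroup F where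
  carrier := {c | c ∈ skew hF ∧ root hF (vp (m := m) P) c ∈ H}
  zero_mem' := ⟨zero_mem _, by rw [root_zero hF (vp_iso hF P)]; exact one_mem H⟩
  add_mem' := fun {c d} hc hd => ⟨add_mem hc.1 hd.1, by
    rw [← root_mul hF (vp_iso hF P) hc.1 hd.1]; exact mul_mem hc.2 hd.2⟩
  neg_mem' := fun {c} hc => ⟨neg_mem hc.1, by
    rw [← root_inv hF (vp_iso hF P) hc.1]; exact inv_mem hc.2⟩

theorem zh_le : Zh hF P H ≤ skew hF := fun _ hc => hc.1

/-- The root group at the point is not contained in `H`. -/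
def Free : Prop := ∃ c ∈ skew hF, c ∉ Zh hF P H

theorem uel_eq {a : Fin m → F} {s t : F} (hs : Ok hF a s) (ht : Ok hF a t) :
    t - s ∈ skew hF := by
  unfold Ok at *
  rw [mem_skew, map_sub]
  linear_combination ht - hs

theorem uel_shift {a : Fin m → F} {s t : F} (hs : Ok hF a s) (ht : Ok hF a t) :
    uel hF P a t = root hF (vp P) (t - s) * uel hF P a s := by
  have hc := uel_eq hF hs ht
  have h0 : Ok hF (0 : Fin m → F) (t - s) := by unfold Ok; rw [h_zero_left hF, zero_add]; exact hc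
  rw [← uel_zero hF P hc, uel_mul hF P h0 hs, zero_add, h_zero_right hF, sub_zero, sub_add_cancel]

theorem bracket {a b : Fin m → F} (ha : a ∈ Wh hF P H) (hb : b ∈ Wh hF P H) :
    hm a b - hm b a ∈ Zh hF P H := by
  obtain ⟨s, hs, hs'⟩ := ha
  obtain ⟨t, ht, ht'⟩ := hb
  have h1 := mul_mem hs' ht'
  have h2 := mul_mem ht' hs'
  rw [uel_mul hF P hs ht] at h1
  rw [uel_mul hF P ht hs, add_comm b a] at h2
  have o1 := ok_add hF hs ht
  have o2 : Ok hF (a + b) (t + s - hm a b) := by rw [add_comm a b]; exact ok_add hF ht hs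
  have h3 := mul_mem h1 (inv_mem h2)
  rw [uel_shift hF P o2 o1, mul_inv_cancel_right] at h3
  have e : s + t - hm b a - (t + s - hm a b) = hm a b - hm b a := by ring
  rw [e] at h3
  exact ⟨e ▸ uel_eq hF o2 o1, h3⟩

theorem act_wh {l : Fˣ} {g : Gl} (hH : H ≤ det1 F q (m + 2)) (hp : (l, g) ∈ Rg hF P H) {a : Fin m → F}
    (ha : a ∈ Wh hF P H) : σ (l : F) • g.1.1 *ᵥ a ∈ Wh hF P H := by
  obtain ⟨b, t, ht, hp⟩ := (mem_Rg hF P H hH).1 hp
  obtain ⟨s, hs, ha⟩ := ha
  have h1 := mul_mem (mul_mem hp ha) (inv_mem hp)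
  have e1 : uel hF P b t * uel hF P a s * (uel hF P b t)⁻¹ =
      root hF (vp P) (hm b a - hm a b) * uel hF P a s := by
    rw [mul_inv_eq_iff_eq_mul, mul_assoc, uel_mul hF P hs ht, uel_mul hF P ht hs]
    have o1 := ok_add hF ht hs
    have o2 : Ok hF (b + a) (s + t - hm b a) := by rw [add_comm b a]; exact ok_add hF hs ht
    rw [uel_shift hF P o2 o1, add_comm a b]
    congr 2
    ring
  have hc : hm b a - hm a b ∈ skew hF := by rw [← h_swap hF b a]; exact sub_frob_skew hF _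
  have e2 : emb hF P l g * uel hF P b t * uel hF P a s * (emb hF P l g * uel hF P b t)⁻¹ =
      root hF (vp P) (((l : F) * σ (l : F)) * (hm b a - hm a b)) *
        uel hF P (σ (l : F) • g.1.1 *ᵥ a) ((l : F) * σ (l : F) * s) := by
    rw [← emb_conj hF P hs l g]
    have e3 : emb hF P l g * root hF (vp P) (hm b a - hm a b) * (emb hF P l g)⁻¹ =
        root hF (vp P) (((l : F) * σ (l : F)) * (hm b a - hm a b)) := by
      rw [root_conj hF _ (vp_iso hF P) hc, emb_vp, root_smul hF (vp_iso hF P) hc, mul_comm]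
    rw [← e3, _root_.mul_inv_rev]
    calc _ = emb hF P l g * (uel hF P b t * uel hF P a s * (uel hF P b t)⁻¹) * (emb hF P l g)⁻¹ := by group
      _ = _ := by rw [e1]; group
  rw [e2] at h1
  have hc' : ((l : F) * σ (l : F)) * (hm b a - hm a b) ∈ skew hF := by
    rw [mul_comm]; exact skew_mul_fix hF hc (by rw [map_mul, frob_frob hF, mul_comm])
  have ok := ok_smul hF hs (l : F) g
  set b' := σ (l : F) • g.1.1 *ᵥ a
  set s' := (l : F) * σ (l : F) * s
  set c' := ((l : F) * σ (l : F)) * (hm b a - hm a b)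
  have h0 : Ok hF (0 : Fin m → F) c' := by unfold Ok; rw [h_zero_left hF, zero_add]; exact hc'
  rw [← uel_zero hF P hc', uel_mul hF P h0 ok, zero_add, h_zero_right hF, sub_zero] at h1
  exact ⟨c' + s', by unfold Ok at ok ⊢; rw [map_add]; linear_combination ok + (mem_skew hF).1 hc', h1⟩

theorem act_zh {l : Fˣ} {g : Gl} (hH : H ≤ det1 F q (m + 2)) (hp : (l, g) ∈ Rg hF P H) {c : F}
    (hc : c ∈ Zh hF P H) : (l : F) * σ (l : F) * c ∈ Zh hF P H := by
  obtain ⟨b, t, ht, hp⟩ := (mem_Rg hF P H hH).1 hp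
  have h1 := mul_mem (mul_mem hp hc.2) (inv_mem hp)
  rw [root_conj hF _ (vp_iso hF P) hc.1, mul_apply, uel_vp hF P ht, emb_vp, root_smul hF (vp_iso hF P) hc.1,
    mul_comm c] at h1
  exact ⟨by rw [mul_comm]; exact skew_mul_fix hF hc.1 (by rw [map_mul, frob_frob hF, mul_comm]), h1⟩

theorem card_part (hH : H ≤ det1 F q (m + 2)) :
    Nat.card (H.subgroupOf (Line m P)) ≤
      Nat.card (Sc hF P H) * Nat.card (Kh hF P H) * (Nat.card (Wh hF P H) * Nat.card (Zh hF P H)) := by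
  classical
  let f : (H.subgroupOf (Line m P)) →* Fˣ × Gl := (rho hF P).comp (H.subgroupOf (Line m P)).subtype
  have hr : f.range = Rg hF P H := by rw [MonoidHom.range_comp, Subgroup.range_subtype]; rfl
  rw [← f.ker.card_mul_index, Subgroup.index_ker, hr, mul_comm]
  refine Nat.mul_le_mul ?_ ?_
  · let π : Rg hF P H →* Fˣ := (MonoidHom.fst Fˣ Gl).comp (Rg hF P H).subtype
    have hπ : π.range = Sc hF P H := by rw [MonoidHom.range_comp, Subgroup.range_subtype]; rfl
    rw [← π.ker.card_mul_index, Subgroup.index_ker, hπ, mul_comm]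
    refine Nat.mul_le_mul_left _ (Nat.card_le_card_of_injective (fun x => (⟨x.1.1.2, ?_⟩ : Kh hF P H)) ?_)
    · show ((1 : Fˣ), x.1.1.2) ∈ Rg hF P H
      rw [← show x.1.1.1 = 1 from x.2]
      exact x.1.2
    · intro x y e
      exact Subtype.ext (Subtype.ext (Prod.ext ((show x.1.1.1 = 1 from x.2).trans (show y.1.1.1 = 1 from y.2).symm)
        (congrArg Subtype.val e :)))
  · have key : ∀ x : f.ker, ∃ a s, Ok hF a s ∧ (x.1.1.1 : Gb) = uel hF P a s := by
      intro x
      obtain ⟨a, s, hs, e⟩ := decomp hF P x.1.1.2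
      refine ⟨a, s, hs, ?_⟩
      rw [show rho hF P ⟨(x.1.1.1 : Gb), x.1.1.2⟩ = 1 from x.2] at e
      rw [e, Prod.fst_one, Prod.snd_one, emb_one, one_mul]
    choose fa fs hfs hfe using key
    have hw : ∀ x : f.ker, fa x ∈ Wh hF P H := fun x =>
      ⟨fs x, hfs x, hfe x ▸ Subgroup.mem_subgroupOf.1 x.1.2⟩
    choose ws hws hwe using fun a : Wh hF P H => a.2
    refine (Nat.card_le_card_of_injective (fun x : f.ker =>
      ((⟨fa x, hw x⟩, ⟨fs x - ws ⟨fa x, hw x⟩, uel_eq hF (hws _) (hfs x), ?_⟩) : Wh hF P H × Zh hF P H))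
      ?_).trans (le_of_eq (Nat.card_prod _ _))
    · have h1 := uel_shift hF P (hws ⟨fa x, hw x⟩) (hfs x)
      rw [← mul_inv_eq_iff_eq_mul.2 h1]
      exact mul_mem (hfe x ▸ Subgroup.mem_subgroupOf.1 x.1.2) (inv_mem (hwe _))
    · intro x y e
      simp only [Prod.mk.injEq, Subtype.mk.injEq] at e
      obtain ⟨e1, e2⟩ := e
      have e3 : ws ⟨fa x, hw x⟩ = ws ⟨fa y, hw y⟩ := by congr 1; exact Subtype.ext e1
      apply Subtype.ext; apply Subtype.ext; apply Subtype.ext
      have e2' : fs x - ws ⟨fa x, hw x⟩ = fs y - ws ⟨fa y, hw y⟩ := congrArg Subtype.val e2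
      rw [e3] at e2'
      rw [hfe x, hfe y, e1, show fs x = fs y from sub_left_inj.1 e2']

include hF in
theorem card_line (hm1 : 1 ≤ m) :
    (q ^ 2 - 1) * Nat.card (det1 F q m) * (q ^ (2 * m) * q) ≤ Nat.card (Line (F := F) (q := q) m P) := by
  classical
  obtain ⟨u, hu⟩ := exists_unit hF hm1
  have hk : ∀ l : Fˣ, ∃ g : Gl, g.1.1.det = σ (l : F) * ((l : F))⁻¹ := by
    intro l
    obtain ⟨g, hg, -⟩ := exists_det hF (w := σ (l : F) * ((l : F))⁻¹) (by
      have h1 : (l : F) ≠ 0 := l.ne_zero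
      have h2 : σ (l : F) ≠ 0 := fun e => h1 (eq_zero_of_frob hF e)
      rw [map_mul, frob_frob hF, map_inv₀]
      field_simp) hu
    exact ⟨g, hg⟩
  choose k hk using hk
  have hs0 : ∀ a : Fin m → F, ∃ s, Ok hF a s := fun a => by
    obtain ⟨t, ht⟩ := WittExtension.exists_trace (frob_ne_id hF) (frob_frob hF) (c := -(hm a a))
      (by rw [map_neg, h_swap hF])
    exact ⟨t, by unfold Ok; linear_combination ht⟩
  choose s0 hs0 using hs0
  have ok : ∀ (a : Fin m → F) (c : skew hF), Ok hF a (s0 a + c.1) := fun a c => by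
    have h1 := (mem_skew hF).1 c.2
    have h2 := hs0 a
    unfold Ok at h2 ⊢
    rw [map_add]
    linear_combination h1 + h2
  have hlm : ∀ (l : Fˣ) (g : det1 F q m) a (c : skew hF),
      emb hF P l (k l * g.1) * uel hF P a (s0 a + c.1) ∈ Line m P := fun l g a c => by
    refine mul_mem (emb_line hF P ?_) (uel_line hF P (ok a c))
    show ((k l).1.1 * g.1.1.1).det * _ = 1
    have h1 : (l : F) ≠ 0 := l.ne_zero
    have h2 : σ (l : F) ≠ 0 := fun e => h1 (eq_zero_of_frob hF e)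
    rw [det_mul, hk, mem_det1.1 g.2]
    field_simp
  refine le_trans (le_of_eq ?_) (Nat.card_le_card_of_injective
    (fun p : (Fˣ × det1 F q m) × ((Fin m → F) × skew hF) =>
      (⟨_, hlm p.1.1 p.1.2 p.2.1 p.2.2⟩ : Line (F := F) (q := q) m P)) ?_)
  · rw [Nat.card_prod, Nat.card_prod, Nat.card_prod, card_skew hF, Nat.card_units, Nat.card_eq_fintype_card,
      Nat.card_eq_fintype_card (α := Fin m → F), Fintype.card_fun, Fintype.card_fin, hF, pow_mul,
      Nat.card_eq_fintype_card, hF, ← Nat.card_eq_fintype_card]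
  · rintro ⟨⟨l, g⟩, a, c⟩ ⟨⟨l', g'⟩, a', c'⟩ e
    have e' := congrArg Subtype.val e
    simp only at e'
    have e1 := rho_val hF P (ok a c) (hlm l g a c)
    have e2 := rho_val hF P (ok a' c') (hlm l' g' a' c')
    rw [show (⟨_, hlm l g a c⟩ : Line (F := F) (q := q) m P) = ⟨_, hlm l' g' a' c'⟩ from Subtype.ext e', e2] at e1
    obtain ⟨rfl, e3⟩ := Prod.mk.inj e1
    obtain rfl : g = g' := Subtype.ext (mul_left_cancel e3.symm)
    have e4 : uel hF P a (s0 a + c.1) = uel hF P a' (s0 a' + c'.1) := mul_left_cancel e'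
    have e5 := congrArg (fun x : Gb => x.1.1 *ᵥ wp P) e4
    simp only [uel_apply hF P (ok a c), uel_apply hF P (ok a' c'), h_top hF, P.wv hF, pr_top, h_zero_left hF,
      one_smul, zero_smul, sub_zero, mul_one] at e5
    have ea : a = a' := by
      have := congrArg pr e5
      simpa [pr_add, pr_smul, pr_top, pr_inc] using this
    subst ea
    have : (s0 a + c.1) • vp (m := m) P = (s0 a + c'.1) • vp P := add_left_cancel e5
    rw [Subtype.ext (add_left_cancel (smul_left_injective F (vp_ne hF P) this))]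

include hF in
/-- The inequality in the stabiliser of the point. -/
theorem line_ineq (hm1 : 1 ≤ m) (hH : H ≤ det1 F q (m + 2)) :
    (q ^ 2 - 1) * (Kh hF P H).relIndex (det1 F q m) * (q ^ (2 * m) * q) ≤
      H.relIndex (Line (F := F) (q := q) m P) * (Nat.card (Sc hF P H) * Nat.card (Zh hF P H) * Nat.card (Wh hF P H)) := by
  have hk := Subgroup.card_mul_index ((Kh hF P H).subgroupOf (det1 F q m))
  rw [Nat.card_congr (Subgroup.subgroupOfEquivOfLe (kh_det hF P H hH)).toEquiv] at hk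
  have hl := Subgroup.card_mul_index (H.subgroupOf (Line m P))
  have h1 : (H.subgroupOf (Line m P)).index ≤ H.relIndex (Line (F := F) (q := q) m P) := le_rfl
  have hK : 0 < Nat.card (Kh hF P H) := Nat.card_pos
  refine Nat.le_of_mul_le_mul_right ?_ hK
  calc (q ^ 2 - 1) * (Kh hF P H).relIndex (det1 F q m) * (q ^ (2 * m) * q) * Nat.card (Kh hF P H)
      = (q ^ 2 - 1) * (Nat.card (Kh hF P H) * ((Kh hF P H).subgroupOf (det1 F q m)).index) *
          (q ^ (2 * m) * q) := by rw [Subgroup.relIndex]; ring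
    _ ≤ Nat.card (Line (F := F) (q := q) m P) := by rw [hk]; exact card_line hF P hm1
    _ ≤ Nat.card (H.subgroupOf (Line m P)) * H.relIndex (Line (F := F) (q := q) m P) := by
          conv_lhs => rw [← hl]
          exact Nat.mul_le_mul_left _ h1
    _ ≤ _ * H.relIndex (Line (F := F) (q := q) m P) := Nat.mul_le_mul_right _ (card_part hF P H hH)
    _ = _ := by ring

include hF in
/-- The basic inequality. -/
theorem main_ineq (hm1 : 1 ≤ m) (hH : H ≤ det1 F q (m + 2)) :
    (q ^ 2 - 1) * (Kh hF P H).relIndex (det1 F q m) * (q ^ (2 * m) * q) ≤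
      H.relIndex (det1 F q (m + 2)) * (Nat.card (Sc hF P H) * Nat.card (Zh hF P H) * Nat.card (Wh hF P H)) :=
  (line_ineq hF P H hm1 hH).trans (Nat.mul_le_mul_right _ (OmegaMin.relIndex_mono H (fun _ hg => hg.1)))

include hF in
theorem main_any (hm1 : 1 ≤ m) (hH : H ≤ det1 F q (m + 2)) :
    (Kh hF P H).relIndex (det1 F q m) * q ^ (2 * m) ≤
      H.relIndex (det1 F q (m + 2)) * Nat.card (Wh hF P H) := by
  have h := main_ineq hF P H hm1 hH
  have hq := two_le_q hF
  have h1 : Nat.card (Sc hF P H) ≤ q ^ 2 - 1 := by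
    refine (Subgroup.card_le_card_group _).trans ?_
    rw [Nat.card_units, Nat.card_eq_fintype_card, hF]
  have h2 : Nat.card (Zh hF P H) ≤ q := by
    exact (AddSubgroup.card_le_of_le (zh_le hF P H)).trans (card_skew hF).le
  have h3 : 0 < (q ^ 2 - 1) * q := Nat.mul_pos (by have : 2 ^ 2 ≤ q ^ 2 := Nat.pow_le_pow_left hq 2; omega) (by omega)
  refine Nat.le_of_mul_le_mul_right ?_ h3
  calc _ = (q ^ 2 - 1) * (Kh hF P H).relIndex (det1 F q m) * (q ^ (2 * m) * q) := by ring
    _ ≤ _ := h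
    _ ≤ H.relIndex (det1 F q (m + 2)) * ((q ^ 2 - 1) * q * Nat.card (Wh hF P H)) :=
        Nat.mul_le_mul_left _ (Nat.mul_le_mul_right _ (Nat.mul_le_mul h1 h2))
    _ = _ := by ring

include hF in
theorem main_free (hm1 : 1 ≤ m) (hH : H ≤ det1 F q (m + 2)) (hfree : Free hF P H) :
    (Kh hF P H).relIndex (det1 F q m) * q ^ (2 * m + 1) ≤
      H.relIndex (det1 F q (m + 2)) * Nat.card (Wh hF P H) := by
  have h := main_ineq hF P H hm1 hH
  have hq := two_le_q hF
  obtain ⟨x, hx, hxZ⟩ := hfree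
  have h1 : Nat.card (Sc hF P H) * Nat.card (Zh hF P H) ≤ q ^ 2 - 1 :=
    scalar_bound hF _ (zh_le hF P H) hx hxZ _ (by
      rintro l ⟨⟨l', g⟩, hp, rfl⟩ z hz
      exact act_zh hF P H hH hp hz)
  have h3 : 0 < q ^ 2 - 1 := by have : 2 ^ 2 ≤ q ^ 2 := Nat.pow_le_pow_left hq 2; omega
  refine Nat.le_of_mul_le_mul_right ?_ h3
  calc _ = (q ^ 2 - 1) * (Kh hF P H).relIndex (det1 F q m) * (q ^ (2 * m) * q) := by ring
    _ ≤ _ := h
    _ ≤ H.relIndex (det1 F q (m + 2)) * ((q ^ 2 - 1) * Nat.card (Wh hF P H)) :=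
        Nat.mul_le_mul_left _ (Nat.mul_le_mul_right _ h1)
    _ = _ := by ring

include hF in
theorem kh_inv (hH : H ≤ det1 F q (m + 2)) {g : Gl} (hg : g ∈ Kh hF P H) {a : Fin m → F}
    (ha : a ∈ Wh hF P H) : g.1.1 *ᵥ a ∈ Wh hF P H := by
  simpa using act_wh hF P H hH (l := 1) hg ha

include hF in
/-- A character for the pairing of translations. -/
theorem free_char (hfree : Free hF P H) :
    ∃ ψ : AddChar F ℂ, (∀ z ∈ Zh hF P H, ψ z = 1) ∧ ∃ x ∈ skew hF, ψ x ≠ 1 := by
  obtain ⟨x, hx, hxZ⟩ := hfree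
  obtain ⟨ψ, h1, h2⟩ := exists_char hxZ
  exact ⟨ψ, h1, x, hx, h2⟩

end CfsgLib.PsuMin
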