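import Mathlib
import Cfsg.Agent.Lib.PsuMin.Ineq

/-! Subgroups of vectors with isotropic brackets and their invariance groups. -/

set_option autoImplicit false

namespace CfsgLib.PsuMin

open Matrix CfsgLib.UnitaryTransvection Module CfsgLib.HermCount

variable {F : Type*} [Field F] [Fintype F] {q m : ℕ} (hF : Fintype.card F = q ^ 2)

local notation "σ" => frob hF
local notation "hm" => Cfsg.hermForm m F q
local notation "Gl" => Cfsg.GU m F q

/-- The form as a biadditive map. -/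
noncomputable def formHom : (Fin m → F) →+ (Fin m → F) →+ F :=
  AddMonoidHom.mk' (fun x => AddMonoidHom.mk' (fun y => hm x y) fun a b => h_add_right hF x a b) fun a b => by
    exact AddMonoidHom.ext fun y => h_add_left a b y

/-- The bracket as a biadditive map. -/
noncomputable def brHom : (Fin m → F) →+ (Fin m → F) →+ F := formHom hF - (formHom hF).flip

theorem formHom_apply (x y : Fin m → F) : formHom hF x y = hm x y := rfl

theorem brHom_apply (x y : Fin m → F) : brHom hF x y = hm x y - hm y x := rfl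

include hF in
theorem card_space : Nat.card (Fin m → F) = q ^ (2 * m) := by
  rw [Nat.card_eq_fintype_card, Fintype.card_fun, Fintype.card_fin, hF, pow_mul]

include hF in
theorem exists_value {x : Fin m → F} (hx : x ≠ 0) (c : F) : ∃ y, hm y x = c := by
  obtain ⟨y, hy⟩ : ∃ y, hm y x ≠ 0 := by
    by_contra hc
    push Not at hc
    exact hx (h_nondeg hF fun y => perp_symm hF (hc y))
  exact ⟨(c / hm y x) • y, by rw [h_smul_left, div_mul_cancel₀ _ hy]⟩

include hF in
/-- A subgroup with isotropic brackets has at most half the dimension. -/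
theorem card_br {ψ : AddChar F ℂ} {x0 : F} (hx0 : x0 ∈ skew hF) (hψ : ψ x0 ≠ 1) (W : AddSubgroup (Fin m → F))
    (hW : ∀ a ∈ W, ∀ b ∈ W, ψ (hm a b - hm b a) = 1) : Nat.card W ≤ q ^ m := by
  have h := card_isotropic (brHom hF) ψ (fun x hx => by
    obtain ⟨c, hc⟩ := exists_sub_frob hF hx0
    obtain ⟨y, hy⟩ := exists_value hF hx c
    exact ⟨y, by rw [brHom_apply, hy, ← h_swap hF y x, hy, hc]; exact hψ⟩) W hW
  rw [card_space hF, two_mul, pow_add] at h
  exact Nat.mul_self_le_mul_self_iff.1 h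

include hF in
/-- A totally isotropic subspace has at most half the dimension. -/
theorem finrank_ti (T : Submodule F (Fin m → F)) (hT : ∀ x ∈ T, ∀ y ∈ T, hm x y = 0) :
    2 * finrank F T ≤ m := by
  obtain ⟨ψ, hψ⟩ := AddChar.exists_apply_ne_zero.2 (one_ne_zero : (1 : F) ≠ 0)
  have h := card_isotropic (formHom hF) ψ (fun x hx => by
    obtain ⟨y, hy⟩ := exists_value hF hx 1
    exact ⟨y, by rw [formHom_apply, hy]; exact hψ⟩) T.toAddSubgroup (fun a ha b hb => by
      rw [formHom_apply, hT a ha b hb, AddChar.map_zero_eq_one])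
  rw [card_space hF, show Nat.card T.toAddSubgroup = Nat.card T from rfl, Module.natCard_eq_pow_finrank (K := F),
    Nat.card_eq_fintype_card, hF, ← pow_mul, ← pow_add] at h
  have := (Nat.pow_le_pow_iff_right (two_le_q hF)).1 h
  omega

include hF in
/-- Either a non-degenerate pair, or the form has rank at most one. -/
theorem dichotomy (W : AddSubgroup (Fin m → F)) :
    (∃ a ∈ W, ∃ b ∈ W, NdPair (q := q) a b) ∨ (∀ a ∈ W, ∀ b ∈ W, hm a b = 0) ∨
      ∃ a ∈ W, hm a a ≠ 0 ∧ ∀ b ∈ W, hm (b - (hm b a / hm a a) • a) a = 0 ∧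
        ∀ c ∈ W, hm (b - (hm b a / hm a a) • a) c = 0 := by
  by_cases hnd : ∃ a ∈ W, ∃ b ∈ W, NdPair (q := q) a b
  · exact Or.inl hnd
  right
  push Not at hnd
  have det : ∀ x ∈ W, ∀ y ∈ W, hm x x * hm y y = hm x y * hm y x := fun x hx y hy =>
    sub_eq_zero.1 (not_ne_iff.1 (hnd x hx y hy))
  by_cases h0 : ∀ a ∈ W, hm a a = 0
  · left
    intro a ha b hb
    have e := det a ha b hb
    rw [h0 a ha, zero_mul, ← h_swap hF a b] at e
    rcases mul_eq_zero.1 e.symm with e1 | e1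
    · exact e1
    · exact eq_zero_of_frob hF e1
  push Not at h0
  obtain ⟨a, ha, haa⟩ := h0
  right
  refine ⟨a, ha, haa, ?_⟩
  set N := hm a a with hN
  have hsN : σ N = N := h_swap hF a a
  let lam : (Fin m → F) → F := fun b => hm b a / N
  have hperp : ∀ b, hm (b - lam b • a) a = 0 := fun b => by
    rw [h_sub_left, h_smul_left, div_mul_cancel₀ _ haa, sub_self]
  have hself : ∀ b ∈ W, hm (b - lam b • a) (b - lam b • a) = 0 := by
    intro b hb
    rw [h_sub_right hF, h_smul_right hF, hperp, mul_zero, sub_zero, h_sub_left, h_smul_left]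
    have e := det a ha b hb
    show hm b b - hm b a / N * hm a b = 0
    rw [div_mul_eq_mul_div, sub_eq_zero, eq_div_iff haa]
    linear_combination e
  intro b hb
  refine ⟨hperp b, fun c hc => ?_⟩
  show hm (b - lam b • a) c = 0
  set l := lam b with hl
  set p := lam c with hp
  set g := hm (b - l • a) (c - p • a) with hg
  have hbc : hm (b - l • a) c = g := by
    rw [hg, h_sub_right hF, h_smul_right hF, hperp, mul_zero, sub_zero]
  rw [hbc]
  have hgg : hm (c - p • a) (b - l • a) = σ g := (h_swap hF _ _).symm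
  have ebb : hm (b - l • a) (b - l • a) = 0 := hself b hb
  have ecc : hm (c - p • a) (c - p • a) = 0 := hself c hc
  have hbp : hm (b - l • a) a = 0 := hperp b
  have hcp : hm (c - p • a) a = 0 := hperp c
  have eg : g + σ g = 0 := by
    have e := hself (b + c) (add_mem hb hc)
    have el : b + c - lam (b + c) • a = (b - l • a) + (c - p • a) := by
      simp only [lam, hl, hp, h_add_left, add_div, add_smul]
      abel
    rw [el, h_add_left, h_add_right hF, h_add_right hF, ebb, ecc, ← hg, hgg] at e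
    linear_combination e
  have hac : hm a (c - p • a) = 0 := perp_symm hF (hperp c)
  have hab : hm a (b - l • a) = 0 := perp_symm hF (hperp b)
  -- the determinant of the pair of `x • a + b` and `y • a + c`
  have hdet : ∀ x y : F, (x • a + (b - l • a)) ∈ W → (y • a + (c - p • a)) ∈ W →
      N * (x * σ y * σ g + σ x * y * g) + g * σ g = 0 := by
    intro x y hx hy
    have e := det _ hx _ hy
    simp only [h_add_left, h_add_right hF, h_smul_left, h_smul_right hF, ebb, ecc, hbp, hcp, hac, hab, ← hg, hgg,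
      ← hN, mul_zero, zero_mul, add_zero, zero_add] at e
    linear_combination -e
  have mb : l • a + (b - l • a) ∈ W := by rw [add_sub_cancel]; exact hb
  have mc : p • a + (c - p • a) ∈ W := by rw [add_sub_cancel]; exact hc
  have mb' : (1 + l) • a + (b - l • a) ∈ W := by
    rw [add_smul, one_smul, add_assoc, add_sub_cancel]; exact add_mem ha hb
  have mc' : (1 + p) • a + (c - p • a) ∈ W := by
    rw [add_smul, one_smul, add_assoc, add_sub_cancel]; exact add_mem ha hc
  have e0 := hdet l p mb mc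
  have e1 := hdet (1 + l) p mb' mc
  have e2 := hdet l (1 + p) mb mc'
  simp only [map_add, map_one] at e1 e2
  have f1 : g * (p - σ p) = 0 := mul_left_cancel₀ haa (by linear_combination e1 - e0 - N * σ p * eg)
  have f2 : g * (l - σ l) = 0 := mul_left_cancel₀ haa (by linear_combination e0 - e2 + N * l * eg)
  by_contra hne
  have hp' : σ p = p := (sub_eq_zero.1 ((mul_eq_zero.1 f1).resolve_left hne)).symm
  have hl' : σ l = l := (sub_eq_zero.1 ((mul_eq_zero.1 f2).resolve_left hne)).symm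
  rw [hp', hl'] at e0
  rcases mul_eq_zero.1 (show g * σ g = 0 by linear_combination e0 - N * l * p * eg) with e | e
  · exact hne e
  · exact hne (eq_zero_of_frob hF e)

include hF in
/-- The images of one vector. -/
theorem orbit_vec (hm3 : 3 ≤ m) (K : Subgroup Gl) (hK : K ≤ det1 F q m) {a : Fin m → F} (ha : a ≠ 0)
    (A : Set (Fin m → F)) (hA : ∀ g ∈ K, g.1.1 *ᵥ a ∈ A) :
    ({x : Fin m → F | x ≠ 0 ∧ hm x x = hm a a}).ncard ≤ K.relIndex (det1 F q m) * A.ncard :=
  OmegaMin.card_le_relIndex_mul (fun (g : Gl) x => g.1.1 *ᵥ x) _ K hK a (fun g _ g' _ => mul_apply g g' a) _ A hA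
    fun x hx => trans_level hF hm3 ha hx.1 hx.2.symm

include hF in
/-- The images of a non-degenerate pair inside `W`. -/
theorem orbit_pair {j : ℕ} (hj : 2 ≤ j) (K : Subgroup (Cfsg.GU (j + 1) F q)) (hK : K ≤ det1 F q (j + 1))
    (W : AddSubgroup (Fin (j + 1) → F)) (hinv : ∀ g ∈ K, ∀ x ∈ W, g.1.1 *ᵥ x ∈ W) {a b : Fin (j + 1) → F}
    (ha : a ∈ W) (hb : b ∈ W) (hnd : NdPair (q := q) a b) :
    A1 F q (j + 1) * A1 F q j * 2 ≤ K.relIndex (det1 F q (j + 1)) * (Nat.card W * Nat.card W) := by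
  classical
  let T : Set ((Fin (j + 1) → F) × (Fin (j + 1) → F)) := {p | p ∈ SameGram (q := q) a b ∧ p.1 ∈ W ∧ p.2 ∈ W}
  have h1 := OmegaMin.card_le_relIndex_mul
    (fun (g : Cfsg.GU (j + 1) F q) p => ((g.1.1 *ᵥ p.1, g.1.1 *ᵥ p.2) : (Fin (j + 1) → F) × (Fin (j + 1) → F)))
    _ K hK (a, b) (fun g _ g' _ => Prod.ext (mul_apply g g' a) (mul_apply g g' b)) (SameGram (q := q) a b) T
    (fun g hg => ⟨⟨gu_h g _ _, gu_h g _ _, gu_h g _ _⟩, hinv g hg a ha, hinv g hg b hb⟩)
    (fun p hp => by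
      obtain ⟨g, hg, e1, e2⟩ := trans_pair hF (show 3 ≤ j + 1 by omega) hnd hp.1 hp.2.1 hp.2.2
      exact ⟨g, hg, Prod.ext e1 e2⟩)
  have hex : ∀ p : T, ∃ d ∈ W, Cfsg.hermForm (j + 1) F q p.1.1 d ≠ 0 := by
    intro p
    by_cases e : Cfsg.hermForm (j + 1) F q a b = 0
    · refine ⟨p.1.1, p.2.2.1, ?_⟩
      rw [p.2.1.1]
      exact fun e1 => hnd (by rw [e1, e]; ring)
    · exact ⟨p.1.2, p.2.2.2, by rw [p.2.1.2.1]; exact e⟩
  choose d hd hd0 using fun x : {x : Fin (j + 1) → F // ∃ p : T, p.1.1 = x} => (show ∃ d ∈ W,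
    Cfsg.hermForm (j + 1) F q x.1 d ≠ 0 by obtain ⟨p, hp⟩ := x.2; rw [← hp]; exact hex p)
  have h2 : T.ncard * 2 ≤ Nat.card W * Nat.card W := by
    rw [← Nat.card_coe_set_eq, show (2 : ℕ) = Nat.card Bool by simp, ← Nat.card_prod, ← Nat.card_prod]
    let f : T × Bool → W × W := fun x =>
      (⟨x.1.1.1, x.1.2.2.1⟩, if x.2 then ⟨x.1.1.2 + d ⟨x.1.1.1, x.1, rfl⟩, add_mem x.1.2.2.2 (hd _)⟩
        else ⟨x.1.1.2, x.1.2.2.2⟩)
    refine Nat.card_le_card_of_injective f ?_
    rintro ⟨⟨⟨x, y⟩, hp⟩, s⟩ ⟨⟨⟨x', y'⟩, hp'⟩, s'⟩ e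
    simp only [f, Prod.mk.injEq, Subtype.mk.injEq] at e
    obtain ⟨rfl, e⟩ := e
    have hy : Cfsg.hermForm (j + 1) F q x y = Cfsg.hermForm (j + 1) F q x y' := by rw [hp.1.2.1, hp'.1.2.1]
    cases s <;> cases s' <;> simp only [if_true, if_false, Bool.false_eq_true, Subtype.mk.injEq] at e
    · subst e; rfl
    · refine absurd ?_ (hd0 ⟨x, ⟨(x, y'), hp'⟩, rfl⟩)
      rw [e, h_add_right hF] at hy
      linear_combination hy
    · refine absurd ?_ (hd0 ⟨x, ⟨(x, y), hp⟩, rfl⟩)
      rw [← e, h_add_right hF] at hy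
      linear_combination -hy
    · obtain rfl := add_right_cancel e; rfl
  calc A1 F q (j + 1) * A1 F q j * 2 ≤ (SameGram (q := q) a b).ncard * 2 :=
        Nat.mul_le_mul_right _ (pair_count hF hnd)
    _ ≤ K.relIndex (det1 F q (j + 1)) * T.ncard * 2 := Nat.mul_le_mul_right _ h1
    _ ≤ _ := by rw [mul_assoc]; exact Nat.mul_le_mul_left _ h2

include hF in
/-- An invariant totally isotropic subspace. -/
theorem exists_radical (K : Subgroup Gl) (W : AddSubgroup (Fin m → F)) (hW : ∃ w ∈ W, w ≠ 0)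
    (hinv : ∀ g ∈ K, ∀ x ∈ W, g.1.1 *ᵥ x ∈ W) (hnd : ¬ ∃ a ∈ W, ∃ b ∈ W, NdPair (q := q) a b) :
    (∃ a ∈ W, hm a a ≠ 0 ∧ ∀ b ∈ W, ∃ l : F, b = l • a) ∨
      ∃ T : Submodule F (Fin m → F), T ≠ ⊥ ∧ T ≤ Submodule.span F (W : Set (Fin m → F)) ∧
        (∀ x ∈ T, ∀ y ∈ T, hm x y = 0) ∧ (∀ g ∈ K, ∀ x ∈ T, g.1.1 *ᵥ x ∈ T) ∧
        ((∀ x ∈ W, x ∈ T) ∨ ∃ a ∈ W, hm a a ≠ 0 ∧ (∀ x ∈ T, hm x a = 0) ∧
          ∀ b ∈ W, b - (hm b a / hm a a) • a ∈ T) := by
  let S := Submodule.span F (W : Set (Fin m → F))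
  let T : Submodule F (Fin m → F) :=
    { carrier := {x | x ∈ S ∧ ∀ y ∈ W, hm x y = 0}
      zero_mem' := ⟨S.zero_mem, fun y _ => h_zero_left hF y⟩
      add_mem' := fun {u v} hu hv => ⟨S.add_mem hu.1 hv.1, fun y hy => by
        rw [h_add_left, hu.2 y hy, hv.2 y hy, add_zero]⟩
      smul_mem' := fun c {u} hu => ⟨S.smul_mem c hu.1, fun y hy => by rw [h_smul_left, hu.2 y hy, mul_zero]⟩ }
  have hTI : ∀ x ∈ T, ∀ y ∈ T, hm x y = 0 := fun x hx y hy => by
    refine Submodule.span_induction (p := fun z _ => hm x z = 0) (fun z hz => hx.2 z hz) (h_zero_right hF x)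
      (fun u v _ _ e1 e2 => by rw [h_add_right hF, e1, e2, add_zero])
      (fun c u _ e1 => by rw [h_smul_right hF, e1, mul_zero]) hy.1
  have hSinv : ∀ g ∈ K, ∀ x ∈ S, g.1.1 *ᵥ x ∈ S := fun g hg x hx => by
    refine Submodule.span_induction (p := fun z _ => g.1.1 *ᵥ z ∈ S)
      (fun z hz => Submodule.subset_span (hinv g hg z hz)) (by rw [mulVec_zero]; exact S.zero_mem)
      (fun u v _ _ e1 e2 => by rw [mulVec_add]; exact S.add_mem e1 e2)
      (fun c u _ e1 => by rw [mulVec_smul]; exact S.smul_mem c e1) hx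
  have hTinv : ∀ g ∈ K, ∀ x ∈ T, g.1.1 *ᵥ x ∈ T := fun g hg x hx => ⟨hSinv g hg x hx.1, fun y hy => by
    rw [← apply_inv_apply g y, gu_h g]
    exact hx.2 _ (hinv _ (inv_mem hg) y hy)⟩
  obtain ⟨w, hw, hw0⟩ := hW
  rcases dichotomy hF W with h | h | ⟨a, ha, haa, hperp⟩
  · exact absurd h hnd
  · refine Or.inr ⟨T, fun e => hw0 ((Submodule.eq_bot_iff T).1 e w ⟨Submodule.subset_span hw, fun y hy => h w hw y hy⟩),
      fun x hx => hx.1, hTI, hTinv, Or.inl fun x hx => ⟨Submodule.subset_span hx, fun y hy => h x hx y hy⟩⟩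
  have hmem : ∀ b ∈ W, b - (hm b a / hm a a) • a ∈ T := fun b hb =>
    ⟨S.sub_mem (Submodule.subset_span hb) (S.smul_mem _ (Submodule.subset_span ha)), (hperp b hb).2⟩
  by_cases hT : T = ⊥
  · exact Or.inl ⟨a, ha, haa, fun b hb => ⟨_, sub_eq_zero.1 ((Submodule.eq_bot_iff T).1 hT _ (hmem b hb))⟩⟩
  · exact Or.inr ⟨T, hT, fun x hx => hx.1, hTI, hTinv, Or.inr ⟨a, ha, haa, fun x hx => hx.2 a ha, hmem⟩⟩

include hF in
/-- The vectors of `W` on one line with the norm of a given one. -/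
theorem card_line_level {a : Fin m → F} (haa : hm a a ≠ 0) (A : Set (Fin m → F))
    (hA : ∀ x ∈ A, hm x x = hm a a ∧ ∃ l : F, x = l • a) : A.ncard ≤ q + 1 := by
  choose l hl using fun x : A => (hA x.1 x.2).2
  have hN : ∀ x : A, l x * σ (l x) = 1 := fun x => by
    have e := (hA x.1 x.2).1
    rw [hl x, h_smul_left, h_smul_right hF] at e
    exact mul_right_cancel₀ haa (by linear_combination e)
  rw [← card_norm_ker hF, ← Nat.card_coe_set_eq]
  refine Nat.card_le_card_of_injective (fun x => ⟨Units.mk0 (l x) (left_ne_zero_of_mul_eq_one (hN x)), Units.ext ?_⟩)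
    fun x y e => Subtype.ext ?_
  · show ((Units.mk0 (l x) _ ^ (q + 1) : Fˣ) : F) = 1
    rw [Units.val_pow_eq_pow_val, Units.val_mk0, pow_succ', ← frob_apply hF]
    exact hN x
  · rw [hl x, hl y, show l x = l y from congrArg Units.val (congrArg Subtype.val e)]

end CfsgLib.PsuMin
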