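import Mathlib
import Cfsg.Agent.Lib.PsuMin.WSize

/-! The basic bound for dimension at least four. -/

set_option autoImplicit false

namespace CfsgLib.PsuMin

open Matrix CfsgLib.UnitaryTransvection Module CfsgLib.HermCount

variable {F : Type*} [Field F] [Fintype F] {q m : ℕ} (hF : Fintype.card F = q ^ 2)

local notation "σ" => frob hF
local notation "hm" => Cfsg.hermForm m F q
local notation "Gl" => Cfsg.GU m F q

include hF in
theorem L0_le (k : ℕ) : L0 F q (k + 1) ≤ (q ^ (k + 1) + 1) * (q ^ k + 1) := by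
  have h := L0_eq hF k
  have hq : (0 : ℤ) ≤ q := Int.natCast_nonneg q
  have h1 : (1 : ℤ) ≤ (q : ℤ) ^ k := one_le_pow₀ (by have := two_le_q hF; exact_mod_cast (by omega : 1 ≤ q))
  have h2 : (1 : ℤ) ≤ (q : ℤ) ^ (k + 1) := one_le_pow₀ (by have := two_le_q hF; exact_mod_cast (by omega : 1 ≤ q))
  zify
  rcases neg_one_pow_eq_or ℤ (k + 1) with e | e <;> rw [e] at h <;> nlinarith

include hF in
theorem L0_ge (k : ℕ) : (q ^ (k + 1) - 1) * (q ^ k - 1) ≤ L0 F q (k + 1) := by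
  have h := L0_eq hF k
  have h1 : 1 ≤ q ^ k := Nat.one_le_pow _ _ (by have := two_le_q hF; omega)
  have h2 : 1 ≤ q ^ (k + 1) := Nat.one_le_pow _ _ (by have := two_le_q hF; omega)
  have h1' : (1 : ℤ) ≤ (q : ℤ) ^ k := by exact_mod_cast h1
  have h2' : (1 : ℤ) ≤ (q : ℤ) ^ (k + 1) := by exact_mod_cast h2
  zify [h1, h2]
  rcases neg_one_pow_eq_or ℤ (k + 1) with e | e <;> rw [e] at h <;> nlinarith

include hF in
theorem A1_ge (k : ℕ) : q ^ k * (q ^ (k + 1) - 1) ≤ A1 F q (k + 1) := by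
  have h := A1_eq hF k
  have h2 : 1 ≤ q ^ (k + 1) := Nat.one_le_pow _ _ (by have := two_le_q hF; omega)
  have h3 : (0 : ℤ) ≤ (q : ℤ) ^ k := by positivity
  zify [h2]
  rcases neg_one_pow_eq_or ℤ (k + 1) with e | e <;> rw [e] at h <;> nlinarith

include hF in
theorem frames_two (hm2 : 2 ≤ m) :
    Nat.card (IsotropicCount.Frame (Cfsg.hermForm m F q) 2) = L0 F q m * (q ^ 2 * L0 F q (m - 2)) := by
  rw [IsotropicCount.card_hermFrame hF 2 (by omega), Finset.prod_range_succ, Finset.prod_range_one]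
  simp [← L0_succ hF]

include hF in
/-- The images of a totally isotropic subspace. -/
theorem orbit_ti (K : Subgroup Gl) (hK : K ≤ det1 F q m) (T : Submodule F (Fin m → F))
    (hT : ∀ x ∈ T, ∀ y ∈ T, hm x y = 0) (hinv : ∀ g ∈ K, ∀ x ∈ T, g.1.1 *ᵥ x ∈ T) (ht : 2 ≤ finrank F T) :
    Nat.card (IsotropicCount.Frame (Cfsg.hermForm m F q) 2) ≤
      K.relIndex (det1 F q m) *
        (((q ^ 2) ^ finrank F T - 1) * ((q ^ 2) ^ finrank F T - q ^ 2)) := by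
  classical
  let act : Gl → Set (Fin m → F) → Set (Fin m → F) := fun g A => (fun x => g.1.1 *ᵥ x) '' A
  obtain ⟨v0, hv0⟩ := exists_linearIndependent_of_le_finrank ht
  let s0 : IsotropicCount.Frame (Cfsg.hermForm m F q) 2 :=
    ⟨fun i => (v0 i : Fin m → F), hv0.map' T.subtype T.ker_subtype, fun i j => hT _ (v0 i).2 _ (v0 j).2⟩
  choose g hg using fun f => IsotropicCount.herm_trans hF s0 f
  let S : Set (Set (Fin m → F)) := Set.range fun f => act (g f) T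
  have h1 : S.ncard ≤ K.relIndex (det1 F q m) * ({(T : Set (Fin m → F))} : Set (Set (Fin m → F))).ncard := by
    refine OmegaMin.card_le_relIndex_mul act _ K hK (T : Set (Fin m → F)) (fun a _ b _ => ?_) S _ (fun a ha => ?_) ?_
    · show _ '' _ = _ '' (_ '' _)
      rw [Set.image_image]
      exact Set.image_congr fun x _ => mul_apply a b x
    · refine Set.mem_singleton_iff.2 (Set.Subset.antisymm ?_ fun x hx => ?_)
      · rintro _ ⟨x, hx, rfl⟩; exact hinv a ha x hx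
      · exact ⟨a⁻¹.1.1 *ᵥ x, hinv _ (inv_mem ha) x hx, apply_inv_apply a x⟩
    · rintro _ ⟨f, rfl⟩
      set b := (g f).1.1 *ᵥ s0.1 0 with hb
      have hb0 : b ≠ 0 := mulVec_ne_zero _ (s0.2.1.ne_zero 0)
      have hbb : hm b b = 0 := by rw [hb, gu_h (g f)]; exact s0.2.2 0 0
      obtain ⟨y, hy, hby, -⟩ := exists_iso_partner hF hb0 hbb
      obtain ⟨g', hg', hfix, -, -⟩ := det_fix_line hF (g f) hbb hy hby
      refine ⟨g', hg', Set.eq_of_subset_of_ncard_le ?_ (le_of_eq ?_) (Set.toFinite _)⟩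
      · rintro _ ⟨x, hx, rfl⟩
        obtain ⟨t, e⟩ := hfix x (by rw [hb, gu_h (g f)]; exact hT _ hx _ (v0 0).2)
        exact ⟨x + t • s0.1 0, T.add_mem hx (T.smul_mem _ (v0 0).2), by
          show (g f).1.1 *ᵥ (x + t • s0.1 0) = g'.1.1 *ᵥ x
          rw [e, mulVec_add, mulVec_smul]⟩
      · rw [Set.ncard_image_of_injective _ (fun x y e => by
          simpa [inv_apply_apply] using congrArg (fun z => (g f)⁻¹.1.1 *ᵥ z) e),
          Set.ncard_image_of_injective _ (fun x y e => by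
          simpa [inv_apply_apply] using congrArg (fun z => g'⁻¹.1.1 *ᵥ z) e)]
  rw [Set.ncard_singleton, mul_one] at h1
  have hli : Nat.card {v : Fin 2 → T // LinearIndependent F v} =
      ((q ^ 2) ^ finrank F T - 1) * ((q ^ 2) ^ finrank F T - q ^ 2) := by
    rw [card_linearIndependent ht, hF, Fin.prod_univ_two]; simp
  rw [← hli]
  refine le_trans ?_ (Nat.mul_le_mul_right _ h1)
  rw [← Nat.card_coe_set_eq, ← Nat.card_prod]
  choose rep hrep using fun A : S => A.2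
  have hmem : ∀ f i, (g (rep ⟨_, f, rfl⟩))⁻¹.1.1 *ᵥ f.1 i ∈ T := by
    intro f i
    have hA := hrep ⟨_, f, rfl⟩
    simp only at hA
    obtain ⟨x, hx, e⟩ : f.1 i ∈ act (g (rep ⟨_, f, rfl⟩)) T := by
      rw [hA]; exact ⟨(v0 i : Fin m → F), (v0 i).2, hg f i⟩
    rw [← e, inv_apply_apply]
    exact hx
  refine Nat.card_le_card_of_injective
    (fun f => ((⟨_, f, rfl⟩ : S), (⟨fun i => ⟨_, hmem f i⟩, LinearIndependent.of_comp T.subtype ?_⟩ :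
      {v : Fin 2 → T // LinearIndependent F v}))) ?_
  · exact f.2.1.map' (g (rep ⟨_, f, rfl⟩))⁻¹.1.1.mulVecLin
      (LinearMap.ker_eq_bot'.2 fun x hx => not_not.1 fun h0 => mulVec_ne_zero _ h0 hx)
  · intro f f' e
    simp only [Prod.mk.injEq, Subtype.mk.injEq] at e
    obtain ⟨e1, e2⟩ := e
    refine Subtype.ext (funext fun i => ?_)
    have e4 := congrArg Subtype.val (congrFun e2 i)
    simp only [e1] at e4
    have := congrArg (fun z => (g (rep ⟨_, f', rfl⟩)).1.1 *ᵥ z) e4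
    simpa only [apply_inv_apply] using this

theorem arith_pair {q a k : ℕ} (hq : 2 ≤ q) (ha : 1 ≤ a)
    (h : 2 * ((q ^ 3 * a * (q ^ 4 * a - 1)) * (q ^ 2 * a * (q ^ 3 * a - 1))) ≤ k * (q ^ 8 * a ^ 2)) :
    (q ^ 6 * a + 1) * (q ^ 5 * a + 1) ≤ k * (q ^ 2 - 1) * (q ^ 5 * a) := by
  have p4 : 16 ≤ q ^ 4 := Nat.pow_le_pow_left hq 4
  have p3 : 8 ≤ q ^ 3 := Nat.pow_le_pow_left hq 3
  have p2 : 4 ≤ q ^ 2 := Nat.pow_le_pow_left hq 2
  have p5 : 32 ≤ q ^ 5 := Nat.pow_le_pow_left hq 5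
  have p6 : 64 ≤ q ^ 6 := Nat.pow_le_pow_left hq 6
  have a4 : 16 ≤ q ^ 4 * a := le_mul_of_le_of_one_le p4 ha
  have a3 : 8 ≤ q ^ 3 * a := le_mul_of_le_of_one_le p3 ha
  have a5 : 32 ≤ q ^ 5 * a := le_mul_of_le_of_one_le p5 ha
  have a6 : 64 ≤ q ^ 6 * a := le_mul_of_le_of_one_le p6 ha
  have b4 : 15 * (q ^ 4 * a) ≤ 16 * (q ^ 4 * a - 1) := by omega
  have b3 : 7 * (q ^ 3 * a) ≤ 8 * (q ^ 3 * a - 1) := by omega
  have b2 : 3 * q ^ 2 ≤ 4 * (q ^ 2 - 1) := by omega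
  have b6 : 64 * (q ^ 6 * a + 1) ≤ 65 * (q ^ 6 * a) := by omega
  have b5 : 32 * (q ^ 5 * a + 1) ≤ 33 * (q ^ 5 * a) := by omega
  have h' : 2 * ((q ^ 4 * a - 1) * (q ^ 3 * a - 1)) ≤ k * q ^ 3 := by
    refine Nat.le_of_mul_le_mul_right ?_ (show 0 < q ^ 5 * a ^ 2 from Nat.mul_pos (by omega) (Nat.pow_pos ha))
    calc _ = 2 * ((q ^ 3 * a * (q ^ 4 * a - 1)) * (q ^ 2 * a * (q ^ 3 * a - 1))) := by ring
      _ ≤ _ := h
      _ = _ := by ring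
  refine Nat.le_of_mul_le_mul_left ?_ (show 0 < 2048 by norm_num)
  calc 2048 * ((q ^ 6 * a + 1) * (q ^ 5 * a + 1)) = (64 * (q ^ 6 * a + 1)) * (32 * (q ^ 5 * a + 1)) := by ring
    _ ≤ (65 * (q ^ 6 * a)) * (33 * (q ^ 5 * a)) := Nat.mul_le_mul b6 b5
    _ = 2145 * (q ^ 11 * a ^ 2) * 1 := by ring
    _ ≤ 2520 * (q ^ 11 * a ^ 2) * a := Nat.mul_le_mul (Nat.mul_le_mul_right _ (by norm_num)) ha
    _ = 4 * (3 * q ^ 2 * (q ^ 2 * a) * (2 * ((15 * (q ^ 4 * a)) * (7 * (q ^ 3 * a))))) := by ring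
    _ ≤ 4 * (4 * (q ^ 2 - 1) * (q ^ 2 * a) * (2 * ((16 * (q ^ 4 * a - 1)) * (8 * (q ^ 3 * a - 1))))) := by gcongr
    _ = 2048 * ((q ^ 2 - 1) * (q ^ 2 * a) * (2 * ((q ^ 4 * a - 1) * (q ^ 3 * a - 1)))) := by ring
    _ ≤ 2048 * ((q ^ 2 - 1) * (q ^ 2 * a) * (k * q ^ 3)) := by gcongr
    _ = _ := by ring

theorem arith_line {q a k : ℕ} (hq : 2 ≤ q) (ha : 1 ≤ a)
    (h : q ^ 3 * a * (q ^ 4 * a - 1) ≤ k * (q + 1) ∨ (q ^ 4 * a - 1) * (q ^ 3 * a - 1) ≤ k * (q ^ 2 - 1)) :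
    (q ^ 6 * a + 1) * (q ^ 5 * a + 1) ≤ k * (q ^ 2 - 1) * (q ^ 5 * a) := by
  have p4 : 16 ≤ q ^ 4 := Nat.pow_le_pow_left hq 4
  have p3 : 8 ≤ q ^ 3 := Nat.pow_le_pow_left hq 3
  have p5 : 32 ≤ q ^ 5 := Nat.pow_le_pow_left hq 5
  have p6 : 64 ≤ q ^ 6 := Nat.pow_le_pow_left hq 6
  have a4 : 16 ≤ q ^ 4 * a := le_mul_of_le_of_one_le p4 ha
  have a3 : 8 ≤ q ^ 3 * a := le_mul_of_le_of_one_le p3 ha
  have a5 : 32 ≤ q ^ 5 * a := le_mul_of_le_of_one_le p5 ha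
  have a6 : 64 ≤ q ^ 6 * a := le_mul_of_le_of_one_le p6 ha
  have b4 : 15 * (q ^ 4 * a) ≤ 16 * (q ^ 4 * a - 1) := by omega
  have b3 : 7 * (q ^ 3 * a) ≤ 8 * (q ^ 3 * a - 1) := by omega
  have b6 : 64 * (q ^ 6 * a + 1) ≤ 65 * (q ^ 6 * a) := by omega
  have b5 : 32 * (q ^ 5 * a + 1) ≤ 33 * (q ^ 5 * a) := by omega
  have key : (q ^ 4 * a - 1) * (q ^ 3 * a - 1) ≤ k * (q ^ 2 - 1) := by
    rcases h with h | h
    · have e : q ^ 2 - 1 = (q + 1) * (q - 1) := by rw [← Nat.sq_sub_sq, one_pow]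
      rw [e, ← mul_assoc]
      calc (q ^ 4 * a - 1) * (q ^ 3 * a - 1) ≤ (q ^ 4 * a - 1) * (q ^ 3 * a) := Nat.mul_le_mul_left _ (by omega)
        _ = q ^ 3 * a * (q ^ 4 * a - 1) := mul_comm _ _
        _ ≤ k * (q + 1) := h
        _ ≤ _ := Nat.le_mul_of_pos_right _ (by omega)
    · exact h
  refine Nat.le_of_mul_le_mul_left ?_ (show 0 < 2048 by norm_num)
  calc 2048 * ((q ^ 6 * a + 1) * (q ^ 5 * a + 1)) = (64 * (q ^ 6 * a + 1)) * (32 * (q ^ 5 * a + 1)) := by ring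
    _ ≤ (65 * (q ^ 6 * a)) * (33 * (q ^ 5 * a)) := Nat.mul_le_mul b6 b5
    _ = 2145 * (q ^ 11 * a ^ 2) * (1 * 1) := by ring
    _ ≤ 1680 * (q ^ 11 * a ^ 2) * (2 * 1) := by nlinarith
    _ ≤ 1680 * (q ^ 11 * a ^ 2) * (q * a) := by gcongr
    _ = 16 * ((15 * (q ^ 4 * a)) * (7 * (q ^ 3 * a)) * (q ^ 5 * a)) := by ring
    _ ≤ 16 * ((16 * (q ^ 4 * a - 1)) * (8 * (q ^ 3 * a - 1)) * (q ^ 5 * a)) := by gcongr
    _ = 2048 * ((q ^ 4 * a - 1) * (q ^ 3 * a - 1) * (q ^ 5 * a)) := by ring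
    _ ≤ _ := by gcongr

theorem arith_ti {q a k : ℕ} (hq : 2 ≤ q) (ha : 1 ≤ a) (h : (q ^ 3 * a + 1) * (q * a + 1) ≤ k) :
    (q ^ 6 * a + 1) * (q ^ 5 * a + 1) ≤ k * (q ^ 2 - 1) * (q ^ 5 * a) := by
  refine le_trans ?_ (Nat.mul_le_mul_right _ (Nat.mul_le_mul_right _ h))
  have p2 : 4 ≤ q ^ 2 := Nat.pow_le_pow_left hq 2
  have h9 : 8 * q ^ 6 ≤ q ^ 9 := by
    calc 8 * q ^ 6 ≤ q ^ 3 * q ^ 6 := Nat.mul_le_mul_right _ (Nat.pow_le_pow_left hq 3)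
      _ = q ^ 9 := by ring
  have h10 : 2 * q ^ 9 ≤ q ^ 10 := by
    calc 2 * q ^ 9 ≤ q * q ^ 9 := Nat.mul_le_mul_right _ hq
      _ = q ^ 10 := by ring
  have h5 : q ^ 5 ≤ q ^ 6 := Nat.pow_le_pow_right (by omega) (by omega)
  have h0 : 1 ≤ q ^ 5 := Nat.one_le_pow _ _ (by omega)
  have core : q ^ 11 + q ^ 6 + q ^ 5 + 1 ≤ (q ^ 2 - 1) * (q ^ 5 * (q ^ 4 + q ^ 3 + q)) := by
    zify [(by omega : 1 ≤ q ^ 2)] at *
    nlinarith
  calc (q ^ 6 * a + 1) * (q ^ 5 * a + 1)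
      ≤ (q ^ 11 + q ^ 6 + q ^ 5 + 1) * a ^ 2 := by nlinarith [Nat.le_mul_self a]
    _ ≤ (q ^ 2 - 1) * (q ^ 5 * (q ^ 4 + q ^ 3 + q)) * a ^ 2 := Nat.mul_le_mul_right _ core
    _ = (q ^ 2 - 1) * (q ^ 5 * a) * ((q ^ 4 + q ^ 3 + q) * a) := by ring
    _ ≤ (q ^ 2 - 1) * (q ^ 5 * a) * ((q ^ 3 * a + 1) * (q * a + 1)) := by
        refine Nat.mul_le_mul_left _ ?_
        nlinarith [Nat.mul_le_mul_left (q ^ 4 * a) ha]
    _ = _ := by ring

include hF in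
/-- The index is large when there is an invariant isotropic subgroup of vectors. -/
theorem w_bound4 (hm4 : 4 ≤ m) (K : Subgroup Gl) (hK : K ≤ det1 F q m) (W : AddSubgroup (Fin m → F))
    (hW : ∃ w ∈ W, w ≠ 0) (hinv : ∀ g ∈ K, ∀ x ∈ W, g.1.1 *ᵥ x ∈ W) {ψ : AddChar F ℂ} {x0 : F}
    (hx0 : x0 ∈ skew hF) (hψ : ψ x0 ≠ 1) (hbr : ∀ a ∈ W, ∀ b ∈ W, ψ (hm a b - hm b a) = 1) :
    L0 F q (m + 2) * Nat.card W ≤ K.relIndex (det1 F q m) * (q ^ 2 - 1) * q ^ (2 * m + 1) := by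
  obtain ⟨j, rfl⟩ : ∃ j, m = j + 4 := ⟨m - 4, by omega⟩
  have hWc := card_br hF hx0 hψ W hbr
  have hq := two_le_q hF
  set a := q ^ j with ha
  have ha1 : 1 ≤ a := Nat.one_le_pow _ _ (by omega)
  set k := K.relIndex (det1 F q (j + 4)) with hk
  suffices key : (q ^ 6 * a + 1) * (q ^ 5 * a + 1) ≤ k * (q ^ 2 - 1) * (q ^ 5 * a) by
    calc L0 F q (j + 4 + 2) * Nat.card W ≤ (q ^ 6 * a + 1) * (q ^ 5 * a + 1) * q ^ (j + 4) := by
          refine Nat.mul_le_mul ((L0_le hF (j + 5)).trans (le_of_eq ?_)) hWc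
          rw [ha]; ring
      _ ≤ k * (q ^ 2 - 1) * (q ^ 5 * a) * q ^ (j + 4) := Nat.mul_le_mul_right _ key
      _ = _ := by rw [ha]; ring
  by_cases hnd : ∃ x ∈ W, ∃ y ∈ W, NdPair (q := q) x y
  · obtain ⟨x, hx, y, hy, hxy⟩ := hnd
    have h := orbit_pair hF (j := j + 3) (by omega) K hK W hinv hx hy hxy
    refine arith_pair hq ha1 ?_
    calc 2 * ((q ^ 3 * a * (q ^ 4 * a - 1)) * (q ^ 2 * a * (q ^ 3 * a - 1)))
        = q ^ (j + 3) * (q ^ (j + 4) - 1) * (q ^ (j + 2) * (q ^ (j + 3) - 1)) * 2 := by rw [ha]; ring_nf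
      _ ≤ A1 F q (j + 3 + 1) * A1 F q (j + 2 + 1) * 2 :=
          Nat.mul_le_mul_right _ (Nat.mul_le_mul (A1_ge hF (j + 3)) (A1_ge hF (j + 2)))
      _ ≤ k * (Nat.card W * Nat.card W) := h
      _ ≤ k * (q ^ (j + 4) * q ^ (j + 4)) := Nat.mul_le_mul_left _ (Nat.mul_le_mul hWc hWc)
      _ = _ := by rw [ha]; ring
  rcases exists_radical hF K W hW hinv hnd with ⟨w, hw, hww, hline⟩ | ⟨T, hT0, -, hTI, hTinv, -⟩
  · refine arith_line hq ha1 (Or.inl ?_)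
    have hw0 : w ≠ 0 := fun e => hww (by rw [e, h_zero_left hF])
    have h := orbit_vec hF (by omega) K hK hw0 {x | x ∈ W ∧ Cfsg.hermForm (j + 4) F q x x = Cfsg.hermForm (j + 4) F q w w}
      fun g hg => ⟨hinv g hg w hw, gu_h g w w⟩
    rw [ncard_nonzero_level hF hww, card_level hF hww (h_swap hF w w)] at h
    calc q ^ 3 * a * (q ^ 4 * a - 1) = q ^ (j + 3) * (q ^ (j + 3 + 1) - 1) := by rw [ha]; ring_nf
      _ ≤ A1 F q (j + 3 + 1) := A1_ge hF _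
      _ ≤ _ := h.trans (Nat.mul_le_mul_left _ (card_line_level hF hww _ fun x hx => ⟨hx.2, hline x hx.1⟩))
  by_cases ht : finrank F T = 1
  · refine arith_line hq ha1 (Or.inr ?_)
    obtain ⟨f, hf, hf0⟩ := T.exists_mem_ne_zero_of_ne_bot hT0
    have h := orbit_vec hF (by omega) K hK hf0 ((T : Set (Fin (j + 4) → F)) \ {0})
      fun g hg => ⟨hTinv g hg f hf, mulVec_ne_zero g hf0⟩
    rw [hTI f hf f hf] at h
    rw [Set.ncard_sdiff_singleton_of_mem T.zero_mem, show (T : Set (Fin (j + 4) → F)).ncard = Nat.card T from (Nat.card_coe_set_eq _).symm,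
      Module.natCard_eq_pow_finrank (K := F), ht, pow_one, Nat.card_eq_fintype_card, hF] at h
    calc (q ^ 4 * a - 1) * (q ^ 3 * a - 1) = (q ^ (j + 3 + 1) - 1) * (q ^ (j + 3) - 1) := by rw [ha]; ring_nf
      _ ≤ L0 F q (j + 3 + 1) := L0_ge hF _
      _ ≤ _ := h
  refine arith_ti hq ha1 ?_
  have ht2 : 2 ≤ finrank F T := by
    have := Submodule.one_le_finrank_iff.2 hT0
    omega
  have h := orbit_ti hF K hK T hTI hTinv ht2
  have htm := finrank_ti hF T hTI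
  rw [frames_two hF (by omega)] at h
  set t := finrank F T
  obtain ⟨r, hr⟩ : ∃ r, j + 4 = 2 * r ∨ j + 4 = 2 * r + 1 := ⟨(j + 4) / 2, by omega⟩
  obtain ⟨s, rfl⟩ : ∃ s, r = s + 2 := ⟨r - 2, by omega⟩
  have hQ : (q ^ 2) ^ t ≤ q ^ (2 * (s + 2)) := by rw [← pow_mul]; exact Nat.pow_le_pow_right (by omega) (by omega)
  have h2 : q ^ 2 ≤ q ^ (2 * (s + 2)) := Nat.pow_le_pow_right (by omega) (by omega)
  have h' : L0 F q (j + 4) * (q ^ 2 * L0 F q (j + 4 - 2)) ≤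
      k * ((q ^ (2 * (s + 2)) - 1) * (q ^ (2 * (s + 2)) - q ^ 2)) :=
    h.trans (Nat.mul_le_mul_left _ (Nat.mul_le_mul (Nat.sub_le_sub_right hQ 1) (Nat.sub_le_sub_right hQ _)))
  have h1 : 1 ≤ q ^ (2 * (s + 2)) := Nat.one_le_pow _ _ (by omega)
  have hq' : (2 : ℤ) ≤ q := by exact_mod_cast hq
  have pe : ∀ e : ℕ, (1 : ℤ) ≤ (q : ℤ) ^ e := fun e => one_le_pow₀ (by linarith)
  have pos : (0 : ℤ) < (q : ℤ) ^ 2 * ((q : ℤ) ^ (2 * s + 4) - 1) * ((q : ℤ) ^ (2 * s + 2) - 1) := by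
    have : ∀ e : ℕ, e ≠ 0 → (0 : ℤ) < (q : ℤ) ^ e - 1 := fun e he => by
      have := one_lt_pow₀ (show (1 : ℤ) < q by linarith) he; linarith
    exact mul_pos (mul_pos (by positivity) (this _ (by omega))) (this _ (by omega))
  zify [h1, h2] at h'
  rw [show 2 * (s + 2) = 2 * s + 4 by ring] at h'
  rcases hr with hr | hr
  · rw [show j + 4 = (2 * s + 3) + 1 by omega, show (2 * s + 3) + 1 - 2 = (2 * s + 1) + 1 by omega, L0_eq hF,
      L0_eq hF, Even.neg_one_pow ⟨s + 2, by omega⟩, Even.neg_one_pow ⟨s + 1, by omega⟩] at h'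
    zify
    rw [ha, show j = 2 * s by omega]
    push_cast
    refine le_of_mul_le_mul_left ?_ pos
    calc _ = _ := by ring
      _ ≤ _ := h'
      _ = _ := by ring
  · rw [show j + 4 = (2 * s + 4) + 1 by omega, show (2 * s + 4) + 1 - 2 = (2 * s + 2) + 1 by omega, L0_eq hF,
      L0_eq hF, Odd.neg_one_pow ⟨s + 2, by omega⟩, Odd.neg_one_pow ⟨s + 1, by omega⟩] at h'
    zify
    rw [ha, show j = 2 * s + 1 by omega]
    push_cast
    have step : ((q : ℤ) ^ 3 * (q : ℤ) ^ (2 * s + 1) + 1) * ((q : ℤ) * (q : ℤ) ^ (2 * s + 1) + 1) ≤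
        ((q : ℤ) ^ (2 * s + 5) + 1) * ((q : ℤ) ^ (2 * s + 3) + 1) := by
      refine mul_le_mul ?_ ?_ (by positivity) (by positivity)
      · rw [← pow_add, show 3 + (2 * s + 1) = 2 * s + 4 by ring]
        linarith [pow_le_pow_right₀ (show (1 : ℤ) ≤ q by linarith) (show 2 * s + 4 ≤ 2 * s + 5 by omega)]
      · rw [← pow_succ']
        linarith [pow_le_pow_right₀ (show (1 : ℤ) ≤ q by linarith) (show 2 * s + 1 + 1 ≤ 2 * s + 3 by omega)]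
    refine step.trans (le_of_mul_le_mul_left ?_ pos)
    calc _ = _ := by ring
      _ ≤ _ := h'
      _ = _ := by ring

end CfsgLib.PsuMin
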