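import Mathlib
import Cfsg.Agent.Lib.PsuMin.Bound4

/-! The basic bound in dimension three. -/

set_option autoImplicit false

namespace CfsgLib.PsuMin

open Matrix CfsgLib.UnitaryTransvection Module CfsgLib.HermCount

variable {F : Type*} [Field F] [Fintype F] {q : ℕ} (hF : Fintype.card F = q ^ 2)

local notation "σ" => frob hF
local notation "h3" => Cfsg.hermForm 3 F q
local notation "G3" => Cfsg.GU 3 F q

include hF in
theorem values3 :
    A1 F q 3 = q ^ 2 * (q ^ 3 + 1) ∧ A1 F q 2 = q * (q ^ 2 - 1) ∧ L0 F q 3 = (q ^ 3 + 1) * (q ^ 2 - 1) ∧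
      L0 F q 2 = (q ^ 2 - 1) * (q + 1) ∧ L0 F q 5 = (q ^ 5 + 1) * (q ^ 4 - 1) := by
  have a3 := A1_eq hF 2
  have a2 := A1_eq hF 1
  have l3 := L0_eq hF 2
  have l2 := L0_eq hF 1
  have l5 := L0_eq hF 4
  norm_num at a3 a2 l3 l2 l5
  have h2 : 1 ≤ q ^ 2 := Nat.one_le_pow _ _ (by have := two_le_q hF; omega)
  have h4 : 1 ≤ q ^ 4 := Nat.one_le_pow _ _ (by have := two_le_q hF; omega)
  refine ⟨?_, ?_, ?_, ?_, ?_⟩ <;> zify [h2, h4] <;> linarith

include hF in
/-- The orthogonal of an anisotropic vector meets `W` in at most `q ^ 2` vectors. -/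
theorem card_meet_perp {ψ : AddChar F ℂ} {x0 : F} (hx0 : x0 ∈ skew hF) (hψ : ψ x0 ≠ 1)
    {x : Fin 3 → F} (hx : h3 x x ≠ 0) (W0 : AddSubgroup (Fin 3 → F))
    (hbr : ∀ a ∈ W0, ∀ b ∈ W0, ψ (h3 a b - h3 b a) = 1) (hperp : ∀ a ∈ W0, h3 a x = 0) :
    Nat.card W0 ≤ q ^ 2 := by
  let U : AddSubgroup (Fin 3 → F) :=
    { carrier := {y | h3 y x = 0}
      zero_mem' := h_zero_left hF x
      add_mem' := fun {u v} (hu : h3 u x = 0) (hv : h3 v x = 0) => by
        show h3 (u + v) x = 0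
        rw [h_add_left, hu, hv, add_zero]
      neg_mem' := fun {u} (hu : h3 u x = 0) => by
        show h3 (-u) x = 0
        rw [h_neg_left, hu, neg_zero] }
  let B : U →+ U →+ F := AddMonoidHom.mk' (fun u => (brHom hF u.1).comp U.subtype) fun a b => by
    refine AddMonoidHom.ext fun y => ?_
    show brHom hF (a.1 + b.1) y.1 = _
    rw [map_add]; rfl
  have hc := card_isotropic B ψ (fun z hz => by
    obtain ⟨c, hc⟩ := exists_sub_frob hF hx0
    obtain ⟨y, hy⟩ := exists_value hF (fun e => hz (Subtype.ext e) : z.1 ≠ 0) c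
    set y' := y - (h3 y x / h3 x x) • x
    have h1 : h3 y' z.1 = c := by
      rw [h_sub_left, h_smul_left, perp_symm hF (z.2 : h3 z.1 x = 0), mul_zero, sub_zero, hy]
    refine ⟨⟨y', show h3 y' x = 0 by rw [h_sub_left, h_smul_left, div_mul_cancel₀ _ hx, sub_self]⟩, ?_⟩
    show ψ (h3 y' z.1 - h3 z.1 y') ≠ 1
    rw [h1, ← h_swap hF y' z.1, h1, hc]
    exact hψ) (W0.comap U.subtype) (fun a ha b hb => hbr _ ha _ hb)
  obtain ⟨E, -⟩ := perp_equiv hF (m := 2) hx
  rw [show Nat.card U = q ^ (2 * 2) from (Nat.card_congr E).trans (card_space hF),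
    show Nat.card (W0.comap U.subtype) = Nat.card W0 from Nat.card_congr
      { toFun := fun a => ⟨a.1.1, a.2⟩
        invFun := fun a => ⟨⟨a.1, hperp _ a.2⟩, a.2⟩
        left_inv := fun a => rfl
        right_inv := fun a => rfl }, two_mul, pow_add] at hc
  exact Nat.mul_self_le_mul_self_iff.1 hc

include hF in
/-- A level set in a subgroup of order `q ^ 2` with isotropic brackets. -/
theorem level_small {ψ : AddChar F ℂ} {x0 : F} (hx0 : x0 ∈ skew hF) (hψ : ψ x0 ≠ 1)
    (W0 : AddSubgroup (Fin 3 → F)) (hcard : Nat.card W0 = q ^ 2)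
    (hbr : ∀ a ∈ W0, ∀ b ∈ W0, ψ (h3 a b - h3 b a) = 1) {c : F} (hc : c ≠ 0) :
    {y : W0 | h3 y.1 y.1 = c}.ncard ≤ q ^ 2 - q := by
  classical
  by_contra hcon
  rw [not_le] at hcon
  have hq := two_le_q hF
  have hq2 : 2 * q ≤ q ^ 2 := by rw [pow_two]; exact Nat.mul_le_mul_right _ hq
  set L := {y : W0 | h3 y.1 y.1 = c} with hL
  have hexp : ∀ w u : Fin 3 → F, h3 (w + u) (w + u) = h3 w w + (h3 w u + σ (h3 w u)) + h3 u u := fun w u => by
    rw [h_add_left, h_add_right hF, h_add_right hF, h_swap hF w u]; ring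
  by_cases hq3 : 3 ≤ q
  · have key : ∀ u : W0, h3 u.1 u.1 = 0 := by
      intro u
      let φ : W0 →+ F := AddMonoidHom.mk' (fun w => h3 w.1 u.1 + σ (h3 w.1 u.1)) fun a b => by
        show h3 (a.1 + b.1) u.1 + σ (h3 (a.1 + b.1) u.1) = _
        rw [h_add_left, map_add]; ring
      let L' : Set W0 := {w | w + u ∈ L}
      have hL' : L'.ncard = L.ncard := by
        rw [← Nat.card_coe_set_eq, ← Nat.card_coe_set_eq]
        exact Nat.card_congr ((Equiv.addRight u).subtypeEquiv fun w => Iff.rfl)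
      have hi := Set.ncard_union_add_ncard_inter L L' (Set.toFinite _) (Set.toFinite _)
      have hu : (L ∪ L').ncard ≤ q ^ 2 := by
        rw [← hcard, ← Set.ncard_univ]; exact Set.ncard_le_ncard (Set.subset_univ _) (Set.toFinite _)
      have hval : ∀ w ∈ L ∩ L', φ w = -h3 u.1 u.1 := by
        rintro w ⟨hw, hw'⟩
        have e : h3 (w.1 + u.1) (w.1 + u.1) = c := hw'
        rw [hexp, show h3 w.1 w.1 = c from hw] at e
        show h3 w.1 u.1 + σ (h3 w.1 u.1) = _
        linear_combination e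
      obtain ⟨w0, hw0⟩ : (L ∩ L').Nonempty := Set.nonempty_of_ncard_ne_zero (by omega)
      have hker : (L ∩ L').ncard ≤ Nat.card φ.ker := by
        rw [← Nat.card_coe_set_eq]
        exact Nat.card_le_card_of_injective (fun w => ⟨w.1 - w0, by
            rw [AddMonoidHom.mem_ker, map_sub, hval _ w.2, hval _ hw0, sub_self]⟩)
          fun a b e => Subtype.ext (sub_left_inj.1 (congrArg Subtype.val e :))
      have htop : Nat.card φ.ker = q ^ 2 := by
        refine le_antisymm (hcard ▸ Nat.card_le_card_of_injective _ Subtype.val_injective) (not_lt.1 fun hlt => ?_)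
        have hd : Nat.card φ.ker ∣ q ^ 2 := hcard ▸ AddSubgroup.card_addSubgroup_dvd_card _
        have h2 := half_of_lt hF hd hlt
        have hgap : 4 * q ≤ q ^ 2 + 3 := by
          zify at *; nlinarith
        omega
      have e0 : φ w0 = 0 := by
        have : φ.ker = ⊤ := AddSubgroup.eq_top_of_card_eq _ (htop.trans hcard.symm)
        exact AddMonoidHom.mem_ker.1 (this ▸ AddSubgroup.mem_top w0)
      exact neg_eq_zero.1 ((hval _ hw0).symm.trans e0)
    obtain ⟨y, hy⟩ : L.Nonempty := Set.nonempty_of_ncard_ne_zero (by omega)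
    exact hc ((show h3 y.1 y.1 = c from hy).symm.trans (key y))
  · have hq2' : q = 2 := by omega
    have hsq : q ^ 2 = 4 := by rw [hq2']; norm_num
    have hall : ∀ y : W0, y ≠ 0 → h3 y.1 y.1 = c := by
      intro y hy
      by_contra hne
      have hsub : L ⊆ ({0, y} : Set W0)ᶜ := by
        intro z hz
        simp only [Set.mem_compl_iff, Set.mem_insert_iff, Set.mem_singleton_iff, not_or]
        refine ⟨fun e => hc ?_, fun e => hne ?_⟩
        · rw [← show h3 z.1 z.1 = c from hz, e]; exact h_zero_left hF _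
        · rw [← e]; exact hz
      have := Set.ncard_le_ncard hsub (Set.toFinite _)
      rw [Set.ncard_compl, Set.ncard_pair (Ne.symm hy), hcard] at this
      omega
    obtain ⟨u, hu⟩ : ∃ u : W0, u ≠ 0 := by
      by_contra h0
      push Not at h0
      haveI : Subsingleton W0 := ⟨fun a b => (h0 a).trans (h0 b).symm⟩
      rw [Nat.card_of_subsingleton (0 : W0)] at hcard
      omega
    obtain ⟨v, hv⟩ : ∃ v : W0, v ≠ 0 ∧ v ≠ u ∧ v ≠ -u := by
      by_contra h0
      push Not at h0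
      have : (Set.univ : Set W0) ⊆ ({0, u, -u} : Set W0) := fun z _ => by
        simp only [Set.mem_insert_iff, Set.mem_singleton_iff]
        by_cases e1 : z = 0
        · exact Or.inl e1
        by_cases e2 : z = u
        · exact Or.inr (Or.inl e2)
        exact Or.inr (Or.inr (h0 z e1 e2))
      have h1 := (Set.ncard_le_ncard this (Set.toFinite _)).trans ((Set.ncard_insert_le _ _).trans
        (Nat.add_le_add_right ((Set.ncard_insert_le _ _).trans (by rw [Set.ncard_singleton])) 1))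
      rw [Set.ncard_univ, hcard] at h1
      omega
    have e := hexp u.1 v.1
    rw [hall u hu, hall v hv.1, show h3 (u.1 + v.1) (u.1 + v.1) = c from hall (u + v) (fun e1 => hv.2.2 (eq_neg_of_add_eq_zero_right e1))] at e
    set t := h3 u.1 v.1
    have hs := sub_frob_skew hF t
    have htt : t + σ t = -c := by linear_combination -e
    have h2 : Nat.card (skew hF) = 2 := (card_skew hF).trans hq2'
    by_cases h0 : t - σ t = 0
    · have hfix : σ t = t := (sub_eq_zero.1 h0).symm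
      rw [hfix] at htt
      have hfc : σ c = c := by
        rw [← hall u hu, h_swap hF]
      -- the only nonzero fixed element is one
      have h1 : ∀ z : F, σ z = z → z ≠ 0 → z = 1 := by
        intro z hz hz0
        by_contra hz1
        have hle : ({0, 1, z} : Set F).ncard ≤ 2 := by
          refine le_trans ?_ ((card_fix hF).trans hq2').le
          rw [← Nat.card_coe_set_eq]
          refine Nat.card_le_card_of_injective (fun y => ⟨y.1, ?_⟩) fun a b e => Subtype.ext (congrArg Subtype.val e :)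
          rcases y.2 with e | e | e <;> rw [e] <;> simp [hz]
        rw [Set.ncard_eq_toFinset_card', show ({0, 1, z} : Set F).toFinset = {0, 1, z} by simp,
          Finset.card_insert_of_notMem (by simp [Ne.symm hz0]), Finset.card_pair (Ne.symm hz1)] at hle
        omega
      have hc1 := h1 c hfc hc
      have hn1 : (-1 : F) = 1 := h1 (-1) (by simp) (by simp)
      by_cases ht : t = 0
      · rw [ht, hc1] at htt; exact one_ne_zero (by linear_combination htt : (1 : F) = 0)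
      · rw [h1 t hfix ht, hc1] at htt
        exact one_ne_zero (by linear_combination htt + hn1 : (1 : F) = 0)
    · have hx00 : x0 ≠ 0 := fun e1 => hψ (by rw [e1]; exact AddChar.map_zero_eq_one ψ)
      have : t - σ t = x0 := by
        by_contra hne
        have hle : ({0, x0, t - σ t} : Set F).ncard ≤ 2 := by
          rw [← h2, ← Nat.card_coe_set_eq]
          refine Nat.card_le_card_of_injective (fun y => ⟨y.1, ?_⟩) fun a b e => Subtype.ext (congrArg Subtype.val e :)
          rcases y.2 with e | e | e <;> rw [e]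
          exacts [zero_mem _, hx0, hs]
        rw [Set.ncard_eq_toFinset_card', show ({0, x0, t - σ t} : Set F).toFinset = {0, x0, t - σ t} by simp,
          Finset.card_insert_of_notMem (by simp [Ne.symm hx00, Ne.symm h0]), Finset.card_pair (Ne.symm hne)] at hle
        omega
      refine hψ ?_
      rw [← this, h_swap hF]
      exact hbr _ u.2 _ v.2

include hF in
/-- Counting pairs inside `W`. -/
theorem pairs_le (K : Subgroup G3) (hK : K ≤ det1 F q 3) (W : AddSubgroup (Fin 3 → F))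
    (hinv : ∀ g ∈ K, ∀ x ∈ W, g.1.1 *ᵥ x ∈ W) {a b : Fin 3 → F} (ha : a ∈ W) (hb : b ∈ W)
    (hnd : NdPair (q := q) a b) {L M : ℕ} (hL : {x : W | h3 x.1 x.1 = h3 a a}.ncard ≤ L)
    (hM : ∀ x : W, x.1 ≠ 0 → h3 x.1 x.1 = h3 a a →
      {y : W | h3 x.1 y.1 = h3 a b ∧ h3 y.1 y.1 = h3 b b}.ncard ≤ M) :
    A1 F q 3 * A1 F q 2 ≤ K.relIndex (det1 F q 3) * (L * M) := by
  classical
  let T : Set ((Fin 3 → F) × (Fin 3 → F)) := {p | p ∈ SameGram (q := q) a b ∧ p.1 ∈ W ∧ p.2 ∈ W}
  have h1 := OmegaMin.card_le_relIndex_mul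
    (fun (g : G3) p => ((g.1.1 *ᵥ p.1, g.1.1 *ᵥ p.2) : (Fin 3 → F) × (Fin 3 → F)))
    _ K hK (a, b) (fun g _ g' _ => Prod.ext (mul_apply g g' a) (mul_apply g g' b)) (SameGram (q := q) a b) T
    (fun g hg => ⟨⟨gu_h g _ _, gu_h g _ _, gu_h g _ _⟩, hinv g hg a ha, hinv g hg b hb⟩)
    (fun p hp => by
      obtain ⟨g, hg, e1, e2⟩ := trans_pair hF le_rfl hnd hp.1 hp.2.1 hp.2.2
      exact ⟨g, hg, Prod.ext e1 e2⟩)
  refine ((pair_count hF (m := 2) hnd).trans h1).trans (Nat.mul_le_mul_left _ ?_)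
  let Wc : Set W := {x | h3 x.1 x.1 = h3 a a}
  let fib : Wc → Set W := fun x => {y | h3 x.1.1 y.1 = h3 a b ∧ h3 y.1 y.1 = h3 b b}
  have hne : ∀ x ∈ T, x.1 ≠ 0 := fun p hp e => by
    have e1 := hp.1.1
    have e2 := hp.1.2.1
    rw [e, h_zero_left hF] at e1 e2
    exact hnd (by rw [← e1, ← e2]; ring)
  let S := Σ x : {x : Wc // x.1.1 ≠ 0}, fib x.1
  have h2 : T.ncard ≤ Nat.card S := by
    rw [← Nat.card_coe_set_eq]
    refine Nat.card_le_card_of_injective
      (fun p : T => (⟨⟨⟨⟨p.1.1, p.2.2.1⟩, p.2.1.1⟩, hne _ p.2⟩, ⟨⟨p.1.2, p.2.2.2⟩, p.2.1.2⟩⟩ : S)) ?_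
    rintro ⟨⟨x, y⟩, hp⟩ ⟨⟨x', y'⟩, hp'⟩ e
    have ex : x = x' := congrArg (fun s : S => s.1.1.1.1) e
    have ey : y = y' := congrArg (fun s : S => s.2.1.1) e
    subst ex ey
    rfl
  refine h2.trans ?_
  rw [Nat.card_sigma]
  calc ∑ x : {x : Wc // x.1.1 ≠ 0}, Nat.card (fib x.1) ≤ ∑ _x : {x : Wc // x.1.1 ≠ 0}, M :=
        Finset.sum_le_sum fun x _ => by rw [Nat.card_coe_set_eq]; exact hM _ x.2 x.1.2
    _ = Nat.card {x : Wc // x.1.1 ≠ 0} * M := by rw [Finset.sum_const, Finset.card_univ, smul_eq_mul, Nat.card_eq_fintype_card]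
    _ ≤ L * M := Nat.mul_le_mul_right _ ((Finite.card_subtype_le _).trans (by rw [Nat.card_coe_set_eq]; exact hL))

include hF in
/-- The images of an anisotropic vector with an orthogonal isotropic line. -/
theorem flag_count (K : Subgroup G3) (hK : K ≤ det1 F q 3) (W : AddSubgroup (Fin 3 → F))
    (hinv : ∀ g ∈ K, ∀ x ∈ W, g.1.1 *ᵥ x ∈ W) {a f : Fin 3 → F} (ha : a ∈ W) (haa : h3 a a ≠ 0)
    (hf : f ≠ 0) (hff : h3 f f = 0) (hfa : h3 f a = 0)
    (hfix : ∀ g ∈ K, ∀ x ∈ Submodule.span F {f}, g.1.1 *ᵥ x ∈ Submodule.span F {f}) :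
    A1 F q 3 * L0 F q 2 ≤ K.relIndex (det1 F q 3) * Nat.card W * (q ^ 2 - 1) := by
  classical
  set N := h3 a a
  let act : G3 → (Fin 3 → F) × Set (Fin 3 → F) → (Fin 3 → F) × Set (Fin 3 → F) :=
    fun g p => (g.1.1 *ᵥ p.1, (fun x => g.1.1 *ᵥ x) '' p.2)
  let line : (Fin 3 → F) → Set (Fin 3 → F) := fun v => (Submodule.span F {v} : Set (Fin 3 → F))
  let P := Σ x : {x : Fin 3 → F // h3 x x = N},
    {v : Fin 3 → F | h3 v x.1 = 0 ∧ v ≠ 0 ∧ h3 v v = 0}
  let pt : P → (Fin 3 → F) × Set (Fin 3 → F) := fun p => (p.1.1, line p.2.1)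
  let T : Set ((Fin 3 → F) × Set (Fin 3 → F)) := {p | p.1 ∈ W ∧ p.2 = line f}
  have hline : ∀ (g : G3) (v : Fin 3 → F), (fun x => g.1.1 *ᵥ x) '' line v = line (g.1.1 *ᵥ v) := by
    intro g v
    ext z
    simp only [line, Set.mem_image, SetLike.mem_coe, Submodule.mem_span_singleton]
    constructor
    · rintro ⟨x, ⟨r, rfl⟩, rfl⟩; exact ⟨r, (mulVec_smul _ _ _).symm⟩
    · rintro ⟨r, rfl⟩; exact ⟨r • v, ⟨r, rfl⟩, mulVec_smul _ _ _⟩
  have h1 : (Set.range pt).ncard ≤ K.relIndex (det1 F q 3) * T.ncard := by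
    refine OmegaMin.card_le_relIndex_mul act _ K hK (a, line f) (fun g _ g' _ => Prod.ext (mul_apply g g' a) ?_) _ T
      (fun g hg => ⟨hinv g hg a ha, Set.Subset.antisymm ?_ fun x hx => ?_⟩) ?_
    · show _ '' _ = _ '' (_ '' _)
      rw [Set.image_image]
      exact Set.image_congr fun x _ => mul_apply g g' x
    · rintro _ ⟨x, hx, rfl⟩; exact hfix g hg x hx
    · exact ⟨g⁻¹.1.1 *ᵥ x, hfix _ (inv_mem hg) x hx, apply_inv_apply g x⟩
    · rintro _ ⟨⟨⟨x, hx⟩, v, hvx, hv0, hvv⟩, rfl⟩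
      have hli : ∀ {x v : Fin 3 → F}, h3 x x ≠ 0 → v ≠ 0 → h3 v x = 0 → LinearIndependent F ![x, v] := by
        intro x v hx hv hvx
        rw [LinearIndependent.pair_iff]
        intro s t e
        have e1 := congrArg (fun z => h3 z x) e
        simp only [h_add_left, h_smul_left, hvx, mul_zero, add_zero, h_zero_left hF] at e1
        have hs := (mul_eq_zero.1 e1).resolve_right hx
        rw [hs, zero_smul, zero_add] at e
        exact ⟨hs, (smul_eq_zero.1 e).resolve_right hv⟩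
      obtain ⟨g, hg⟩ := witt hF (hli haa hf hfa) (hli (by rw [hx]; exact haa) hv0 hvx) (fun i j => by
        fin_cases i <;> fin_cases j <;> simp [hx, hvv, hff, hfa, hvx, perp_symm hF hfa, perp_symm hF hvx, N])
      have ga : g.1.1 *ᵥ a = x := by simpa using hg 0
      have gf : g.1.1 *ᵥ f = v := by simpa using hg 1
      obtain ⟨y, h1, h2⟩ := UnitarySimple.exists_partner hF hv0
      obtain ⟨d, hd⟩ := exists_trace_one hF
      have hxne : h3 x x ≠ 0 := by rw [hx]; exact haa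
      have hxv := perp_symm hF hvx
      set y1 := y - (h3 y x / h3 x x) • x with hy1
      have k1 : h3 v y1 = 1 := by rw [hy1, h_sub_right hF, h_smul_right hF, hvx, mul_zero, sub_zero, h1]
      have k2 : h3 y1 v = 1 := by rw [← h_swap hF v y1, k1, map_one]
      have k3 : h3 y1 x = 0 := by rw [hy1, h_sub_left, h_smul_left, div_mul_cancel₀ _ hxne, sub_self]
      have hyy := h_swap hF y1 y1
      set y2 := y1 + (-(d * h3 y1 y1)) • v with hy2
      have m1 : h3 y2 y2 = 0 := by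
        simp only [hy2, h_add_left, h_add_right hF, h_smul_left, h_smul_right hF, hvv, k1, k2, map_neg, map_mul, hyy]
        linear_combination -(h3 y1 y1) * hd
      have m2 : h3 v y2 = 1 := by rw [hy2, h_add_right hF, h_smul_right hF, hvv, k1, mul_zero, add_zero]
      have m3 : h3 x y2 = 0 := by
        rw [hy2, h_add_right hF, h_smul_right hF, hxv, perp_symm hF k3, mul_zero, add_zero]
      obtain ⟨g', hg', -, hfixv, hscale⟩ := det_fix_line hF g hvv m1 m2
      obtain ⟨r, hr0, hr⟩ := hscale f ⟨1, one_ne_zero, by rw [gf, one_smul]⟩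
      refine ⟨g', hg', Prod.ext ((hfixv a (by rw [ga]; exact hxv) (by rw [ga]; exact m3)).trans ga) ?_⟩
      show _ '' line f = line v
      rw [hline, hr]
      exact congrArg SetLike.coe (Submodule.span_singleton_smul_eq (IsUnit.mk0 r hr0) v)
  have h2 : T.ncard ≤ Nat.card W := by
    rw [← Nat.card_coe_set_eq]
    exact Nat.card_le_card_of_injective (fun p => (⟨p.1.1, p.2.1⟩ : W)) fun p p' e => Subtype.ext
      (Prod.ext (congrArg Subtype.val e :) (p.2.2.trans p'.2.2.symm))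
  have h3c : Nat.card P = A1 F q 3 * L0 F q 2 := by
    rw [Nat.card_sigma, Finset.sum_congr rfl fun x _ => by
      rw [Nat.card_coe_set_eq, card_perp hF (m := 2) (by rw [x.2]; exact haa) (fun c => c = 0)]]
    rw [Finset.sum_const, Finset.card_univ, smul_eq_mul, ← Nat.card_eq_fintype_card, show Nat.card {x : Fin 3 → F // h3 x x = N} = A1 F q 3 from
        (Nat.card_coe_set_eq _).trans (card_level hF haa (h_swap hF a a))]
    rfl
  have h4 : Nat.card P ≤ (Set.range pt).ncard * (q ^ 2 - 1) := by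
    rw [← Nat.card_coe_set_eq, ← Nat.card_congr (Equiv.sigmaFiberEquiv (Set.rangeFactorization pt)), Nat.card_sigma]
    refine (Finset.sum_le_sum (g := fun _ => q ^ 2 - 1) fun s _ => ?_).trans (le_of_eq ?_)
    · obtain ⟨p0, hp0⟩ := s.2
      have hmem : ∀ p : {p : P // Set.rangeFactorization pt p = s}, ∃ c : Fˣ, (c : F) • p0.2.1 = p.1.2.1 := by
        intro p
        have e : pt p.1 = pt p0 := (congrArg Subtype.val p.2).trans hp0.symm
        have hv : p.1.2.1 ∈ line p0.2.1 := by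
          rw [← show line p.1.2.1 = line p0.2.1 from congrArg Prod.snd e]
          exact Submodule.mem_span_singleton_self _
        obtain ⟨c, hc⟩ := Submodule.mem_span_singleton.1 hv
        exact ⟨Units.mk0 c (fun e0 => p.1.2.2.2.1 (by rw [← hc, e0, zero_smul])), hc⟩
      choose c hc using hmem
      refine (Nat.card_le_card_of_injective c fun p p' e => ?_).trans
        (le_of_eq (by rw [Nat.card_units, Nat.card_eq_fintype_card, hF]))
      have e1 : pt p.1 = pt p'.1 := (congrArg Subtype.val p.2).trans (congrArg Subtype.val p'.2).symm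
      have ev : p.1.2.1 = p'.1.2.1 := by rw [← hc p, ← hc p', e]
      have ex : p.1.1 = p'.1.1 := Subtype.ext (congrArg Prod.fst e1)
      obtain ⟨⟨x, v⟩, hp⟩ := p
      obtain ⟨⟨x', v'⟩, hp'⟩ := p'
      simp only at ex ev
      subst ex
      obtain rfl := Subtype.ext ev
      rfl
    · rw [Finset.sum_const, Finset.card_univ, smul_eq_mul, Nat.card_eq_fintype_card]
  rw [← h3c]
  exact h4.trans (Nat.mul_le_mul_right _ (h1.trans (Nat.mul_le_mul_left _ h2)))

set_option maxHeartbeats 1000000 in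
include hF in
/-- The index is large when there is an invariant isotropic subgroup, dimension three. -/
theorem w_bound3 (K : Subgroup G3) (hK : K ≤ det1 F q 3) (W : AddSubgroup (Fin 3 → F))
    (hW : ∃ w ∈ W, w ≠ 0) (hinv : ∀ g ∈ K, ∀ x ∈ W, g.1.1 *ᵥ x ∈ W) {ψ : AddChar F ℂ} {x0 : F}
    (hx0 : x0 ∈ skew hF) (hψ : ψ x0 ≠ 1) (hbr : ∀ a ∈ W, ∀ b ∈ W, ψ (h3 a b - h3 b a) = 1) :
    L0 F q 5 * Nat.card W ≤ K.relIndex (det1 F q 3) * (q ^ 2 - 1) * q ^ 7 := by
  classical
  obtain ⟨vA3, vA2, vL3, vL2, vL5⟩ := values3 hF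
  have hq := two_le_q hF
  have p2 : 4 ≤ q ^ 2 := Nat.pow_le_pow_left hq 2
  have p3 : 8 ≤ q ^ 3 := Nat.pow_le_pow_left hq 3
  set k := K.relIndex (det1 F q 3)
  set w := Nat.card W
  have hw3 : w ≤ q ^ 3 := card_br hF hx0 hψ W hbr
  have hwpos : 0 < w := Nat.card_pos
  suffices key : (q ^ 3 + q + 1) * w ≤ k * q ^ 3 by
    have e : q ^ 4 - 1 = (q ^ 2 - 1) * (q ^ 2 + 1) := by
      rw [show q ^ 4 = (q ^ 2) ^ 2 by ring, mul_comm, ← Nat.sq_sub_sq, one_pow]
    have h1 : q ^ 2 + 1 ≤ q ^ 4 := by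
      calc q ^ 2 + 1 ≤ q ^ 2 * q ^ 2 := by nlinarith
        _ = q ^ 4 := by ring
    rw [vL5, e]
    calc (q ^ 5 + 1) * ((q ^ 2 - 1) * (q ^ 2 + 1)) * w = (q ^ 2 - 1) * ((q ^ 7 + q ^ 5 + (q ^ 2 + 1)) * w) := by ring
      _ ≤ (q ^ 2 - 1) * ((q ^ 7 + q ^ 5 + q ^ 4) * w) := by gcongr
      _ = (q ^ 2 - 1) * (q ^ 4 * ((q ^ 3 + q + 1) * w)) := by ring
      _ ≤ (q ^ 2 - 1) * (q ^ 4 * (k * q ^ 3)) := by gcongr
      _ = _ := by ring
  have meet : ∀ x : W, h3 x.1 x.1 ≠ 0 → ∃ W0 : AddSubgroup (Fin 3 → F),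
      (∀ y, y ∈ W0 ↔ y ∈ W ∧ h3 y x.1 = 0) ∧ Nat.card W0 ≤ q ^ 2 := by
    intro x hx
    let W0 : AddSubgroup (Fin 3 → F) :=
      { carrier := {y | y ∈ W ∧ h3 y x.1 = 0}
        zero_mem' := ⟨W.zero_mem, h_zero_left hF _⟩
        add_mem' := fun {u v} hu hv => ⟨add_mem hu.1 hv.1, by rw [h_add_left, hu.2, hv.2, add_zero]⟩
        neg_mem' := fun {u} hu => ⟨neg_mem hu.1, by rw [h_neg_left, hu.2, neg_zero]⟩ }
    exact ⟨W0, fun y => Iff.rfl, card_meet_perp hF hx0 hψ hx W0 (fun a ha b hb => hbr a ha.1 b hb.1) fun a ha => ha.2⟩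
  by_cases hnd : ∃ x ∈ W, ∃ y ∈ W, NdPair (q := q) x y
  swap
  · rcases exists_radical hF K W hW hinv hnd with ⟨a, ha, haa, hline⟩ | ⟨T, hT0, -, hTI, hTinv, hTW⟩
    · have ha0 : a ≠ 0 := fun e => haa (by rw [e, h_zero_left hF])
      have h := orbit_vec hF le_rfl K hK ha0 {x | x ∈ W ∧ h3 x x = h3 a a}
        fun g hg => ⟨hinv g hg a ha, gu_h g a a⟩
      rw [ncard_nonzero_level hF haa, card_level hF haa (h_swap hF a a), vA3] at h
      have h' := h.trans (Nat.mul_le_mul_left _ (card_line_level hF haa _ fun x hx => ⟨hx.2, hline x hx.1⟩))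
      have hw2 : w ≤ q ^ 2 := by
        have : Nat.card W ≤ Nat.card F := Nat.card_le_card_of_injective (fun x => Classical.choose (hline x.1 x.2))
          fun x y e => Subtype.ext (by
            rw [Classical.choose_spec (hline x.1 x.2), Classical.choose_spec (hline y.1 y.2)]
            exact congrArg (· • a) e)
        rwa [Nat.card_eq_fintype_card (α := F), hF] at this
      refine Nat.le_of_mul_le_mul_right ?_ (show 0 < q + 1 by omega)
      calc (q ^ 3 + q + 1) * w * (q + 1) ≤ (q ^ 3 + q + 1) * q ^ 2 * (q + 1) := by gcongr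
        _ = q ^ 2 * ((q ^ 3 + q + 1) * (q + 1)) := by ring
        _ ≤ q ^ 3 * (q ^ 2 * (q ^ 3 + 1)) := by
            calc q ^ 2 * ((q ^ 3 + q + 1) * (q + 1)) ≤ q ^ 2 * (q ^ 3 * (q ^ 3 + 1)) := by
                  refine Nat.mul_le_mul_left _ ?_
                  have c1 : q ^ 4 * 4 ≤ q ^ 3 * q ^ 3 := by
                    calc q ^ 4 * 4 ≤ q ^ 4 * q ^ 2 := Nat.mul_le_mul_left _ p2
                      _ = _ := by ring
                  have c2 : q ^ 2 * 4 ≤ q ^ 4 := (Nat.mul_le_mul_left _ p2).trans_eq (by ring)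
                  have c3 : q * 8 ≤ q ^ 4 := (Nat.mul_le_mul_left _ p3).trans_eq (by ring)
                  have c4 : 1 ≤ q ^ 4 := Nat.one_le_pow _ _ (by omega)
                  have c5 : (q ^ 3 + q + 1) * (q + 1) = q ^ 4 + q ^ 3 + q ^ 2 + 2 * q + 1 := by ring
                  rw [c5, Nat.mul_add]
                  linarith
              _ = _ := by ring
        _ ≤ q ^ 3 * (k * (q + 1)) := by gcongr
        _ = _ := by ring
    · obtain ⟨f, hf, hf0⟩ := T.exists_mem_ne_zero_of_ne_bot hT0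
      have htm := finrank_ti hF T hTI
      have ht : finrank F T = 1 := by
        have := Submodule.one_le_finrank_iff.2 hT0
        omega
      have hspan : Submodule.span F {f} = T := Submodule.eq_of_le_of_finrank_eq
        ((Submodule.span_singleton_le_iff_mem _ _).2 hf) (by rw [finrank_span_singleton hf0, ht])
      rcases hTW with hWT | ⟨a, ha, haa, hTa, -⟩
      · have h := orbit_vec hF le_rfl K hK hf0 ((T : Set (Fin 3 → F)) \ {0})
          fun g hg => ⟨hTinv g hg f hf, mulVec_ne_zero g hf0⟩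
        rw [hTI f hf f hf] at h
        rw [Set.ncard_sdiff_singleton_of_mem T.zero_mem, show (T : Set (Fin 3 → F)).ncard = Nat.card T from (Nat.card_coe_set_eq _).symm,
          Module.natCard_eq_pow_finrank (K := F), ht, pow_one, Nat.card_eq_fintype_card, hF] at h
        have h' : L0 F q 3 ≤ k * (q ^ 2 - 1) := h
        rw [vL3] at h'
        have hk : q ^ 3 + 1 ≤ k := Nat.le_of_mul_le_mul_right h' (by omega)
        have hw2 : w ≤ q ^ 2 := by
          have : Nat.card W ≤ Nat.card T := Nat.card_le_card_of_injective (fun x => ⟨x.1, hWT _ x.2⟩)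
            fun x y e => Subtype.ext (congrArg Subtype.val e :)
          rwa [Module.natCard_eq_pow_finrank (K := F) (V := T), ht, pow_one, Nat.card_eq_fintype_card (α := F), hF] at this
        calc (q ^ 3 + q + 1) * w ≤ (q ^ 3 + q + 1) * q ^ 2 := by gcongr
          _ ≤ (q ^ 3 + 1) * q ^ 3 := by zify; nlinarith
          _ ≤ k * q ^ 3 := by gcongr
      · have h := flag_count hF K hK W hinv ha haa hf0 (hTI f hf f hf) (hTa f hf)
          (fun g hg x hx => by rw [hspan] at hx ⊢; exact hTinv g hg x hx)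
        rw [vA3, vL2] at h
        have hk : q ^ 2 * (q ^ 3 + 1) * (q + 1) ≤ k * w := Nat.le_of_mul_le_mul_right
          (le_of_eq_of_le (by ring) h) (show 0 < q ^ 2 - 1 by omega)
        refine Nat.le_of_mul_le_mul_right ?_ hwpos
        calc (q ^ 3 + q + 1) * w * w ≤ (q ^ 3 + q + 1) * q ^ 3 * q ^ 3 := by gcongr
          _ = q ^ 5 * (q * (q ^ 3 + q + 1)) := by ring
          _ ≤ q ^ 5 * ((q ^ 3 + 1) * (q + 1)) := by
              refine Nat.mul_le_mul_left _ ?_
              zify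
              nlinarith
          _ = q ^ 3 * (q ^ 2 * (q ^ 3 + 1) * (q + 1)) := by ring
          _ ≤ q ^ 3 * (k * w) := by gcongr
          _ = _ := by ring
  obtain ⟨x1, hx1, y1, hy1, hxy⟩ := hnd
  by_cases hiso : ∀ z ∈ W, h3 z z = 0
  · -- all vectors of `W` are isotropic
    have hxy0 : h3 x1 y1 ≠ 0 := fun e => hxy (by rw [hiso x1 hx1, e]; ring)
    have hsk : ∀ u ∈ W, ∀ v ∈ W, h3 u v ∈ skew hF := fun u hu v hv => by
      have e := hiso _ (add_mem hu hv)
      rw [h_add_left, h_add_right hF, h_add_right hF, hiso u hu, hiso v hv, zero_add, add_zero] at e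
      rw [mem_skew, h_swap hF]
      exact e
    have hL : {x : W | h3 x.1 x.1 = h3 x1 x1}.ncard ≤ w := by
      exact le_of_le_of_eq (Set.ncard_le_ncard (Set.subset_univ _) (Set.toFinite _)) (Set.ncard_univ _)
    have hM : ∀ x : W, x.1 ≠ 0 → h3 x.1 x.1 = h3 x1 x1 →
        {y : W | h3 x.1 y.1 = h3 x1 y1 ∧ h3 y.1 y.1 = h3 y1 y1}.ncard ≤ q := by
      intro x hx0' _
      rcases Set.eq_empty_or_nonempty {y : W | h3 x.1 y.1 = h3 x1 y1 ∧ h3 y.1 y.1 = h3 y1 y1} with e | ⟨y0, hy0, -⟩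
      · rw [e, Set.ncard_empty]; omega
      have hl : ∀ z : W, h3 x.1 z.1 = 0 → ∃ l : F, σ l = l ∧ z.1 = l • x.1 := by
        intro z hz
        obtain ⟨l, hl⟩ : ∃ l : F, z.1 = l • x.1 := by
          by_contra hno
          push Not at hno
          have hli : LinearIndependent F ![x.1, z.1] := by
            rw [LinearIndependent.pair_iff' hx0']
            exact fun a e => hno a e.symm
          have hTI : ∀ u ∈ Submodule.span F (Set.range ![x.1, z.1]), ∀ v ∈ Submodule.span F (Set.range ![x.1, z.1]),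
              h3 u v = 0 := by
            intro u hu v hv
            rw [Matrix.range_cons_cons_empty, Submodule.mem_span_pair] at hu hv
            obtain ⟨a1, b1, rfl⟩ := hu
            obtain ⟨a2, b2, rfl⟩ := hv
            simp [h_add_left, h_add_right hF, h_smul_left, h_smul_right hF, hiso _ x.2, hiso _ z.2, hz,
              perp_symm hF hz]
          have := finrank_ti hF _ hTI
          rw [finrank_span_eq_card hli, Fintype.card_fin] at this
          omega
        refine ⟨l, ?_, hl⟩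
        have e := (mem_skew hF).1 (hsk z.1 z.2 y0.1 y0.2)
        rw [hl, h_smul_left, map_mul, skew_neg hF (hsk x.1 x.2 y0.1 y0.2)] at e
        have e1 : h3 x.1 y0.1 * (l - σ l) = 0 := by linear_combination e
        exact (sub_eq_zero.1 ((mul_eq_zero.1 e1).resolve_left (by rw [hy0]; exact hxy0))).symm
      choose l hlf hl using fun y : {y : W | h3 x.1 y.1 = h3 x1 y1 ∧ h3 y.1 y.1 = h3 y1 y1} => hl (y.1 - y0) (by
        show h3 x.1 (y.1.1 - y0.1) = 0
        rw [h_sub_right hF, y.2.1, hy0, sub_self])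
      refine le_trans ?_ (card_fix hF).le
      rw [← Nat.card_coe_set_eq]
      refine Nat.card_le_card_of_injective (fun y => ⟨l y, hlf y⟩) fun y y' e => ?_
      have e1 : (y.1 - y0).1 = (y'.1 - y0).1 := by rw [hl y, hl y', show l y = l y' from congrArg Subtype.val e]
      exact Subtype.ext (sub_left_inj.1 (Subtype.ext e1 : y.1 - y0 = y'.1 - y0))
    have h := pairs_le hF K hK W hinv hx1 hy1 hxy hL hM
    rw [vA3, vA2] at h
    refine Nat.le_of_mul_le_mul_right ?_ (show 0 < w * q from Nat.mul_pos hwpos (by omega))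
    calc (q ^ 3 + q + 1) * w * (w * q) ≤ (q ^ 3 + q + 1) * q ^ 3 * (q ^ 3 * q) := by gcongr
      _ = q ^ 6 * (q * (q ^ 3 + q + 1)) := by ring
      _ ≤ q ^ 6 * ((q ^ 3 + 1) * (q ^ 2 - 1)) := by
          refine Nat.mul_le_mul_left _ ?_
          zify [(by omega : 1 ≤ q ^ 2)]
          nlinarith
      _ = q ^ 3 * (q ^ 2 * (q ^ 3 + 1) * (q * (q ^ 2 - 1))) := by ring
      _ ≤ q ^ 3 * (k * (w * q)) := by gcongr
      _ = _ := by ring
  push Not at hiso
  obtain ⟨a0, ha0, ha00⟩ := hiso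
  -- a pair starting with an anisotropic vector
  obtain ⟨a, ha, b, hb, hab, haa⟩ : ∃ a ∈ W, ∃ b ∈ W, NdPair (q := q) a b ∧ h3 a a ≠ 0 := by
    by_cases e1 : h3 x1 x1 = 0
    swap
    · exact ⟨x1, hx1, y1, hy1, hxy, e1⟩
    by_cases e2 : h3 y1 y1 = 0
    swap
    · exact ⟨y1, hy1, x1, hx1, fun e => hxy (by linear_combination e), e2⟩
    have hxy0 : h3 x1 y1 ≠ 0 := fun e => hxy (by rw [e1, e]; ring)
    have hyx0 : h3 y1 x1 ≠ 0 := fun e => hxy0 (perp_symm hF e)
    by_cases n1 : NdPair (q := q) a0 x1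
    · exact ⟨a0, ha0, x1, hx1, n1, ha00⟩
    have a1 : h3 a0 x1 = 0 := by
      simp only [NdPair, not_not] at n1
      rw [e1, mul_zero, zero_sub, neg_eq_zero, ← h_swap hF a0 x1] at n1
      rcases mul_eq_zero.1 n1 with e | e
      exacts [e, eq_zero_of_frob hF e]
    by_cases n2 : NdPair (q := q) a0 y1
    · exact ⟨a0, ha0, y1, hy1, n2, ha00⟩
    have a2 : h3 a0 y1 = 0 := by
      simp only [NdPair, not_not] at n2
      rw [e2, mul_zero, zero_sub, neg_eq_zero, ← h_swap hF a0 y1] at n2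
      rcases mul_eq_zero.1 n2 with e | e
      exacts [e, eq_zero_of_frob hF e]
    refine ⟨a0 + x1, add_mem ha0 hx1, y1, hy1, ?_, ?_⟩
    · simp only [NdPair, h_add_left, h_add_right hF, a1, a2, perp_symm hF a1, perp_symm hF a2, e2, mul_zero,
        zero_add, zero_sub]
      exact neg_ne_zero.2 (mul_ne_zero hxy0 hyx0)
    · simpa [h_add_left, h_add_right hF, a1, perp_symm hF a1, e1] using ha00
  have hLw : ∀ c : F, {x : W | h3 x.1 x.1 = c}.ncard ≤ w := fun c => by
    exact le_of_le_of_eq (Set.ncard_le_ncard (Set.subset_univ _) (Set.toFinite _)) (Set.ncard_univ _)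
  have fibre : ∀ (x : W) (a b : Fin 3 → F) (W0 : AddSubgroup (Fin 3 → F)),
      (∀ y, y ∈ W0 ↔ y ∈ W ∧ h3 y x.1 = 0) →
      {y : W | h3 x.1 y.1 = h3 a b ∧ h3 y.1 y.1 = h3 b b}.ncard ≤ Nat.card W0 := by
    intro x a b W0 hW0
    rcases Set.eq_empty_or_nonempty {y : W | h3 x.1 y.1 = h3 a b ∧ h3 y.1 y.1 = h3 b b} with e | ⟨y0, hy0, -⟩
    · rw [e, Set.ncard_empty]; exact Nat.zero_le _
    rw [← Nat.card_coe_set_eq]
    refine Nat.card_le_card_of_injective (fun y => (⟨(y.1 - y0).1, (hW0 _).2 ⟨(y.1 - y0).2, perp_symm hF ?_⟩⟩ : W0))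
      fun y y' e => Subtype.ext (sub_left_inj.1 (Subtype.ext (congrArg Subtype.val e :) : y.1 - y0 = y'.1 - y0))
    show h3 x.1 (y.1.1 - y0.1) = 0
    rw [h_sub_right hF, y.2.1, hy0, sub_self]
  have hM : ∀ x : W, h3 x.1 x.1 = h3 a a →
      {y : W | h3 x.1 y.1 = h3 a b ∧ h3 y.1 y.1 = h3 b b}.ncard ≤ q ^ 2 := fun x hx => by
    obtain ⟨W0, hW0, hc⟩ := meet x (by rw [hx]; exact haa)
    exact (fibre x a b W0 hW0).trans hc
  rcases hw3.lt_or_eq with hlt | heq
  · have hdvd : w ∣ q ^ (2 * 3) := card_space hF (m := 3) ▸ AddSubgroup.card_addSubgroup_dvd_card W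
    have h2w := half_of_lt hF hdvd hlt
    have h := pairs_le hF K hK W hinv ha hb hab (hLw _) fun x _ hx => hM x hx
    rw [vA3, vA2] at h
    refine Nat.le_of_mul_le_mul_right ?_ (show 0 < w * q ^ 2 * 4 from Nat.mul_pos (Nat.mul_pos hwpos (by omega)) (by omega))
    calc (q ^ 3 + q + 1) * w * (w * q ^ 2 * 4) = (q ^ 3 + q + 1) * q ^ 2 * ((2 * w) * (2 * w)) := by ring
      _ ≤ (q ^ 3 + q + 1) * q ^ 2 * (q ^ 3 * q ^ 3) := by gcongr
      _ = q ^ 6 * (q ^ 2 * (q ^ 3 + q + 1)) := by ring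
      _ ≤ q ^ 6 * (4 * ((q ^ 3 + 1) * (q ^ 2 - 1))) := by
          refine Nat.mul_le_mul_left _ ?_
          calc q ^ 2 * (q ^ 3 + q + 1) ≤ (2 * (q ^ 2 - 1)) * (2 * (q ^ 3 + 1)) := by
                refine Nat.mul_le_mul (by omega) ?_
                have : q ≤ q ^ 3 := Nat.le_self_pow (by omega) q
                omega
            _ = _ := by ring
      _ = 4 * (q ^ 3 * (q ^ 2 * (q ^ 3 + 1) * (q * (q ^ 2 - 1)))) := by ring
      _ ≤ 4 * (q ^ 3 * (k * (w * q ^ 2))) := by gcongr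
      _ = _ := by ring
  have hqq : q ≤ q ^ 2 := Nat.le_self_pow (by omega) q
  have hh : q ^ 2 ≤ 2 * (q ^ 2 - q) := by
    have : 2 * q ≤ q ^ 2 := by rw [pow_two]; exact Nat.mul_le_mul_right _ hq
    omega
  -- the final count
  obtain ⟨a', ha', b', hb', hab', L, M, hL, hM', hLM⟩ : ∃ a' ∈ W, ∃ b' ∈ W, NdPair (q := q) a' b' ∧ ∃ L M,
      {x : W | h3 x.1 x.1 = h3 a' a'}.ncard ≤ L ∧ (∀ x : W, x.1 ≠ 0 → h3 x.1 x.1 = h3 a' a' →
        {y : W | h3 x.1 y.1 = h3 a' b' ∧ h3 y.1 y.1 = h3 b' b'}.ncard ≤ M) ∧ L * M ≤ q ^ 4 * (q - 1) := by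
    have e4 : q ^ 3 * (q ^ 2 - q) = q ^ 4 * (q - 1) := by
      zify [hqq, (by omega : 1 ≤ q)]; ring
    by_cases horth : ∃ u ∈ W, ∃ v ∈ W, h3 u u ≠ 0 ∧ h3 v v ≠ 0 ∧ h3 u v = 0
    · obtain ⟨u, hu, v, hv, huu, hvv, huv⟩ := horth
      refine ⟨u, hu, v, hv, ?_, q ^ 3, q ^ 2 - q, (hLw _).trans hw3, fun x _ hx => ?_, e4.le⟩
      · simp [NdPair, huv, huu, hvv]
      obtain ⟨W0, hW0, hc⟩ := meet x (by rw [hx]; exact huu)
      rcases hc.lt_or_eq with hlt | hfull
      · have hd : Nat.card W0 ∣ q ^ (2 * 3) := card_space hF (m := 3) ▸ AddSubgroup.card_addSubgroup_dvd_card W0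
        have h2 := half_of_lt hF hd hlt
        exact (fibre x u v W0 hW0).trans (by omega)
      · refine le_trans ?_ (level_small hF hx0 hψ W0 hfull (fun s hs t ht => hbr s ((hW0 s).1 hs).1 t ((hW0 t).1 ht).1) hvv)
        rw [← Nat.card_coe_set_eq, ← Nat.card_coe_set_eq]
        exact Nat.card_le_card_of_injective
          (fun y => ⟨⟨y.1.1, (hW0 _).2 ⟨y.1.2, perp_symm hF (by rw [y.2.1, huv])⟩⟩, y.2.2⟩)
          fun y y' e => Subtype.ext (Subtype.ext (congrArg (fun z => z.1.1) e :))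
    push Not at horth
    by_cases hfull : ∃ x : W, h3 x.1 x.1 ≠ 0 ∧ ∀ W0 : AddSubgroup (Fin 3 → F),
        (∀ y, y ∈ W0 ↔ y ∈ W ∧ h3 y x.1 = 0) → Nat.card W0 = q ^ 2
    · obtain ⟨x, hx, hfull⟩ := hfull
      obtain ⟨W0, hW0, -⟩ := meet x hx
      have hc := hfull W0 hW0
      refine ⟨a, ha, b, hb, hab, q ^ 3 - q ^ 2, q ^ 2, ?_, fun y _ hy => hM y hy, le_of_eq ?_⟩
      · let S : Set W := {y | y.1 ∈ W0}
        have hS : S.ncard = q ^ 2 := by
          rw [← hc, ← Nat.card_coe_set_eq]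
          exact Nat.card_congr
            { toFun := fun y => ⟨y.1.1, y.2⟩
              invFun := fun y => ⟨⟨y.1, ((hW0 _).1 y.2).1⟩, y.2⟩
              left_inv := fun y => rfl
              right_inv := fun y => rfl }
        refine (Set.ncard_le_ncard (t := Sᶜ) (fun y hy hyS => ?_) (Set.toFinite _)).trans ?_
        · exact horth x.1 x.2 y.1 y.2 hx (by rw [show h3 y.1 y.1 = h3 a a from hy]; exact haa)
            (perp_symm hF ((hW0 _).1 hyS).2)
        · rw [Set.ncard_compl, hS]; omega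
      · zify [(Nat.pow_le_pow_right (by omega) (by omega) : q ^ 2 ≤ q ^ 3), (by omega : 1 ≤ q)]; ring
    · push Not at hfull
      refine ⟨a, ha, b, hb, hab, q ^ 3, q ^ 2 - q, (hLw _).trans hw3, fun y _ hy => ?_, e4.le⟩
      obtain ⟨W0, hW0, hne⟩ := hfull y (by rw [hy]; exact haa)
      obtain ⟨W0', hW0', hc⟩ := meet y (by rw [hy]; exact haa)
      obtain rfl : W0 = W0' := SetLike.ext fun z => (hW0 z).trans (hW0' z).symm
      have hd : Nat.card W0 ∣ q ^ (2 * 3) := card_space hF (m := 3) ▸ AddSubgroup.card_addSubgroup_dvd_card W0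
      have h2 := half_of_lt hF hd (lt_of_le_of_ne hc hne)
      exact (fibre y a b W0 hW0).trans (by omega)
  have h := (pairs_le hF K hK W hinv ha' hb' hab' hL hM').trans (Nat.mul_le_mul_left _ hLM)
  rw [vA3, vA2] at h
  have e21 : q ^ 2 - 1 = (q + 1) * (q - 1) := by rw [← Nat.sq_sub_sq, one_pow]
  have hk : (q ^ 3 + 1) * (q + 1) ≤ k * q := by
    refine Nat.le_of_mul_le_mul_right ?_ (show 0 < q ^ 3 * (q - 1) from Nat.mul_pos (by omega) (by omega))
    calc (q ^ 3 + 1) * (q + 1) * (q ^ 3 * (q - 1)) = q ^ 2 * (q ^ 3 + 1) * (q * (q ^ 2 - 1)) := by rw [e21]; ring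
      _ ≤ _ := h
      _ = _ := by ring
  rw [heq]
  refine Nat.mul_le_mul_right _ (Nat.le_of_mul_le_mul_right ?_ (show 0 < q by omega))
  refine le_trans ?_ hk
  zify
  nlinarith

end CfsgLib.PsuMin
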