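import Mathlib
import Cfsg.Agent.Lib.PsuMin.Bound3

/-! Lifting the Levi image when there are no translations. -/

set_option autoImplicit false

namespace CfsgLib.PsuMin

open Matrix CfsgLib.UnitaryTransvection Module

variable {F : Type*} [Field F] [Fintype F] {q m : ℕ} (hF : Fintype.card F = q ^ 2)

local notation "σ" => frob hF
local notation "hm" => Cfsg.hermForm m F q
local notation "Gl" => Cfsg.GU m F q

/-- A diagonal isometry. -/
noncomputable def dg (d : Fin m → F) (hd : ∀ i, d i * σ (d i) = 1) : Gl :=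
  mkGU hF (Matrix.diagonal d) fun u v => by
    simp only [Cfsg.hermForm, mulVec_diagonal]
    refine Finset.sum_congr rfl fun i _ => ?_
    rw [mul_pow, ← frob_apply hF (d i)]
    linear_combination (u i * v i ^ q) * hd i

theorem dg_apply (d : Fin m → F) (hd : ∀ i, d i * σ (d i) = 1) (x : Fin m → F) (i : Fin m) :
    ((dg hF d hd).1.1 *ᵥ x) i = d i * x i := mulVec_diagonal d x i

theorem dg_det (d : Fin m → F) (hd : ∀ i, d i * σ (d i) = 1) : (dg hF d hd).1.1.det = ∏ i, d i :=
  det_diagonal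

theorem dg_comm (d e : Fin m → F) (hd : ∀ i, d i * σ (d i) = 1) (he : ∀ i, e i * σ (e i) = 1) :
    dg hF d hd * dg hF e he = dg hF e he * dg hF d hd := gu_ext fun x => funext fun i => by
  rw [mul_apply, mul_apply, dg_apply, dg_apply, dg_apply, dg_apply]; ring

theorem dg_free (d : Fin m → F) (hd : ∀ i, d i * σ (d i) = 1) (h1 : ∀ i, d i ≠ 1) {x : Fin m → F}
    (hx : (dg hF d hd).1.1 *ᵥ x = x) : x = 0 := funext fun i => by
  have e := congrFun hx i
  rw [dg_apply] at e
  exact (mul_eq_zero.1 (show (d i - 1) * x i = 0 by linear_combination e)).resolve_left (sub_ne_zero.2 (h1 i))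

include hF in
theorem fix_two (hq : q = 2) {z : F} (hz : σ z = z) (hz0 : z ≠ 0) : z = 1 := by
  classical
  by_contra hz1
  have hle : ({0, 1, z} : Set F).ncard ≤ 2 := by
    refine le_trans ?_ ((card_fix hF).trans hq).le
    rw [← Nat.card_coe_set_eq]
    refine Nat.card_le_card_of_injective (fun y => ⟨y.1, ?_⟩) fun a b e => Subtype.ext (congrArg Subtype.val e :)
    rcases y.2 with e | e | e <;> rw [e] <;> simp [hz]
  rw [Set.ncard_eq_toFinset_card', show ({0, 1, z} : Set F).toFinset = {0, 1, z} by simp,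
    Finset.card_insert_of_notMem (by simp [Ne.symm hz0]), Finset.card_pair (Ne.symm hz1)] at hle
  omega

include hF in
theorem char_two (hq : q = 2) : (2 : F) = 0 := by
  have : (-1 : F) = 1 := fix_two hF hq (by simp) (by simp)
  linear_combination -this

include hF in
theorem omega_two (hq : q = 2) {w : F} (hw1 : w ≠ 1) (hw : w * σ w = 1) :
    σ w = w * w ∧ w + σ w = -1 := by
  have e : σ w = w * w := by rw [frob_apply hF, hq, pow_two]
  refine ⟨e, mul_left_cancel₀ (sub_ne_zero.2 hw1) ?_⟩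
  rw [e] at hw ⊢
  linear_combination hw

section lift

variable (P : HPair F q) (H : Subgroup (Cfsg.GU (m + 2) F q))

/-- A lift with trivial translation part. -/
def Lz (l : Fˣ) (g : Gl) : Prop := ∃ t, t ∈ skew hF ∧ emb hF P l g * root hF (vp P) t ∈ H

theorem root_emb (l : Fˣ) (g : Gl) {t : F} (ht : t ∈ skew hF) :
    emb hF P l g * root hF (vp P) t = root hF (vp P) (t * ((l : F) * σ (l : F))) * emb hF P l g := by
  rw [← root_smul hF (vp_iso hF P) ht, ← emb_vp hF P l g, ← root_conj hF _ (vp_iso hF P) ht]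
  group

theorem root_emb_one (g : Gl) {t : F} (ht : t ∈ skew hF) :
    emb hF P 1 g * root hF (vp P) t = root hF (vp P) t * emb hF P 1 g := by
  rw [root_emb hF P 1 g ht]; simp

/-- The elements with such a lift. -/
noncomputable def Dz : Subgroup Gl where
  carrier := {g | Lz hF P H 1 g}
  one_mem' := ⟨0, zero_mem _, by rw [emb_one, root_zero hF (vp_iso hF P), one_mul]; exact one_mem H⟩
  mul_mem' := by
    rintro a b ⟨s, hs, ha⟩ ⟨t, ht, hb⟩
    refine ⟨s + t, add_mem hs ht, ?_⟩
    have h := mul_mem ha hb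
    rwa [mul_assoc, ← mul_assoc (root hF (vp P) s), ← root_emb_one hF P b hs, ← mul_assoc, ← mul_assoc, emb_mul,
      mul_one, mul_assoc, root_mul hF (vp_iso hF P) hs ht] at h
  inv_mem' := by
    rintro a ⟨s, hs, ha⟩
    refine ⟨-s, neg_mem hs, ?_⟩
    have h := inv_mem ha
    rwa [_root_.mul_inv_rev, emb_inv, root_inv hF (vp_iso hF P) hs, inv_one,
      ← root_emb_one hF P a⁻¹ (neg_mem hs)] at h

theorem mem_Dz {g : Gl} : g ∈ Dz hF P H ↔ Lz hF P H 1 g := Iff.rfl

include hF in
/-- Lifts differ by translations. -/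
theorem lift_unique (hW : ∀ a ∈ Wh hF P H, a = 0) {l : Fˣ} {g : Gl} {a b : Fin m → F} {s t : F}
    (hs : Ok hF a s) (ht : Ok hF b t) (ha : emb hF P l g * uel hF P a s ∈ H)
    (hb : emb hF P l g * uel hF P b t ∈ H) : a = b := by
  have h := mul_mem (inv_mem ha) hb
  rw [_root_.mul_inv_rev, mul_assoc, inv_mul_cancel_left, uel_inv hF P hs, uel_mul hF P (ok_neg hF hs) ht] at h
  have := hW _ ⟨_, ok_add hF (ok_neg hF hs) ht, h⟩
  exact (neg_add_eq_zero.1 this)

include hF in
/-- A lift of an element commuting with a fixed point free element of `Dz`. -/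
theorem lift_comm (hW : ∀ a ∈ Wh hF P H, a = 0) {e : Gl} (he : e ∈ Dz hF P H)
    (hfree : ∀ x : Fin m → F, e.1.1 *ᵥ x = x → x = 0) {l : Fˣ} {g : Gl} (hc : e * g = g * e)
    {a : Fin m → F} {s : F} (hs : Ok hF a s) (hg : emb hF P l g * uel hF P a s ∈ H) : Lz hF P H l g := by
  obtain ⟨t, ht, he'⟩ := he
  have h1 := mul_mem (mul_mem hg he') (inv_mem (mul_mem he' hg))
  set r := (l : F) * σ (l : F)
  have ok1 : Ok hF (e⁻¹.1.1 *ᵥ a) s := by
    unfold Ok at hs ⊢; rw [gu_h e⁻¹]; exact hs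
  have k1 : uel hF P a s * emb hF P 1 e = emb hF P 1 e * uel hF P (e⁻¹.1.1 *ᵥ a) s := by
    have := emb_conj hF P hs (1 : Fˣ) e⁻¹
    simp only [Units.val_one, map_one, one_smul, one_mul] at this
    rw [← this, emb_inv, inv_one, inv_inv, ← mul_assoc, ← mul_assoc, emb_mul, mul_one, mul_inv_cancel, emb_one, one_mul]
  have left : emb hF P l g * uel hF P a s * (emb hF P 1 e * root hF (vp P) t) =
      emb hF P l (g * e) * (uel hF P (e⁻¹.1.1 *ᵥ a) s * root hF (vp P) t) := by
    calc _ = emb hF P l g * (uel hF P a s * emb hF P 1 e) * root hF (vp P) t := by group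
      _ = _ := by rw [k1, ← mul_assoc, emb_mul, mul_one, mul_assoc]
  have hr : σ r⁻¹ = r⁻¹ := by rw [map_inv₀, map_mul, frob_frob hF, mul_comm]
  have ht' : t * r⁻¹ ∈ skew hF := skew_mul_fix hF ht hr
  have hr0 : r ≠ 0 := mul_ne_zero l.ne_zero fun e1 => l.ne_zero (eq_zero_of_frob hF e1)
  have k2 : root hF (vp P) t * emb hF P l g = emb hF P l g * root hF (vp P) (t * r⁻¹) := by
    rw [root_emb hF P l g ht', show (l : F) * σ (l : F) = r from rfl, mul_assoc t, inv_mul_cancel₀ hr0, mul_one]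
  have right : emb hF P 1 e * root hF (vp P) t * (emb hF P l g * uel hF P a s) =
      emb hF P l (g * e) * (root hF (vp P) (t * r⁻¹) * uel hF P a s) := by
    calc _ = emb hF P 1 e * (root hF (vp P) t * emb hF P l g) * uel hF P a s := by group
      _ = _ := by rw [k2, ← mul_assoc, emb_mul, one_mul, hc, mul_assoc]
  have hl := mul_mem hg he'
  have hr' := mul_mem he' hg
  rw [left, ← uel_zero hF P ht] at hl
  rw [right, ← uel_zero hF P ht'] at hr'
  have o0 : ∀ c ∈ skew hF, Ok hF (0 : Fin m → F) c := fun c hc => by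
    unfold Ok; rw [h_zero_left hF, zero_add]; exact hc
  rw [uel_mul hF P ok1 (o0 t ht)] at hl
  rw [uel_mul hF P (o0 _ ht') hs] at hr'
  have ea := lift_unique hF P H hW (ok_add hF ok1 (o0 t ht)) (ok_add hF (o0 _ ht') hs) hl hr'
  rw [add_zero, zero_add] at ea
  have ha0 : a = 0 := hfree a (by
    have := congrArg (fun x => e.1.1 *ᵥ x) ea
    simp only [apply_inv_apply] at this
    exact this.symm)
  subst ha0
  have hs' : s ∈ skew hF := by
    unfold Ok at hs; rw [h_zero_left hF, zero_add] at hs; exact hs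
  exact ⟨s, hs', by rwa [uel_zero hF P hs'] at hg⟩

include hF in
/-- The centraliser of a fixed point free element of `Dz` in determinant one. -/
theorem dz_of_comm (hH : H ≤ det1 F q (m + 2)) (hW : ∀ a ∈ Wh hF P H, a = 0)
    (hK : det1 F q m ≤ Kh hF P H) {e : Gl} (he : e ∈ Dz hF P H)
    (hfree : ∀ x : Fin m → F, e.1.1 *ᵥ x = x → x = 0) {g : Gl} (hg : g ∈ det1 F q m) (hc : e * g = g * e) :
    g ∈ Dz hF P H := by
  obtain ⟨a, s, hs, h⟩ := (mem_Kh hF P H hH).1 (hK hg)
  exact lift_comm hF P H hW he hfree hc hs h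

/-- The elements lifting exactly. -/
noncomputable def Ex : Subgroup Gl where
  carrier := {g | emb hF P 1 g ∈ H}
  one_mem' := by show emb hF P 1 1 ∈ H; rw [emb_one]; exact one_mem H
  mul_mem' := fun {a b} (ha : emb hF P 1 a ∈ H) (hb : emb hF P 1 b ∈ H) => by
    show emb hF P 1 (a * b) ∈ H
    have := mul_mem ha hb
    rwa [emb_mul, one_mul] at this
  inv_mem' := fun {a} (ha : emb hF P 1 a ∈ H) => by
    show emb hF P 1 a⁻¹ ∈ H
    have := inv_mem ha
    rwa [emb_inv, inv_one] at this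

include hF in
/-- Commutators lift exactly. -/
theorem ex_comm {l : Fˣ} (hl : (l : F) * σ (l : F) = 1) {k g : Gl} (hk : Lz hF P H l k) (hg : Lz hF P H 1 g) :
    k * g * k⁻¹ * g⁻¹ ∈ Ex hF P H := by
  obtain ⟨s, hs, hk⟩ := hk
  obtain ⟨t, ht, hg⟩ := hg
  have h := mul_mem (mul_mem (mul_mem hk hg) (inv_mem hk)) (inv_mem hg)
  have c1 : ∀ (x : Gl) {c : F}, c ∈ skew hF →
      emb hF P l x * root hF (vp P) c = root hF (vp P) c * emb hF P l x := fun x c hc => by
    rw [root_emb hF P l x hc, hl, mul_one]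
  have hx : emb hF P l k * emb hF P 1 g * (emb hF P l k)⁻¹ * (emb hF P 1 g)⁻¹ =
      emb hF P 1 (k * g * k⁻¹ * g⁻¹) := by
    rw [emb_inv, emb_inv, emb_mul, emb_mul, emb_mul, mul_one, mul_inv_cancel, inv_one, mul_one]
  show emb hF P 1 (k * g * k⁻¹ * g⁻¹) ∈ H
  rw [← hx]
  convert h using 1
  set A := emb hF P l k
  set B := emb hF P 1 g
  set x := root hF (vp (m := m) P) s
  set y := root hF (vp (m := m) P) t
  have hBy : B * y = y * B := root_emb_one hF P g ht
  have hAy : A * y = y * A := c1 k ht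
  have hBx : B * x = x * B := root_emb_one hF P g hs
  calc A * B * A⁻¹ * B⁻¹ = A * B * x * x⁻¹ * A⁻¹ * B⁻¹ := by group
    _ = A * x * B * x⁻¹ * A⁻¹ * B⁻¹ := by rw [mul_assoc A B x, hBx, ← mul_assoc]
    _ = A * x * B * x⁻¹ * A⁻¹ * (y * (y⁻¹ * B⁻¹)) := by group
    _ = A * x * B * x⁻¹ * (A⁻¹ * y) * (y⁻¹ * B⁻¹) := by group
    _ = A * x * B * x⁻¹ * (y * A⁻¹) * (y⁻¹ * B⁻¹) := by
        rw [show A⁻¹ * y = y * A⁻¹ by rw [inv_mul_eq_iff_eq_mul, ← mul_assoc, hAy, mul_inv_cancel_right]]
    _ = A * x * B * (x⁻¹ * y) * A⁻¹ * (y⁻¹ * B⁻¹) := by group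
    _ = A * x * B * (y * x⁻¹) * A⁻¹ * (y⁻¹ * B⁻¹) := by
        rw [show x⁻¹ * y = y * x⁻¹ by
          rw [root_inv hF (vp_iso hF P) hs, root_mul hF (vp_iso hF P) (neg_mem hs) ht,
            root_mul hF (vp_iso hF P) ht (neg_mem hs), add_comm (-s) t]]
    _ = A * x * (B * y) * (A * x)⁻¹ * (B * y)⁻¹ := by group

end lift

section closed

variable {b s : ℕ} (P : HPair F q) (H : Subgroup (Cfsg.GU (b + s + 2) F q))

local notation "hb" => Cfsg.hermForm b F q
local notation "hn" => Cfsg.hermForm (b + s) F q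

include hF in
theorem trans_two (hb2 : 2 ≤ b) {x y : Fin b → F} (hx : x ≠ 0) (hy : y ≠ 0) (e : hb x x = hb y y)
    (hbig : 3 ≤ b ∨ hb x x ≠ 0) : ∃ g ∈ det1 F q b, g.1.1 *ᵥ x = y := by
  rcases le_or_gt 3 b with h3 | h3
  · exact trans_level hF h3 hx hy e
  have hyy : hb y y ≠ 0 := e ▸ hbig.resolve_left (by omega)
  obtain rfl : b = 1 + 1 := by omega
  obtain ⟨E, hE⟩ := perp_equiv hF (m := 1) hyy
  obtain ⟨g, hg⟩ := witt hF (single_li hx) (single_li hy) (fun i j => by
    fin_cases i; fin_cases j; simpa using e.symm)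
  have hg0 : g.1.1 *ᵥ x = y := by simpa using hg 0
  set u := E.symm (Pi.single 0 1)
  have hu : Cfsg.hermForm (1 + 1) F q u.1 u.1 = 1 := by
    rw [← hE, E.apply_symm_apply, UnitaryOrder.herm_single_right hF]; simp
  obtain ⟨g', hg', hfix⟩ := det_fix hF g hu
  exact ⟨g', hg', by rw [hfix x (by rw [hg0]; exact perp_symm hF u.2), hg0]⟩

include hF in
/-- Every element of determinant one has a lift with trivial translation part. -/
theorem dz_all (hH : H ≤ det1 F q (b + s + 2)) (hW : ∀ a ∈ Wh hF P H, a = 0)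
    (hK : det1 F q (b + s) ≤ Kh hF P H) (hb2 : 2 ≤ b) (hs : s = 1 ∨ s = 2 ∧ 3 ≤ b) {d : Fin (b + s) → F}
    (hd : ∀ i, d i * σ (d i) = 1) (hd1 : ∀ i, d i ≠ 1) {α β : F}
    (hα : ∀ i : Fin s, d (Fin.natAdd b i) = α) (hβ : ∀ i : Fin b, d (Fin.castAdd s i) = β)
    (hdet : ∏ i, d i = 1) (hscal : b + s = 3 → q = 2 → α = β)
    (he : dg hF d hd ∈ Dz hF P H) : det1 F q (b + s) ≤ Dz hF P H := by
  classical
  have hsmul : ∀ x : Fin (b + s) → F,
      pr ((dg hF d hd).1.1 *ᵥ x) = β • pr x ∧ lo ((dg hF d hd).1.1 *ᵥ x) = α • lo x := fun x =>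
    ⟨funext fun i => by
      show ((dg hF d hd).1.1 *ᵥ x) (Fin.castAdd s i) = β * x (Fin.castAdd s i)
      rw [dg_apply, hβ],
    funext fun i => by
      show ((dg hF d hd).1.1 *ᵥ x) (Fin.natAdd b i) = α * x (Fin.natAdd b i)
      rw [dg_apply, hα]⟩
  have hfree : ∀ x, (dg hF d hd).1.1 *ᵥ x = x → x = 0 := fun x hx => dg_free hF d hd hd1 hx
  have hC : ∀ g ∈ det1 F q (b + s), dg hF d hd * g = g * dg hF d hd → g ∈ Dz hF P H := fun g hg hc =>
    dz_of_comm hF P H hH hW hK he hfree hg hc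
  by_cases h32 : b + s = 3 ∧ q = 2
  · intro g hg
    refine hC g hg (gu_ext fun x => ?_)
    have e : ∀ x : Fin (b + s) → F, (dg hF d hd).1.1 *ᵥ x = β • x := fun x =>
      ext2 (hsmul x).1 (by rw [(hsmul x).2, hscal h32.1 h32.2, lo_smul])
    rw [mul_apply, mul_apply, e, e, mulVec_smul]
  let S : Set (Fin (b + s) → F) := {x | Rt hF (Dz hF P H) x}
  have hblk : ∀ g ∈ det1 F q b, blk hF g (1 : Cfsg.GU s F q) ∈ Dz hF P H := fun g hg => by
    refine hC _ (mem_det1.2 ?_) (gu_ext fun x => ext2 ?_ ?_)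
    · rw [det_blk, mem_det1.1 hg, mem_det1.1 (one_mem (det1 F q s)), mul_one]
    · rw [mul_apply, mul_apply, (hsmul _).1, blk_pr, blk_pr, (hsmul _).1, mulVec_smul]
    · rw [mul_apply, mul_apply, (hsmul _).2, blk_lo, blk_lo, (hsmul _).2, one_apply, one_apply]
  have hS : Closed hF S :=
    { iso := fun x hx => ⟨hx.1, hx.2.1⟩
      scal := fun x hx k hk => rt_smul hF hx hk
      low := fun a ha0 ha => by
        have hi : hn (inc a) (inc a) = 0 := by rw [h_inc hF, ha]
        refine ⟨fun e => ha0 (by rw [← pr_inc (s := s) a, e, pr_zero]), hi, fun c hc => ?_⟩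
        rw [← blk_root hF ha hc]
        exact hblk _ (root_mem hF ha hc)
      move := fun x hx r hr c hc => rt_move hF hx hr hc
      trans := fun x hx hp a ha0 hnorm => by
        by_cases hiso : hb (pr x) (pr x) = 0 ∧ b < 3
        · have hs1 : s = 1 := hs.resolve_right (fun e => by omega)
          have hl : lo x = 0 := by
            have hxx := hx.2.1
            rw [h_split, hiso.1, zero_add] at hxx
            subst hs1
            funext i
            obtain rfl : i = 0 := Subsingleton.elim _ _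
            simp only [Cfsg.hermForm, Fin.sum_univ_one, mul_eq_zero] at hxx
            exact hxx.elim id fun e => pow_eq_zero_iff (by have := two_le_q hF; omega) |>.1 e
          rw [hl, show top (0 : Fin s → F) = (0 : Fin (b + s) → F) from ext2 (pr_top _) (lo_top _), add_zero]
          have hi : hb a a = 0 := hnorm.trans hiso.1
          have hi' : hn (inc a) (inc a) = 0 := by rw [h_inc hF, hi]
          refine ⟨fun e => ha0 (by rw [← pr_inc (s := s) a, e, pr_zero]), hi', fun c hc => ?_⟩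
          rw [← blk_root hF hi hc]
          exact hblk _ (root_mem hF hi hc)
        · obtain ⟨g, hg, hgx⟩ := trans_two hF hb2 hp ha0 hnorm.symm (by
            by_cases h3 : 3 ≤ b
            · exact Or.inl h3
            · exact Or.inr fun e => hiso ⟨e, by omega⟩)
          have := rt_map hF hx (hblk g hg)
          rwa [show (blk hF g (1 : Cfsg.GU s F q)).1.1 *ᵥ x = inc a + top (lo x) from ext2
            (by rw [blk_pr, hgx, pr_add, pr_inc, pr_top, add_zero])
            (by rw [blk_lo, one_apply, lo_add, lo_inc, lo_top, zero_add])] at this }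
  -- members outside the first block
  obtain ⟨θ, hθ⟩ := exists_norm_eq hF (c := (-1 : F)) (by simp)
  have hmem : ∀ i : Fin s, θ • Pi.single i 1 ∈ Shadow S := by
    intro i
    set j0 : Fin (b + s) := Fin.castAdd s ⟨0, by omega⟩ with hj0
    set j1 : Fin (b + s) := Fin.castAdd s ⟨1, by omega⟩ with hj1
    set i' : Fin (b + s) := Fin.natAdd b i with hi'
    have n01 : j0 ≠ j1 := fun e => by simpa [hj0, hj1] using congrArg Fin.val e
    have n0i : j0 ≠ i' := fun e => by simp [hj0, hi', Fin.ext_iff] at e; omega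
    let π := Equiv.swap i' j1
    let d' : Fin (b + s) → F := fun k => d (π k)
    have hd' : ∀ k, d' k * σ (d' k) = 1 := fun k => hd _
    have he' : dg hF d' hd' ∈ Dz hF P H := hC _ (mem_det1.2 (by
      rw [dg_det, Equiv.prod_comp π d, hdet])) (dg_comm hF _ _ _ _)
    set x : Fin (b + s) → F := Pi.single j0 1 + θ • Pi.single i' 1 with hx
    have hxx : hn x x = 0 := by
      simp [hx, h_add_left, h_add_right hF, h_smul_left, h_smul_right hF, UnitaryOrder.herm_single_right hF,
        Pi.single_apply, n0i, n0i.symm]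
      linear_combination hθ
    have hx0 : x ≠ 0 := fun e => by simpa [hx, n0i] using congrFun e j0
    have hb' : d' j0 = β ∧ d' i' = β := by
      refine ⟨?_, ?_⟩
      · show d (π j0) = β
        rw [Equiv.swap_apply_of_ne_of_ne n0i n01]; exact hβ _
      · show d (π i') = β
        rw [Equiv.swap_apply_left]; exact hβ _
    have hβn : β * σ β = 1 := by rw [← hβ ⟨0, by omega⟩]; exact hd _
    have hxs : (dg hF d' hd').1.1 *ᵥ x = β • x := funext fun k => by
      rw [dg_apply, Pi.smul_apply, smul_eq_mul]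
      by_cases k0 : k = j0
      · rw [k0, hb'.1]
      by_cases k1 : k = i'
      · rw [k1, hb'.2]
      simp [hx, k0, k1]
    have hxS : x ∈ S := ⟨hx0, hxx, fun c hc => by
      refine dz_of_comm hF P H hH hW hK he' (fun y hy => dg_free hF d' hd' (fun k => hd1 _) hy)
        (root_mem hF hxx hc) ?_
      rw [← mul_inv_eq_iff_eq_mul, root_conj hF _ hxx hc, hxs, root_smul hF hxx hc, hβn, mul_one]⟩
    have hpr : pr x ≠ 0 := fun e => by
      have := congrFun e ⟨0, by omega⟩
      simp only [pr, Pi.zero_apply] at this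
      rw [← hj0] at this
      simp [hx, n0i] at this
    have hlo : lo x = θ • Pi.single i 1 := funext fun k => by
      simp only [lo, hx, Pi.add_apply, Pi.smul_apply]
      rw [Pi.single_eq_of_ne (by simp [hj0, Fin.ext_iff]; omega), zero_add]
      congr 1
      simp [hi', Pi.single_apply, Fin.ext_iff]
    exact hlo ▸ shadow_of_mem hxS hpr
  have hθ0 : θ ≠ 0 := fun e => by rw [e, zero_mul] at hθ; exact one_ne_zero (neg_eq_zero.1 hθ.symm)
  have hall : ∀ A, A ∈ Shadow S := by
    intro A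
    rcases hs with rfl | ⟨rfl, hb3⟩
    · rw [show A = (A 0 / θ) • (θ • Pi.single (0 : Fin 1) (1 : F)) from funext fun k => by
        obtain rfl : k = 0 := Subsingleton.elim _ _
        simp [div_mul_cancel₀ _ hθ0]]
      exact shadow_smul hF hS _ (hmem 0)
    · obtain ⟨T, hT⟩ := exists_shadow hF hb3 hS
      rw [← hT, show A = (A 0 / θ) • (θ • Pi.single (0 : Fin 2) (1 : F)) + (A 1 / θ) • (θ • Pi.single (1 : Fin 2) (1 : F))
        from funext fun k => by fin_cases k <;> simp [div_mul_cancel₀ _ hθ0]]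
      exact T.add_mem (T.smul_mem _ ((hT _).2 (hmem 0))) (T.smul_mem _ ((hT _).2 (hmem 1)))
  exact eq_det1_of_roots hF (by omega) h32
    fun x hx0 hx c hc => (all_of_shadow hF hb2 hS hall x hx0 hx).2.2 c hc

end closed

section exact'

variable (P : HPair F q) (H : Subgroup (Cfsg.GU (m + 2) F q))

include hF in
/-- Root elements lift exactly. -/
theorem ex_root (hm3 : 3 ≤ m) (hD : det1 F q m ≤ Dz hF P H) {z : Fin m → F} {c : F} (hz : hm z z = 0)
    (hc : c ∈ skew hF) : root hF z c ∈ Ex hF P H := by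
  obtain ⟨a, ha, b, hb, e⟩ := root_commutator hF hm3 hz hc
  rw [← e]
  exact ex_comm hF P H (l := 1) (by simp) (hD ha) (hD hb)

include hF in
/-- The exactly lifting elements are transitive on nonzero vectors of one norm. -/
theorem ex_trans (hm3 : 3 ≤ m) (hD : det1 F q m ≤ Dz hF P H)
    (hR : m = 3 → q = 2 → ∀ w : F, w * σ w = 1 → ∃ (l : Fˣ) (k : Gl), Lz hF P H l k ∧ k.1.1.det = w)
    {x y : Fin m → F} (hx : x ≠ 0) (hy : y ≠ 0) (e : hm x x = hm y y) :
    ∃ g ∈ Ex hF P H, g.1.1 *ᵥ x = y := by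
  by_cases h32 : m = 3 ∧ q = 2
  swap
  · obtain ⟨g, hg, hgx⟩ := trans_level hF hm3 hx hy e
    exact ⟨g, eq_det1_of_roots hF hm3 h32 (fun z _ hz c hc => ex_root hF P H hm3 hD hz hc) hg, hgx⟩
  obtain ⟨rfl, hq⟩ := h32
  have h2 := char_two hF hq
  -- a lift of every element
  have hall : ∀ k : Cfsg.GU 3 F q, ∃ l : Fˣ, Lz hF P H l k ∧ (l : F) * σ (l : F) = 1 := by
    intro k
    obtain ⟨l, k0, hk0, hdet⟩ := hR rfl hq k.1.1.det (det_norm hF k)
    have hl : (l : F) * σ (l : F) = 1 := fix_two hF hq (by rw [map_mul, frob_frob hF, mul_comm])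
      (mul_ne_zero l.ne_zero fun e1 => l.ne_zero (eq_zero_of_frob hF e1))
    refine ⟨l, ?_, hl⟩
    obtain ⟨s, hs, hk0⟩ := hk0
    have hd : k0⁻¹ * k ∈ det1 F q 3 := by
      rw [mem_det1]
      show (k0⁻¹.1.1 * k.1.1).det = 1
      have h1 : (k0⁻¹.1.1 * k0.1.1).det = 1 :=
        (congrArg (fun a : Cfsg.GU 3 F q => a.1.1.det) (inv_mul_cancel k0)).trans det_one
      rw [det_mul] at h1 ⊢
      rw [← hdet]; exact h1
    obtain ⟨t, ht, hd⟩ := hD hd
    refine ⟨s + t, add_mem hs ht, ?_⟩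
    have h := mul_mem hk0 hd
    rwa [mul_assoc, ← mul_assoc (root hF (vp P) s), ← root_emb_one hF P _ hs, ← mul_assoc, ← mul_assoc, emb_mul,
      mul_one, mul_inv_cancel_left, mul_assoc, root_mul hF (vp_iso hF P) hs ht] at h
  obtain ⟨w, hw1, hw⟩ := exists_omega hF
  obtain ⟨hsw, hws⟩ := omega_two hF hq hw1 hw
  -- one reflection
  have step : ∀ {x y : Fin 3 → F}, x ≠ 0 → y ≠ 0 → Cfsg.hermForm 3 F q x x = Cfsg.hermForm 3 F q y y →
      Cfsg.hermForm 3 F q (y - x) (y - x) ≠ 0 → ∃ g ∈ Ex hF P H, g.1.1 *ᵥ x = y := by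
    intro x y hx hy e hzz
    set N := Cfsg.hermForm 3 F q x x with hN
    set z := y - x with hz
    have hsum : Cfsg.hermForm 3 F q x z + Cfsg.hermForm 3 F q z x + Cfsg.hermForm 3 F q z z = 0 := by
      simp only [hz, h_sub_left, h_sub_right hF, ← e, ← hN]
      ring
    have hxz : Cfsg.hermForm 3 F q x z ≠ 0 := fun e1 => hzz (by
      rwa [e1, perp_symm hF e1, zero_add, zero_add] at hsum)
    set c := (Cfsg.hermForm 3 F q x z)⁻¹ with hc
    have hgood : Good hF z c := by
      unfold Good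
      rw [hc, map_inv₀, h_swap hF]
      have hzx : Cfsg.hermForm 3 F q z x ≠ 0 := fun e1 => hxz (perp_symm hF e1)
      field_simp
      linear_combination hsum
    set k := tg hF z c hgood
    have hkx : k.1.1 *ᵥ x = y := by
      rw [tg_mulVec, hc, inv_mul_cancel₀ hxz, one_smul, hz]; abel
    obtain ⟨x', hx'z, hx'0, hx'N⟩ : ∃ x', Cfsg.hermForm 3 F q x' z = 0 ∧ x' ≠ 0 ∧ Cfsg.hermForm 3 F q x' x' = N := by
      obtain ⟨E, hE⟩ := perp_equiv hF (m := 2) hzz
      obtain ⟨v, hv0, hv⟩ : ∃ v : Fin 2 → F, v ≠ 0 ∧ Cfsg.hermForm 2 F q v v = N := by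
        by_cases hN0 : N = 0
        · obtain ⟨v, hv0, hv⟩ := UnitarySimple.exists_isotropic hF (n := 2) le_rfl
          exact ⟨v, hv0, hv.trans hN0.symm⟩
        · refine ⟨Pi.single 0 1, by simp, ?_⟩
          rw [UnitaryOrder.herm_single_right hF, Pi.single_eq_same, fix_two hF hq (by rw [hN, h_swap hF]) hN0]
      refine ⟨(E.symm v).1, (E.symm v).2, fun e1 => hv0 ?_, by rw [← hE, E.apply_symm_apply, hv]⟩
      refine h_nondeg hF fun u => ?_
      rw [← E.apply_symm_apply v, ← E.apply_symm_apply u, hE, e1, h_zero_left hF]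
    obtain ⟨g, hg, hgx⟩ := trans_level hF le_rfl hx'0 hx (hx'N.trans hN)
    obtain ⟨l, hlk, hl⟩ := hall k
    have hk' : k.1.1 *ᵥ x' = x' := by rw [tg_mulVec, hx'z, mul_zero, zero_smul, add_zero]
    refine ⟨k * g * k⁻¹ * g⁻¹, ex_comm hF P H hl hlk (hD hg), ?_⟩
    rw [mul_apply, mul_apply, mul_apply, show g⁻¹.1.1 *ᵥ x = x' by rw [← hgx, inv_apply_apply],
      show k⁻¹.1.1 *ᵥ x' = x' by conv_lhs => rw [← hk', inv_apply_apply], hgx, hkx]
  -- scalars
  have hscal : ∀ r : F, r * σ r = 1 → ∀ x : Fin 3 → F, ∃ g ∈ Ex hF P H, g.1.1 *ᵥ x = r • x := by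
    intro r hr x
    have hd : ∀ i : Fin 3, (fun _ => r * r) i * σ ((fun _ : Fin 3 => r * r) i) = 1 := fun i => by
      show r * r * σ (r * r) = 1
      rw [map_mul]; linear_combination (r * σ r + 1) * hr
    have hr3 : r * r * r = 1 := by
      have : σ r = r * r := by rw [frob_apply hF, hq, pow_two]
      rw [this] at hr; linear_combination hr
    set e' := dg hF (fun _ : Fin 3 => r * r) hd
    have he : e' ∈ det1 F q 3 := mem_det1.2 (by rw [dg_det]; simp; linear_combination (r * r * r + 1) * hr3)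
    obtain ⟨t, ht, h'⟩ := hD he
    refine ⟨e' * e', ?_, funext fun i => ?_⟩
    · show emb hF P 1 (e' * e') ∈ H
      have h := mul_mem h' h'
      rw [mul_assoc, ← mul_assoc (root hF (vp P) t), ← root_emb_one hF P e' ht, ← mul_assoc, ← mul_assoc, emb_mul,
        mul_one, mul_assoc, root_mul hF (vp_iso hF P) ht ht, show t + t = 0 by linear_combination t * h2,
        root_zero hF (vp_iso hF P), mul_one] at h
      exact h
    · rw [mul_apply, dg_apply, dg_apply, Pi.smul_apply, smul_eq_mul]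
      linear_combination (r * x i) * hr3
  have hw' : σ w * σ (σ w) = 1 := by rw [frob_frob hF, mul_comm]; exact hw
  have comp : ∀ {x y z : Fin 3 → F}, (∃ g ∈ Ex hF P H, g.1.1 *ᵥ x = y) → (∃ g ∈ Ex hF P H, g.1.1 *ᵥ y = z) →
      ∃ g ∈ Ex hF P H, g.1.1 *ᵥ x = z := by
    rintro x y z ⟨g, hg, rfl⟩ ⟨g', hg', rfl⟩
    exact ⟨g' * g, mul_mem hg' hg, mul_apply g' g x⟩
  have hw0 : w ≠ 0 := left_ne_zero_of_mul_eq_one hw
  -- vectors with product of trace one
  have near : ∀ {x y : Fin 3 → F}, x ≠ 0 → y ≠ 0 → Cfsg.hermForm 3 F q x x = Cfsg.hermForm 3 F q y y →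
      Cfsg.hermForm 3 F q x y ≠ 0 → ∃ g ∈ Ex hF P H, g.1.1 *ᵥ x = y := by
    intro x y hx hy e hxy
    set t := Cfsg.hermForm 3 F q x y
    have hzz : ∀ {x y : Fin 3 → F}, Cfsg.hermForm 3 F q x x = Cfsg.hermForm 3 F q y y →
        Cfsg.hermForm 3 F q (y - x) (y - x) = -(Cfsg.hermForm 3 F q x y + σ (Cfsg.hermForm 3 F q x y)) := by
      intro x y e
      rw [h_sub_left, h_sub_right hF, h_sub_right hF, ← e, h_swap hF x y]
      linear_combination (Cfsg.hermForm 3 F q x x) * h2
    by_cases htr : t + σ t = 0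
    swap
    · exact step hx hy e (by rw [hzz e]; exact neg_ne_zero.2 htr)
    have ht1 : t = 1 := fix_two hF hq (by linear_combination htr - t * h2) hxy
    refine comp (hscal w hw x) (step (smul_ne_zero hw0 hx) hy ?_ ?_)
    · rw [h_smul_left, h_smul_right hF, ← mul_assoc, hw, one_mul, e]
    · rw [hzz (by rw [h_smul_left, h_smul_right hF, ← mul_assoc, hw, one_mul, e]), h_smul_left,
        show Cfsg.hermForm 3 F q x y = 1 from ht1, mul_one, hws, neg_neg]
      exact one_ne_zero
  by_cases hxy : Cfsg.hermForm 3 F q x y ≠ 0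
  · exact near hx hy e hxy
  push Not at hxy
  set N := Cfsg.hermForm 3 F q x x with hN
  by_cases hN0 : N = 0
  · obtain ⟨r, hr⟩ : ∃ r : F, y = r • x := by
      by_contra hno
      push Not at hno
      have hli : LinearIndependent F ![x, y] := by
        rw [LinearIndependent.pair_iff' hx]
        exact fun a e1 => hno a e1.symm
      have := finrank_ti hF (Submodule.span F (Set.range ![x, y])) (fun u hu v hv => by
        rw [Matrix.range_cons_cons_empty, Submodule.mem_span_pair] at hu hv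
        obtain ⟨a1, b1, rfl⟩ := hu
        obtain ⟨a2, b2, rfl⟩ := hv
        simp [h_add_left, h_add_right hF, h_smul_left, h_smul_right hF, hxy, perp_symm hF hxy, ← hN, ← e, hN0])
      rw [finrank_span_eq_card hli, Fintype.card_fin] at this
      omega
    have hr0 : r ≠ 0 := fun e1 => hy (by rw [hr, e1, zero_smul])
    rw [hr]
    exact hscal r (fix_two hF hq (by rw [map_mul, frob_frob hF, mul_comm])
      (mul_ne_zero hr0 fun e1 => hr0 (eq_zero_of_frob hF e1))) x
  have hN1 : N = 1 := fix_two hF hq (by rw [hN, h_swap hF]) hN0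
  have hyy : Cfsg.hermForm 3 F q y y = 1 := by rw [← e, hN1]
  have hxx : Cfsg.hermForm 3 F q x x = 1 := hN1
  have hyx := perp_symm hF hxy
  obtain ⟨u, hu, huu⟩ := unit_perp hF ![x, y] ![x, y] (fun i => Submodule.subset_span ⟨i, rfl⟩)
    (fun i j => by fin_cases i <;> fin_cases j <;> simp [hxx, hyy, hxy, hyx]) (by omega)
  have hux : Cfsg.hermForm 3 F q u x = 0 := hu 0
  have huy : Cfsg.hermForm 3 F q u y = 0 := hu 1
  have hxu := perp_symm hF hux
  have hyu := perp_symm hF huy
  set z0 := w • x + w • y + u with hz0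
  have hz00 : Cfsg.hermForm 3 F q z0 z0 = 1 := by
    simp only [hz0, h_add_left, h_add_right hF, h_smul_left, h_smul_right hF, hxx, hyy, hxy, hyx, huu, hux, huy,
      hxu, hyu]
    linear_combination 2 * hw + h2
  have hz0ne : z0 ≠ 0 := fun e1 => by rw [e1, h_zero_left hF] at hz00; exact zero_ne_one hz00
  refine comp (near hx hz0ne (by rw [hz00, ← hN, hN1]) ?_) (near hz0ne hy (by rw [hz00, hyy]) ?_)
  · rw [hz0, h_add_right hF, h_add_right hF, h_smul_right hF, h_smul_right hF, hxx, hxy, hxu, mul_one, mul_zero,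
      add_zero, add_zero]
    exact fun e1 => hw0 (eq_zero_of_frob hF e1)
  · rw [hz0, h_add_left, h_add_left, h_smul_left, h_smul_left, hyy, hxy, huy, mul_one, mul_zero, zero_add, add_zero]
    exact hw0

end exact'

end CfsgLib.PsuMin
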