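import Mathlib
import Cfsg.Agent.Lib.PsuMin.Lift

/-! The index bound for proper subgroups of the isometries of determinant one. -/

set_option autoImplicit false

namespace CfsgLib.PsuMin

open Matrix CfsgLib.UnitaryTransvection Module CfsgLib.HermCount

variable {F : Type*} [Field F] [Fintype F] {q m : ℕ} (hF : Fintype.card F = q ^ 2)

local notation "σ" => frob hF
local notation "hm" => Cfsg.hermForm m F q
local notation "h2'" => Cfsg.hermForm 2 F q
local notation "hn" => Cfsg.hermForm (m + 2) F q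
local notation "Gb" => Cfsg.GU (m + 2) F q

variable (F q) in
/-- The bound to be proved. -/
def Big (n N : ℕ) : Prop := L0 F q n ≤ N * (q ^ 2 - 1) ∨ A1 F q n ≤ N * (q + 1)

include hF in
theorem span_iso (hm2 : 2 ≤ m) (x : Fin m → F) :
    x ∈ Submodule.span F {y : Fin m → F | y ≠ 0 ∧ hm y y = 0} := by
  classical
  obtain ⟨θ, hθ⟩ := exists_norm_eq hF (c := (-1 : F)) (by simp)
  obtain ⟨w, hw1, hw⟩ := exists_omega hF
  set S := Submodule.span F {y : Fin m → F | y ≠ 0 ∧ hm y y = 0}
  have key : ∀ i : Fin m, (Pi.single i 1 : Fin m → F) ∈ S := by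
    intro i
    obtain ⟨j, hij⟩ : ∃ j : Fin m, i ≠ j := by
      haveI : Nontrivial (Fin m) := Fin.nontrivial_iff_two_le.2 hm2
      exact (exists_ne i).imp fun j h => h.symm
    have hv : ∀ t : F, t * σ t = -1 → (Pi.single i 1 + t • Pi.single j 1 : Fin m → F) ∈ S := by
      intro t ht
      refine Submodule.subset_span ⟨fun e => by simpa [hij] using congrFun e i, ?_⟩
      simp [h_add_left, h_add_right hF, h_smul_left, h_smul_right hF, UnitaryOrder.herm_single_right hF,
        Pi.single_apply, hij, hij.symm]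
      linear_combination ht
    have h2 := S.sub_mem (S.smul_mem w (hv θ hθ)) (hv (w * θ) (by rw [map_mul]; linear_combination (w * σ w) * hθ - hw))
    rw [show w • (Pi.single i 1 + θ • Pi.single j 1 : Fin m → F) - (Pi.single i 1 + (w * θ) • Pi.single j 1) =
      (w - 1) • (Pi.single i 1 : Fin m → F) by module] at h2
    exact (S.smul_mem_iff (sub_ne_zero.2 hw1)).1 h2
  rw [show x = ∑ i, x i • (Pi.single i 1 : Fin m → F) by
    funext k; simp [Finset.sum_apply, Pi.single_apply]]
  exact S.sum_mem fun i _ => S.smul_mem _ (key i)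

include hF in
theorem eq_zero_of_iso (hm2 : 2 ≤ m) {x : Fin m → F} (hx : ∀ y, y ≠ 0 → hm y y = 0 → hm x y = 0) : x = 0 := by
  refine h_nondeg hF fun y => ?_
  refine Submodule.span_induction (p := fun z _ => hm x z = 0) (fun z hz => hx z hz.1 hz.2) (h_zero_right hF x)
    (fun u v _ _ e1 e2 => by rw [h_add_right hF, e1, e2, add_zero])
    (fun c u _ e1 => by rw [h_smul_right hF, e1, mul_zero]) (span_iso hF hm2 y)

variable (P : HPair F q)

include hF in
theorem emb_inc (g : Cfsg.GU m F q) (a : Fin m → F) :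
    (emb hF P 1 g).1.1 *ᵥ inc a = inc (g.1.1 *ᵥ a) := blk_inc hF g _ a

include hF in
theorem emb_root {a : Fin m → F} {c : F} (ha : hm a a = 0) (hc : c ∈ skew hF) :
    emb hF P 1 (root hF a c) = root hF (inc a) c := by rw [emb, tor_one, blk_root hF ha hc]

include hF in
theorem emb_rest (g : Cfsg.GU m F q) (x : Fin (m + 2) → F) :
    pr ((emb hF P 1 g).1.1 *ᵥ x) = g.1.1 *ᵥ pr x ∧ lo ((emb hF P 1 g).1.1 *ᵥ x) = lo x := by
  rw [emb, tor_one]
  exact ⟨blk_pr hF g _ x, by rw [blk_lo, one_apply]⟩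

variable (H : Subgroup (Cfsg.GU (m + 2) F q))

set_option maxHeartbeats 400000 in
include hF in
/-- The case of an exactly lifting transitive Levi image. -/
theorem big_of_exact (hm3 : 3 ≤ m) (hH : H ≤ det1 F q (m + 2)) (hprop : ¬ det1 F q (m + 2) ≤ H)
    (hroot : ∀ a : Fin m → F, hm a a = 0 → ∀ c ∈ skew hF, root hF a c ∈ Ex hF P H)
    (htrans : ∀ x y : Fin m → F, x ≠ 0 → y ≠ 0 → hm x x = hm y y → ∃ g ∈ Ex hF P H, g.1.1 *ᵥ x = y) :
    Big F q (m + 2) (H.relIndex (det1 F q (m + 2))) := by
  classical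
  set n := H.relIndex (det1 F q (m + 2))
  have hq := two_le_q hF
  let R : Set (Fin (m + 2) → F) := {x | Rt hF H x}
  have hlow : ∀ a : Fin m → F, a ≠ 0 → hm a a = 0 → inc a ∈ R := fun a ha0 ha =>
    ⟨fun e => ha0 (by rw [← pr_inc (s := 2) a, e, pr_zero]), by rw [h_inc hF, ha], fun c hc => by
      rw [← emb_root hF P ha hc]; exact hroot a ha c hc⟩
  have hR : Closed hF R :=
    { iso := fun x hx => ⟨hx.1, hx.2.1⟩
      scal := fun x hx k hk => rt_smul hF hx hk
      low := hlow
      move := fun x hx r hr c hc => rt_move hF hx hr hc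
      trans := fun x hx hp b hb0 hb => by
        obtain ⟨g, hg, hgx⟩ := htrans _ _ hp hb0 hb.symm
        have := rt_map hF hx (show emb hF P 1 g ∈ H from hg)
        rwa [show (emb hF P 1 g).1.1 *ᵥ x = inc b + top (lo x) from ext2
          (by rw [(emb_rest hF P g x).1, hgx, pr_add, pr_inc, pr_top, add_zero])
          (by rw [(emb_rest hF P g x).2, lo_add, lo_inc, lo_top, zero_add])] at this }
  have hinv : ∀ g ∈ H, ∀ x ∈ R, g.1.1 *ᵥ x ∈ R := fun g hg x hx => rt_map hF hx hg
  obtain ⟨T, hT⟩ := exists_shadow hF hm3 hR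
  by_cases hfull : ∀ A, A ∈ T
  · refine absurd (eq_det1_of_roots hF (by omega) (fun e => by omega) fun x hx0 hx c hc => ?_) hprop
    exact (all_of_shadow hF (by omega) hR (fun A => (hT A).1 (hfull A)) x hx0 hx).2.2 c hc
  by_cases hbot : ∀ A ∈ T, A = 0
  · -- the plane of the last coordinates is invariant
    left
    have hmix : ∀ x ∈ R, pr x = 0 ∨ lo x = 0 := fun x hx => by
      by_cases hp : pr x = 0
      · exact Or.inl hp
      · exact Or.inr (hbot _ ((hT _).2 (shadow_of_mem hx hp)))
    have hlo : ∀ g ∈ H, ∀ y : Fin m → F, lo (g.1.1 *ᵥ inc y) = 0 := by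
      intro g hg
      let fl : (Fin m → F) →ₗ[F] (Fin 2 → F) :=
        { toFun := fun y => lo (g.1.1 *ᵥ inc y)
          map_add' := fun y z => by
            rw [← lo_add, ← mulVec_add]; congr 2
            exact ext2 (by rw [pr_add, pr_inc, pr_inc, pr_inc]) (by rw [lo_add, lo_inc, lo_inc, lo_inc, add_zero])
          map_smul' := fun c y => by
            show _ = c • lo (g.1.1 *ᵥ inc y)
            rw [← lo_smul, ← mulVec_smul]; congr 2
            exact ext2 (by rw [pr_smul, pr_inc, pr_inc]) (by rw [lo_smul, lo_inc, lo_inc, smul_zero]) }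
      let fp : (Fin m → F) →ₗ[F] (Fin m → F) :=
        { toFun := fun y => pr (g.1.1 *ᵥ inc y)
          map_add' := fun y z => by
            rw [← pr_add, ← mulVec_add]; congr 2
            exact ext2 (by rw [pr_add, pr_inc, pr_inc, pr_inc]) (by rw [lo_add, lo_inc, lo_inc, lo_inc, add_zero])
          map_smul' := fun c y => by
            show _ = c • pr (g.1.1 *ᵥ inc y)
            rw [← pr_smul, ← mulVec_smul]; congr 2
            exact ext2 (by rw [pr_smul, pr_inc, pr_inc]) (by rw [lo_smul, lo_inc, lo_inc, smul_zero]) }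
      have hinj : ∀ y, fp y = 0 → fl y = 0 → y = 0 := fun y e1 e2 => by
        have e : g.1.1 *ᵥ inc y = (0 : Fin (m + 2) → F) := ext2 (e1.trans pr_zero.symm) (e2.trans lo_zero.symm)
        by_contra hy
        exact mulVec_ne_zero g (fun e3 => hy (by rw [← pr_inc (s := 2) y, e3, pr_zero])) e
      have hiso : ∀ y, y ≠ 0 → hm y y = 0 → fl y = 0 := by
        by_contra hc
        push Not at hc
        obtain ⟨y2, hy2, hy2i, hy2l⟩ := hc
        have hp2 : fp y2 = 0 := (hmix _ (hinv g hg _ (hlow y2 hy2 hy2i))).resolve_right hy2l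
        have hall : ∀ y, y ≠ 0 → hm y y = 0 → fp y = 0 := by
          by_contra hc
          push Not at hc
          obtain ⟨y1, hy1, hy1i, hy1p⟩ := hc
          have hl1 : fl y1 = 0 := (hmix _ (hinv g hg _ (hlow y1 hy1 hy1i))).resolve_left hy1p
          have horth : hm y1 y2 = 0 := by
            rw [← h_inc hF (s := 2), ← gu_h g, h_split, show pr (g.1.1 *ᵥ inc y2) = 0 from hp2,
              show lo (g.1.1 *ᵥ inc y1) = 0 from hl1, h_zero_right hF, h_zero_left hF, add_zero]
          have hne : y1 + y2 ≠ 0 := fun e => hy1p (by rw [eq_neg_of_add_eq_zero_left e, map_neg, hp2, neg_zero])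
          have hsi : hm (y1 + y2) (y1 + y2) = 0 := by
            rw [h_add_left, h_add_right hF, h_add_right hF, hy1i, hy2i, horth, perp_symm hF horth]; ring
          rcases hmix _ (hinv g hg _ (hlow _ hne hsi)) with e | e
          · exact hy1p (by
              have : fp (y1 + y2) = 0 := e
              rwa [map_add, hp2, add_zero] at this)
          · exact hy2l (by
              have : fl (y1 + y2) = 0 := e
              rwa [map_add, hl1, zero_add] at this)
        have hfp : fp = 0 := LinearMap.ext fun y => Submodule.span_induction (p := fun z _ => fp z = 0)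
          (fun z hz => hall z hz.1 hz.2) (map_zero fp) (fun u v _ _ e1 e2 => by rw [map_add, e1, e2, add_zero])
          (fun c u _ e1 => by rw [map_smul, e1, smul_zero]) (span_iso hF (by omega) y)
        have hfl : Function.Injective fl := (injective_iff_map_eq_zero fl).2 fun y e =>
          hinj y (by rw [hfp]; rfl) e
        have := LinearMap.finrank_le_finrank_of_injective hfl
        rw [finrank_fintype_fun_eq_card, finrank_fintype_fun_eq_card, Fintype.card_fin, Fintype.card_fin] at this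
        omega
      exact fun y => Submodule.span_induction (p := fun z _ => fl z = 0) (fun z hz => hiso z hz.1 hz.2) (map_zero fl)
        (fun u v _ _ e1 e2 => by rw [map_add, e1, e2, add_zero])
        (fun c u _ e1 => by rw [map_smul, e1, smul_zero]) (span_iso hF (by omega) y)
    have hpr : ∀ g ∈ H, ∀ b : Fin 2 → F, pr (g.1.1 *ᵥ top b) = (0 : Fin m → F) := by
      intro g hg b
      refine h_nondeg hF fun y => ?_
      have e : inc y = g.1.1 *ᵥ inc (pr (g⁻¹.1.1 *ᵥ inc y)) := by
        conv_lhs => rw [← apply_inv_apply g (inc y), ← parts (g⁻¹.1.1 *ᵥ inc y), hlo _ (inv_mem hg) y,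
          show top (0 : Fin 2 → F) = (0 : Fin (m + 2) → F) from ext2 (pr_top _) (lo_top _), add_zero]
      have h0 : hn (g.1.1 *ᵥ top b) (inc y) = 0 := by
        rw [e, gu_h g, h_split, pr_top, lo_inc, h_zero_left hF, h_zero_right hF, add_zero]
      rwa [h_split, pr_inc, lo_inc, h_zero_right hF, add_zero] at h0
    let T2 : Set ((Fin (m + 2) → F) × (Fin (m + 2) → F)) :=
      {p | p ∈ SameGram (q := q) (vp P : Fin (m + 2) → F) (wp P) ∧ pr p.1 = 0 ∧ pr p.2 = 0}
    have hnd : NdPair (q := q) (vp P : Fin (m + 2) → F) (wp P) := by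
      rw [NdPair, vp_iso hF P, vp_wp hF P, h_top hF P.w P.v, P.wv hF]; simp
    have h1 := OmegaMin.card_le_relIndex_mul
      (fun (g : Gb) p => ((g.1.1 *ᵥ p.1, g.1.1 *ᵥ p.2) : (Fin (m + 2) → F) × (Fin (m + 2) → F)))
      _ H hH (vp P, wp P) (fun g _ g' _ => Prod.ext (mul_apply g g' _) (mul_apply g g' _))
      (SameGram (q := q) (vp P : Fin (m + 2) → F) (wp P)) T2
      (fun g hg => ⟨⟨gu_h g _ _, gu_h g _ _, gu_h g _ _⟩, hpr g hg _, hpr g hg _⟩)
      (fun p hp => by
        obtain ⟨g, hg, e1, e2⟩ := trans_pair hF (show 3 ≤ m + 2 by omega) hnd hp.1 hp.2.1 hp.2.2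
        exact ⟨g, hg, Prod.ext e1 e2⟩)
    have h2 : T2.ncard ≤ L0 F q 2 * q ^ 2 := by
      have hL : L0 F q 2 = Nat.card {a : Fin 2 → F | a ≠ 0 ∧ h2' a a = 0} := (Nat.card_coe_set_eq _).symm
      rw [hL, ← hF, ← Nat.card_eq_fintype_card, ← Nat.card_prod, ← Nat.card_coe_set_eq]
      have hpr0 : ∀ {u v : Fin (m + 2) → F}, pr u = 0 → hn u v = h2' (lo u) (lo v) := fun {u v} hu => by
        rw [h_split, hu, h_zero_left hF, zero_add]
      have hmem : ∀ p : T2, lo p.1.1 ≠ 0 ∧ h2' (lo p.1.1) (lo p.1.1) = 0 := fun p => by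
        refine ⟨fun e => ?_, ?_⟩
        · have e1 := p.2.1.2.1
          rw [hpr0 p.2.2.1, e, h_zero_left hF, vp_wp hF P] at e1
          exact zero_ne_one e1
        · rw [← hpr0 p.2.2.1, p.2.1.1, vp_iso hF P]
      choose Y hY using fun a : {a : Fin 2 → F | a ≠ 0 ∧ h2' a a = 0} => exists_iso_partner hF a.2.1 a.2.2
      refine Nat.card_le_card_of_injective (fun p : T2 => ((⟨lo p.1.1, hmem p⟩ :
        {a : Fin 2 → F | a ≠ 0 ∧ h2' a a = 0}), h2' (lo p.1.2) (Y ⟨lo p.1.1, hmem p⟩))) ?_
      rintro ⟨⟨x, y⟩, hp⟩ ⟨⟨x', y'⟩, hp'⟩ e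
      simp only [Prod.mk.injEq, Subtype.mk.injEq] at e
      obtain ⟨ex, ey⟩ := e
      have hxx : x = x' := ext2 (hp.2.1.trans hp'.2.1.symm) ex
      subst hxx
      set a : {a : Fin 2 → F | a ≠ 0 ∧ h2' a a = 0} := ⟨lo x, hmem ⟨(x, y), hp⟩⟩
      let Q : HPair F q := ⟨lo x, Y a, a.2.2, (hY a).1, (hY a).2.1⟩
      have hyx : ∀ {u : Fin (m + 2) → F}, (x, u) ∈ T2 → h2' (lo u) (lo x) = 1 := fun {u} hu => by
        rw [← hpr0 hu.2.2]
        exact (h_swap hF x u).symm.trans (by rw [hu.1.2.1, vp_wp hF P, map_one])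
      have : lo y = lo y' := by
        rw [Q.dec hF (lo y), Q.dec hF (lo y'), show h2' (lo y) Q.v = 1 from hyx hp, show h2' (lo y') Q.v = 1 from hyx hp',
          show h2' (lo y) Q.w = h2' (lo y') Q.w from ey]
      have hy : y = y' := ext2 (hp.2.2.trans hp'.2.2.symm) this
      subst hy
      rfl
    have h3 := ((pair_count hF (m := m + 1) hnd).trans h1).trans (Nat.mul_le_mul_left _ h2)
    obtain ⟨-, -, -, vL2, -⟩ := values3 hF
    rw [vL2] at h3
    have e : A1 F q (m + 1 + 1) * A1 F q (m + 1) = q ^ (2 * m + 1) * L0 F q (m + 1 + 1) := by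
      zify
      rw [A1_eq hF, A1_eq hF, L0_eq hF, pow_succ (-1 : ℤ) (m + 1)]
      ring
    rw [e] at h3
    have hp : (q + 1) * q ^ 2 ≤ q ^ (2 * m + 1) := by
      calc (q + 1) * q ^ 2 ≤ q ^ 2 * q ^ 2 := Nat.mul_le_mul_right _ (by
            have : 2 * q ≤ q ^ 2 := by rw [pow_two]; exact Nat.mul_le_mul_right _ hq
            omega)
        _ = q ^ 4 := by ring
        _ ≤ _ := Nat.pow_le_pow_right (by omega) (by omega)
    refine Nat.le_of_mul_le_mul_left ?_ (show 0 < q ^ (2 * m + 1) from Nat.pow_pos (by omega))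
    calc _ ≤ n * ((q ^ 2 - 1) * (q + 1) * q ^ 2) := h3
      _ = n * (q ^ 2 - 1) * ((q + 1) * q ^ 2) := by ring
      _ ≤ n * (q ^ 2 - 1) * q ^ (2 * m + 1) := Nat.mul_le_mul_left _ hp
      _ = _ := by ring
  -- the shadow is a line
  push Not at hbot
  obtain ⟨A, hA, hA0⟩ := hbot
  obtain ⟨y, hy, hyp, hyA⟩ := ((hT A).1 hA).resolve_left hA0
  set E : Fin 2 → F := ![-(σ (A 1)), σ (A 0)] with hE
  have hEA : h2' E A = 0 := by
    simp [Cfsg.hermForm, hE, Fin.sum_univ_two, ← frob_apply hF]
    ring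
  have hE0 : E ≠ 0 := fun e => hA0 (funext fun i => by
    have e0 := congrFun e 0
    have e1 := congrFun e 1
    simp [hE] at e0 e1
    fin_cases i
    · simpa using e1
    · simpa using e0)
  have hperp : ∀ B, h2' B A = 0 → ∃ l : F, B = l • E := by
    intro B hB
    by_contra hno
    push Not at hno
    have hli : LinearIndependent F ![E, B] := by
      rw [LinearIndependent.pair_iff' hE0]
      exact fun a e => hno a e.symm
    have htop := hli.span_eq_top_of_card_eq_finrank (by simp)
    refine hA0 (h_nondeg hF fun z => perp_symm hF ?_)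
    have hz : z ∈ Submodule.span F (Set.range ![E, B]) := htop ▸ Submodule.mem_top
    rw [Matrix.range_cons_cons_empty, Submodule.mem_span_pair] at hz
    obtain ⟨a, b, rfl⟩ := hz
    rw [h_add_left, h_smul_left, h_smul_left, hEA, hB, mul_zero, mul_zero, add_zero]
  have hTline : ∀ B ∈ T, h2' E B = 0 := by
    intro B hB
    by_contra hne
    refine hfull fun C => ?_
    have hli : LinearIndependent F ![A, B] := by
      rw [LinearIndependent.pair_iff' hA0]
      intro a e
      exact hne (by rw [← e, h_smul_right hF, hEA, mul_zero])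
    have htop := hli.span_eq_top_of_card_eq_finrank (by simp)
    have hC : C ∈ Submodule.span F (Set.range ![A, B]) := htop ▸ Submodule.mem_top
    refine (Submodule.span_le.2 ?_) hC
    rintro _ ⟨i, rfl⟩
    fin_cases i
    exacts [hA, hB]
  have hR0 : ∀ r ∈ R, hn (top E) r = 0 := by
    intro r hr
    rw [h_split, pr_top, lo_top, h_zero_left hF, zero_add]
    by_cases hp : pr r = 0
    swap
    · exact hTline _ ((hT _).2 (shadow_of_mem hr hp))
    have hrr := hr.2.1
    rw [h_split, hp, h_zero_left hF, zero_add] at hrr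
    by_cases hAB : h2' A (lo r) = 0
    · obtain ⟨l, hl⟩ := hperp (lo r) (perp_symm hF hAB)
      have hl0 : l ≠ 0 := fun e => hr.1 (ext2 (hp.trans pr_zero.symm) (by rw [hl, e, zero_smul, lo_zero]))
      rw [hl, h_smul_left, h_smul_right hF, ← mul_assoc] at hrr
      rw [hl, h_smul_right hF,
        (mul_eq_zero.1 hrr).resolve_left (mul_ne_zero hl0 fun e => hl0 (eq_zero_of_frob hF e)), mul_zero]
    obtain ⟨c, hc0, hc⟩ := exists_skew hF
    have hz := hR.move y hy r hr c hc
    have hl : lo (y + (c * hn y r) • r) = A + (c * h2' A (lo r)) • lo r := by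
      rw [lo_add, lo_smul, h_split, hp, h_zero_right hF, zero_add, hyA]
    have hzp : pr (y + (c * hn y r) • r) ≠ 0 := by rw [pr_add, pr_smul, hp, smul_zero, add_zero]; exact hyp
    have h1 := hTline _ ((hT _).2 (shadow_of_mem hz hzp))
    rw [hl, h_add_right hF, hEA, zero_add, h_smul_right hF] at h1
    exact (mul_eq_zero.1 h1).resolve_left fun e => mul_ne_zero hc0 hAB (eq_zero_of_frob hF e)
  have hfix : ∀ g ∈ H, ∃ l : F, g.1.1 *ᵥ top E = l • (top E : Fin (m + 2) → F) := by
    intro g hg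
    set x := g.1.1 *ᵥ (top E : Fin (m + 2) → F)
    have hx : ∀ r ∈ R, hn x r = 0 := fun r hr => by
      rw [← apply_inv_apply g r, gu_h g]; exact hR0 _ (hinv _ (inv_mem hg) r hr)
    have hxp : pr x = 0 := eq_zero_of_iso hF (by omega) fun a ha0 ha => by
      have := hx _ (hlow a ha0 ha)
      rwa [h_split, pr_inc, lo_inc, h_zero_right hF, add_zero] at this
    have hxA : h2' (lo x) A = 0 := by
      have := hx y hy
      rwa [h_split, hxp, h_zero_left hF, zero_add, hyA] at this
    obtain ⟨l, hl⟩ := hperp _ hxA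
    exact ⟨l, ext2 (by rw [hxp, pr_smul, pr_top, smul_zero]) (by rw [hl, lo_smul, lo_top])⟩
  have hE0' : (top E : Fin (m + 2) → F) ≠ 0 := fun e => hE0 (by rw [← lo_top (m := m) E, e, lo_zero])
  by_cases hEE : hn (top E) (top E) = 0
  · left
    let A' : Set (Fin (m + 2) → F) := {x | x ≠ 0 ∧ ∃ l : F, x = l • (top E : Fin (m + 2) → F)}
    have h := orbit_vec hF (show 3 ≤ m + 2 by omega) H hH hE0' A' fun g hg => ⟨mulVec_ne_zero g hE0', hfix g hg⟩
    rw [hEE] at h
    refine h.trans (Nat.mul_le_mul_left _ ?_)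
    have hq1 : q ^ 2 - 1 = Nat.card Fˣ := by rw [Nat.card_units, Nat.card_eq_fintype_card, hF]
    rw [hq1, ← Nat.card_coe_set_eq]
    choose l hl using fun x : A' => x.2.2
    exact Nat.card_le_card_of_injective
      (fun x => Units.mk0 (l x) (fun e => x.2.1 (by rw [hl x, e, zero_smul])))
      fun x y e => Subtype.ext (by rw [hl x, hl y, show l x = l y from congrArg Units.val e])
  · right
    have h := orbit_vec hF (show 3 ≤ m + 2 by omega) H hH hE0'
      {x | hn x x = hn (top E) (top E) ∧ ∃ l : F, x = l • (top E : Fin (m + 2) → F)}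
      fun g hg => ⟨gu_h g _ _, hfix g hg⟩
    rw [ncard_nonzero_level hF hEE, card_level hF hEE (h_swap hF _ _)] at h
    exact h.trans (Nat.mul_le_mul_left _ (card_line_level hF hEE _ fun x hx => hx))

end CfsgLib.PsuMin
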