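import Mathlib
import Cfsg.Agent.Lib.PsuMin.Levi

/-! Reduction to the exactly lifting case. -/

set_option autoImplicit false

namespace CfsgLib.PsuMin

open Matrix CfsgLib.UnitaryTransvection Module CfsgLib.HermCount

variable {F : Type*} [Field F] [Fintype F] {q m : ℕ} (hF : Fintype.card F = q ^ 2)

local notation "σ" => frob hF

/-- Conjugating inside a normal subgroup keeps the relative index. -/
theorem relIndex_conj {G : Type*} [Group G] (H D : Subgroup G) [D.Normal] (g : G) :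
    (H.comap (MulAut.conj g).toMonoidHom).relIndex D = H.relIndex D := by
  rw [Subgroup.relIndex_comap]
  congr 1
  ext x
  simp only [Subgroup.mem_map, MulEquiv.coe_toMonoidHom, MulAut.conj_apply]
  constructor
  · rintro ⟨y, hy, rfl⟩; exact Subgroup.Normal.conj_mem inferInstance y hy g
  · intro hx
    exact ⟨g⁻¹ * x * g, by simpa using Subgroup.Normal.conj_mem (H := D) inferInstance x hx g⁻¹, by group⟩

instance det1_normal (n : ℕ) : (det1 F q n).Normal := MonoidHom.normal_ker _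

theorem mem_conj {G : Type*} [Group G] (H : Subgroup G) (g x : G) :
    x ∈ H.comap (MulAut.conj g).toMonoidHom ↔ g * x * g⁻¹ ∈ H := Iff.rfl

theorem conj_le {G : Type*} [Group G] {H D : Subgroup G} [D.Normal] (hH : H ≤ D) (g : G) :
    H.comap (MulAut.conj g).toMonoidHom ≤ D := fun x hx => by
  have := Subgroup.Normal.conj_mem (H := D) inferInstance _ (hH hx) g⁻¹
  simpa [mul_assoc] using this

include hF in
theorem big_of_large {n : ℕ} (hm3 : 3 ≤ m) (h : 2 * q ^ (2 * m + 1) ≤ n) : Big F q (m + 2) n := by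
  left
  have hq := two_le_q hF
  refine (L0_le hF (m + 1)).trans (le_trans ?_ (Nat.mul_le_mul_right _ h))
  have p2 : 4 ≤ q ^ 2 := Nat.pow_le_pow_left hq 2
  have a1 : 16 ≤ q ^ (m + 1) := le_trans (Nat.pow_le_pow_left hq 4) (Nat.pow_le_pow_right (by omega) (by omega))
  have a2 : 32 ≤ q ^ (m + 2) := le_trans (Nat.pow_le_pow_left hq 5) (Nat.pow_le_pow_right (by omega) (by omega))
  have b1 : 16 * (q ^ (m + 1) + 1) ≤ 17 * q ^ (m + 1) := by omega
  have b2 : 32 * (q ^ (m + 2) + 1) ≤ 33 * q ^ (m + 2) := by omega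
  have b3 : 3 * q ^ 2 ≤ 4 * (q ^ 2 - 1) := by omega
  refine Nat.le_of_mul_le_mul_left ?_ (show 0 < 512 by norm_num)
  calc 512 * ((q ^ (m + 1 + 1) + 1) * (q ^ (m + 1) + 1))
      = (32 * (q ^ (m + 2) + 1)) * (16 * (q ^ (m + 1) + 1)) := by ring
    _ ≤ (33 * q ^ (m + 2)) * (17 * q ^ (m + 1)) := Nat.mul_le_mul b2 b1
    _ = 561 * (q ^ (2 * m + 1) * q ^ 2) := by ring
    _ ≤ 768 * (q ^ (2 * m + 1) * q ^ 2) := Nat.mul_le_mul_right _ (by norm_num)
    _ = 256 * (q ^ (2 * m + 1) * (3 * q ^ 2)) := by ring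
    _ ≤ 256 * (q ^ (2 * m + 1) * (4 * (q ^ 2 - 1))) := Nat.mul_le_mul_left _ (Nat.mul_le_mul_left _ b3)
    _ = _ := by ring

section cases

variable (P : HPair F q) (H : Subgroup (Cfsg.GU (m + 2) F q))

include hF in
/-- Either the bound holds, or there are no translations and the Levi image is full. -/
theorem free_case (hm3 : 3 ≤ m) (hH : H ≤ det1 F q (m + 2)) (hfree : Free hF P H) :
    Big F q (m + 2) (H.relIndex (det1 F q (m + 2))) ∨
      (∀ a ∈ Wh hF P H, a = 0) ∧ det1 F q m ≤ Kh hF P H := by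
  have hq := two_le_q hF
  have hmain := main_free hF P H (by omega) hH hfree
  set k := (Kh hF P H).relIndex (det1 F q m)
  set n := H.relIndex (det1 F q (m + 2))
  by_cases hW : ∀ a ∈ Wh hF P H, a = 0
  · have hk1 : 1 ≤ k := OmegaMin.relIndex_pos _ _
    by_cases hk : k = 1
    · exact Or.inr ⟨hW, Subgroup.relIndex_eq_one.1 hk⟩
    refine Or.inl (big_of_large hF hm3 ?_)
    haveI : Subsingleton (Wh hF P H) :=
      ⟨fun a b => Subtype.ext ((hW _ a.2).trans (hW _ b.2).symm)⟩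
    rw [Nat.card_of_subsingleton (0 : Wh hF P H), mul_one] at hmain
    exact le_trans (Nat.mul_le_mul_right _ (by omega : 2 ≤ k)) hmain
  push Not at hW
  obtain ⟨w, hw, hw0⟩ := hW
  obtain ⟨ψ, hψ, x0, hx0, hψ0⟩ := free_char hF P H hfree
  have key : L0 F q (m + 2) * Nat.card (Wh hF P H) ≤ k * (q ^ 2 - 1) * q ^ (2 * m + 1) := by
    rcases Nat.lt_or_ge 3 m with h4 | h4
    · exact w_bound4 hF h4 _ (kh_det hF P H hH) _ ⟨w, hw, hw0⟩ (fun g hg x hx => kh_inv hF P H hH hg hx) hx0 hψ0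
        fun a ha b hb => hψ _ (bracket hF P H ha hb)
    · obtain rfl : m = 3 := by omega
      exact w_bound3 hF _ (kh_det hF P H hH) _ ⟨w, hw, hw0⟩ (fun g hg x hx => kh_inv hF P H hH hg hx) hx0 hψ0
        fun a ha b hb => hψ _ (bracket hF P H ha hb)
  refine Or.inl (Or.inl (Nat.le_of_mul_le_mul_right ?_ (Nat.card_pos (α := Wh hF P H))))
  calc _ ≤ k * (q ^ 2 - 1) * q ^ (2 * m + 1) := key
    _ = k * q ^ (2 * m + 1) * (q ^ 2 - 1) := by ring
    _ ≤ n * Nat.card (Wh hF P H) * (q ^ 2 - 1) := Nat.mul_le_mul_right _ hmain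
    _ = _ := by ring

include hF in
/-- A conjugate in which a given element has a lift with trivial translation part. -/
theorem exists_centred (hH : H ≤ det1 F q (m + 2)) (hfree : Free hF P H) {e : Cfsg.GU m F q}
    (he : e ∈ Kh hF P H) (hfe : ∀ x : Fin m → F, e.1.1 *ᵥ x = x → x = 0) :
    ∃ H' : Subgroup (Cfsg.GU (m + 2) F q), H' ≤ det1 F q (m + 2) ∧ Free hF P H' ∧
      H'.relIndex (det1 F q (m + 2)) = H.relIndex (det1 F q (m + 2)) ∧ e ∈ Dz hF P H' := by
  obtain ⟨a, s, hs, hy⟩ := (mem_Kh hF P H hH).1 he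
  -- solve `e⁻¹ b - b = a`
  obtain ⟨b, hb⟩ : ∃ b : Fin m → F, e⁻¹.1.1 *ᵥ b - b = a := by
    let φ : (Fin m → F) →ₗ[F] (Fin m → F) := e⁻¹.1.1.mulVecLin - LinearMap.id
    have hinj : Function.Injective φ := (injective_iff_map_eq_zero φ).2 fun x hx => hfe x (by
      have e1 : e⁻¹.1.1 *ᵥ x = x := sub_eq_zero.1 hx
      conv_lhs => rw [← e1, apply_inv_apply])
    exact (LinearMap.injective_iff_surjective.1 hinj) a
  obtain ⟨r, hr⟩ := WittExtension.exists_trace (frob_ne_id hF) (frob_frob hF)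
    (c := -(Cfsg.hermForm m F q b b)) (by rw [map_neg, h_swap hF])
  have hrb : Ok hF b r := by unfold Ok; linear_combination hr
  set u := uel hF P b r
  set H' := H.comap (MulAut.conj u).toMonoidHom
  refine ⟨H', conj_le hH u, ?_, relIndex_conj H _ u, ?_⟩
  · obtain ⟨c, hc, hcZ⟩ := hfree
    refine ⟨c, hc, fun hcZ' => hcZ ⟨hc, ?_⟩⟩
    have h := (mem_conj H u _).1 hcZ'.2
    rwa [root_conj hF u (vp_iso hF P) hc, uel_vp hF P hrb] at h
  · have hconj : u * (u⁻¹ * (emb hF P 1 e * uel hF P a s) * u) * u⁻¹ ∈ H := by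
      simpa [mul_assoc] using hy
    have h' : u⁻¹ * (emb hF P 1 e * uel hF P a s) * u ∈ H' := (mem_conj H u _).2 hconj
    have o1 := ok_neg hF hrb
    have o2 : Ok hF (e⁻¹.1.1 *ᵥ (-b)) (σ r) := by
      have := o1
      unfold Ok at this ⊢
      rw [gu_h e⁻¹]
      exact this
    have k1 : u⁻¹ * emb hF P 1 e = emb hF P 1 e * uel hF P (e⁻¹.1.1 *ᵥ (-b)) (σ r) := by
      have := emb_conj hF P o1 (1 : Fˣ) e⁻¹
      simp only [Units.val_one, map_one, one_smul, one_mul] at this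
      rw [← this, emb_inv, inv_one, inv_inv, ← mul_assoc, ← mul_assoc, emb_mul, mul_one, mul_inv_cancel, emb_one,
        one_mul, uel_inv hF P hrb]
    rw [← mul_assoc, k1, mul_assoc, mul_assoc, uel_mul hF P hs hrb, uel_mul hF P o2 (ok_add hF hs hrb)] at h'
    have o3 := ok_add hF o2 (ok_add hF hs hrb)
    have e0 : e⁻¹.1.1 *ᵥ (-b) + (a + b) = 0 := by rw [mulVec_neg, ← hb]; abel
    rw [e0] at h'
    rw [e0] at o3
    have ht : σ r + (s + r - Cfsg.hermForm m F q b a) -
        Cfsg.hermForm m F q (a + b) (e⁻¹.1.1 *ᵥ (-b)) ∈ skew hF := by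
      unfold Ok at o3
      rwa [h_zero_left hF, zero_add] at o3
    exact ⟨_, ht, by rwa [uel_zero hF P ht] at h'⟩

end cases

section param

variable {b s : ℕ}

include hF in
/-- The bound with a free point, given the shape of a fixed point free diagonal element. -/
theorem big_free (P : HPair F q) (H : Subgroup (Cfsg.GU (b + s + 2) F q)) (hb2 : 2 ≤ b)
    (hs : s = 1 ∨ s = 2 ∧ 3 ≤ b) (hH : H ≤ det1 F q (b + s + 2)) (hprop : ¬ det1 F q (b + s + 2) ≤ H)
    (hfree : Free hF P H) {d : Fin (b + s) → F} (hd : ∀ i, d i * σ (d i) = 1) (hd1 : ∀ i, d i ≠ 1)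
    {α β : F} (hα : ∀ i : Fin s, d (Fin.natAdd b i) = α) (hβ : ∀ i : Fin b, d (Fin.castAdd s i) = β)
    (hdet : ∏ i, d i = 1) (hscal : b + s = 3 → q = 2 → α = β) :
    Big F q (b + s + 2) (H.relIndex (det1 F q (b + s + 2))) := by
  have hm3 : 3 ≤ b + s := by omega
  have hq := two_le_q hF
  rcases free_case hF P H hm3 hH hfree with h | ⟨-, hK⟩
  · exact h
  obtain ⟨H', hH', hfree', hidx, he⟩ := exists_centred hF P H hH hfree
    (hK (mem_det1.2 ((dg_det hF d hd).trans hdet))) fun x hx => dg_free hF d hd hd1 hx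
  rw [← hidx]
  have hprop' : ¬ det1 F q (b + s + 2) ≤ H' := fun h => hprop (Subgroup.relIndex_eq_one.1
    (hidx ▸ Subgroup.relIndex_eq_one.2 h))
  rcases free_case hF P H' hm3 hH' hfree' with h | ⟨hW', hK'⟩
  · exact h
  have hD := dz_all hF P H' hH' hW' hK' hb2 hs hd hd1 hα hβ hdet hscal he
  by_cases h32 : b + s = 3 ∧ q = 2 ∧ Nat.card (Sc hF P H') ≤ 1
  · obtain ⟨hm, rfl, hsc⟩ := h32
    left
    have h := main_ineq hF P H' (by omega) hH'
    haveI : Subsingleton (Wh hF P H') :=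
      ⟨fun a c => Subtype.ext ((hW' _ a.2).trans (hW' _ c.2).symm)⟩
    rw [Nat.card_of_subsingleton (0 : Wh hF P H'), mul_one] at h
    have hz : Nat.card (Zh hF P H') ≤ 2 := (AddSubgroup.card_le_of_le (zh_le hF P H')).trans (card_skew hF).le
    have hk : 1 ≤ (Kh hF P H').relIndex (det1 F 2 (b + s)) := OmegaMin.relIndex_pos _ _
    have h7 : 384 ≤ H'.relIndex (det1 F 2 (b + s + 2)) * 2 := by
      calc 384 = (2 ^ 2 - 1) * 1 * (2 ^ (2 * 3) * 2) := by norm_num
        _ ≤ (2 ^ 2 - 1) * (Kh hF P H').relIndex (det1 F 2 (b + s)) * (2 ^ (2 * (b + s)) * 2) := by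
            rw [show 2 ^ (2 * (b + s)) = 2 ^ (2 * 3) by rw [hm]]; exact Nat.mul_le_mul_right _ (Nat.mul_le_mul_left _ hk)
        _ ≤ _ := h
        _ ≤ H'.relIndex (det1 F 2 (b + s + 2)) * (1 * 2) := Nat.mul_le_mul_left _ (Nat.mul_le_mul hsc hz)
        _ = _ := by rw [one_mul]
    obtain ⟨-, -, -, -, vL5⟩ := values3 hF
    have e5 : L0 F 2 (b + s + 2) = 495 := by rw [show b + s + 2 = 5 by omega, vL5]; norm_num
    rw [e5]
    norm_num
    omega
  refine big_of_exact hF P H' hm3 hH' hprop' (fun a ha c hc => ex_root hF P H' hm3 hD ha hc)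
    fun x y hx hy e => ex_trans hF P H' hm3 hD (fun hm hq2 w hw => ?_) hx hy e
  have hsc : ¬ Nat.card (Sc hF P H') ≤ 1 := fun h => h32 ⟨hm, hq2, h⟩
  have htop : Sc hF P H' = ⊤ := by
    refine Subgroup.eq_top_of_card_eq _ ?_
    have hu : Nat.card Fˣ = 3 := by rw [Nat.card_units, Nat.card_eq_fintype_card, hF, hq2]; norm_num
    have hdvd : Nat.card (Sc hF P H') ∣ 3 := hu ▸ Subgroup.card_subgroup_dvd_card _
    rw [hu]
    rcases (Nat.dvd_prime Nat.prime_three).1 hdvd with e | e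
    · omega
    · exact e
  have hw0 : w ≠ 0 := left_ne_zero_of_mul_eq_one hw
  obtain ⟨⟨l, k⟩, hlk, hl⟩ : (Units.mk0 w hw0) ∈ Sc hF P H' := htop ▸ Subgroup.mem_top _
  obtain ⟨a, t, ht, hlk'⟩ := (mem_Rg hF P H' hH').1 hlk
  have hlw : (l : F) = w := congrArg Units.val (show l = Units.mk0 w hw0 from hl)
  refine ⟨l, k, lift_comm hF P H' hW' he (fun x hx => dg_free hF d hd hd1 hx) ?_ ht hlk', ?_⟩
  · refine gu_ext fun x => ?_
    have hall : ∀ i, d i = β := fun i => Fin.addCases hβ (fun j => (hα j).trans (hscal hm hq2)) i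
    have hsm : ∀ x : Fin (b + s) → F, (dg hF d hd).1.1 *ᵥ x = β • x := fun x => funext fun i => by
      rw [dg_apply, hall, Pi.smul_apply, smul_eq_mul]
    rw [mul_apply, mul_apply, hsm, hsm, mulVec_smul]
  · have h1 := mem_det1.1 (mul_mem (hH' hlk') (inv_mem (uel_mem hF P ht)))
    rw [mul_inv_cancel_right, emb_det, hlw] at h1
    have hsw : σ w = w * w := by rw [frob_apply hF, hq2, pow_two]
    rw [hsw] at h1 hw
    field_simp at h1
    linear_combination h1

end param

include hF in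
/-- The bound for a proper subgroup. -/
theorem big_proper (hm3 : 3 ≤ m) (hex : ¬ (m = 4 ∧ q = 2)) (H : Subgroup (Cfsg.GU (m + 2) F q))
    (hH : H ≤ det1 F q (m + 2)) (hprop : ¬ det1 F q (m + 2) ≤ H) :
    Big F q (m + 2) (H.relIndex (det1 F q (m + 2))) := by
  have hq := two_le_q hF
  obtain ⟨P⟩ := exists_hpair hF
  -- move to a free point
  obtain ⟨x, hx0, hx, c, hc, hcH⟩ : ∃ x : Fin (m + 2) → F, x ≠ 0 ∧ Cfsg.hermForm (m + 2) F q x x = 0 ∧
      ∃ c ∈ skew hF, root hF x c ∉ H := by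
    by_contra hno
    push Not at hno
    exact hprop (eq_det1_of_roots hF (by omega) (fun e => by omega) hno)
  obtain ⟨g, hg, hgx⟩ := trans_level hF (show 3 ≤ m + 2 by omega) (vp_ne hF P) hx0
    ((vp_iso hF P).trans hx.symm)
  set H1 := H.comap (MulAut.conj g).toMonoidHom
  have hfree : Free hF P H1 := ⟨c, hc, fun h => hcH (by
    have h' := (mem_conj H g _).1 h.2
    rwa [root_conj hF g (vp_iso hF P) hc, hgx] at h')⟩
  have hidx : H1.relIndex (det1 F q (m + 2)) = H.relIndex (det1 F q (m + 2)) := relIndex_conj H _ g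
  have hprop1 : ¬ det1 F q (m + 2) ≤ H1 := fun h => hprop (Subgroup.relIndex_eq_one.1
    (hidx ▸ Subgroup.relIndex_eq_one.2 h))
  have hH1 : H1 ≤ det1 F q (m + 2) := conj_le hH g
  rw [← hidx]
  clear_value H1
  clear hidx hcH hprop hH hgx hg hx hx0
  obtain ⟨ζ, hζ⟩ := UnitaryBasic.exists_zeta hF
  have hpow : ∀ j : ℕ, ((ζ : F) ^ j = 1 ↔ q + 1 ∣ j) := fun j => by
    rw [← hζ, orderOf_dvd_iff_pow_eq_one, ← Units.val_pow_eq_pow_val, Units.val_eq_one]
  have hn1 : (ζ : F) * σ (ζ : F) = 1 := by rw [frob_apply hF, ← pow_succ', hpow]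
  have hnj : ∀ j : ℕ, (ζ : F) ^ j * σ ((ζ : F) ^ j) = 1 := fun j => by rw [map_pow, ← mul_pow, hn1, one_pow]
  have hz1 : (ζ : F) ≠ 1 := fun e => by
    have := (hpow 1).1 (by rw [pow_one, e])
    have := Nat.le_of_dvd one_pos this
    omega
  by_cases hdiv : q + 1 ∣ m - 1
  · -- two coordinates apart
    have hm4 : 4 ≤ m := by
      by_contra h
      have := Nat.le_of_dvd (by omega) hdiv
      omega
    have hm5 : 5 ≤ m := by
      by_contra h
      have := Nat.le_of_dvd (by omega) hdiv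
      exact hex ⟨by omega, by omega⟩
    obtain ⟨b, rfl⟩ : ∃ b, m = b + 2 := ⟨m - 2, by omega⟩
    refine big_free hF P H1 (b := b) (s := 2) (by omega) (Or.inr ⟨rfl, by omega⟩) hH1 hprop1 hfree
      (d := Fin.append (fun _ => (ζ : F) ^ 2) fun _ => (ζ : F))
      (fun i => Fin.addCases (fun j => by rw [Fin.append_left]; exact hnj 2)
        (fun j => by rw [Fin.append_right]; exact hn1) i)
      (fun i => Fin.addCases (fun j => by
          rw [Fin.append_left]
          intro e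
          have := Nat.le_of_dvd two_pos ((hpow 2).1 e)
          omega)
        (fun j => by rw [Fin.append_right]; exact hz1) i)
      (fun i => Fin.append_right _ _ i) (fun i => Fin.append_left _ _ i) ?_ (fun e => by omega)
    rw [Fin.prod_univ_add]
    simp only [Fin.append_left, Fin.append_right, Finset.prod_const, Finset.card_univ, Fintype.card_fin]
    rw [← pow_mul, ← pow_add, hpow]
    obtain ⟨t, ht⟩ := hdiv
    exact ⟨2 * t, by rw [← mul_left_comm, ← ht]; omega⟩
  · obtain ⟨b, rfl⟩ : ∃ b, m = b + 1 := ⟨m - 1, by omega⟩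
    rw [Nat.add_sub_cancel] at hdiv
    have hb0 : (ζ : F) ^ b ≠ 1 := fun e => hdiv ((hpow b).1 e)
    refine big_free hF P H1 (b := b) (s := 1) (by omega) (Or.inl rfl) hH1 hprop1 hfree
      (d := Fin.append (fun _ => (ζ : F)) fun _ => ((ζ : F) ^ b)⁻¹)
      (fun i => Fin.addCases (fun j => by rw [Fin.append_left]; exact hn1)
        (fun j => by rw [Fin.append_right, map_inv₀, ← mul_inv, hnj, inv_one]) i)
      (fun i => Fin.addCases (fun j => by rw [Fin.append_left]; exact hz1)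
        (fun j => by rw [Fin.append_right]; exact fun e => hb0 (inv_eq_one.1 e)) i)
      (fun i => Fin.append_right _ _ i) (fun i => Fin.append_left _ _ i) ?_ (fun e hq2 => ?_)
    · rw [Fin.prod_univ_add]
      simp only [Fin.append_left, Fin.append_right, Finset.prod_const, Finset.card_univ, Fintype.card_fin, pow_one]
      exact mul_inv_cancel₀ (pow_ne_zero _ ζ.ne_zero)
    · obtain rfl : b = 2 := by omega
      refine inv_eq_of_mul_eq_one_left ?_
      rw [← pow_succ', hpow]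
      exact ⟨1, by omega⟩

end CfsgLib.PsuMin
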