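import Mathlib
import Cfsg.Agent.Lib.PsuMin.Free

/-! Orthogonal isotropic vectors and double counting. -/

set_option autoImplicit false

namespace CfsgLib.PsuMin

open Matrix CfsgLib.UnitaryTransvection Module CfsgLib.HermCount

variable {F : Type*} [Field F] [Fintype F] {q m : ℕ} (hF : Fintype.card F = q ^ 2)

local notation "σ" => frob hF
local notation "hm" => Cfsg.hermForm m F q
local notation "hn" => Cfsg.hermForm (m + 2) F q

variable (F q) in
/-- The nonzero isotropic vectors. -/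
def Isot (n : ℕ) : Set (Fin n → F) := {x | x ≠ 0 ∧ Cfsg.hermForm n F q x x = 0}

/-- The isotropic vectors orthogonal to `r` and independent of it. -/
def Nb {n : ℕ} (r x : Fin n → F) : Prop :=
  x ∈ Isot F q n ∧ Cfsg.hermForm n F q x r = 0 ∧ ∀ k : F, x ≠ k • r

include hF in
theorem nb_symm {n : ℕ} {r x : Fin n → F} (hr : r ∈ Isot F q n) (h : Nb (q := q) r x) : Nb (q := q) x r :=
  ⟨hr, perp_symm hF h.2.1, fun k e => h.2.2 k⁻¹ (by
    have hk : k ≠ 0 := fun e0 => hr.1 (by rw [e, e0, zero_smul])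
    rw [e, inv_smul_smul₀ hk])⟩

include hF in
theorem nb_add {n : ℕ} {r x : Fin n → F} (hr : r ∈ Isot F q n) (h : Nb (q := q) r x) (k : F) :
    Nb (q := q) r (x + k • r) := by
  refine ⟨⟨fun e => h.2.2 (-k) (by rw [neg_smul]; exact eq_neg_of_add_eq_zero_left e), ?_⟩, ?_, fun l e => h.2.2 (l - k) (by
    rw [sub_smul, ← e, add_sub_cancel_right])⟩
  · rw [h_add_left, h_add_right hF, h_add_right hF, h_smul_left, h_smul_left, h_smul_right hF, h_smul_right hF,
      h.1.2, hr.2, h.2.1, perp_symm hF h.2.1]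
    ring
  · rw [h_add_left, h_smul_left, h.2.1, hr.2, mul_zero, add_zero]

variable (P : HPair F q)

include hF in
/-- Coordinates of a neighbour. -/
theorem nb_coord {g : Cfsg.GU (m + 2) F q} {r x : Fin (m + 2) → F} (hg : g.1.1 *ᵥ vp P = r)
    (h : Nb (q := q) r x) :
    g⁻¹.1.1 *ᵥ x = hn (g⁻¹.1.1 *ᵥ x) (wp P) • vp P + inc (pr (g⁻¹.1.1 *ᵥ x)) ∧
      pr (g⁻¹.1.1 *ᵥ x) ∈ Isot F q m := by
  set y := g⁻¹.1.1 *ᵥ x
  have hy : hn y (vp P) = 0 := by rw [← gu_h g, apply_inv_apply, hg]; exact h.2.1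
  have e := split3 hF P y
  rw [hy, zero_smul, add_zero] at e
  refine ⟨e, fun ea => ?_, ?_⟩
  · refine h.2.2 (hn y (wp P)) ?_
    rw [ea, show inc (0 : Fin m → F) = (0 : Fin (m + 2) → F) from ext2 (pr_inc _) (lo_inc _), add_zero] at e
    rw [← hg, ← mulVec_smul, ← e, apply_inv_apply]
  · have hyy : hn y y = 0 := by rw [gu_h g⁻¹]; exact h.1.2
    rw [e] at hyy
    have e0 : ∀ a : Fin m → F, hn (inc a) (vp P) = 0 := fun a => by rw [h_vp hF, lo_inc, h_zero_left hF]
    simp only [h_add_left, h_add_right hF, h_smul_left, h_smul_right hF, vp_iso hF P, h_inc hF, e0,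
      perp_symm hF (e0 _), mul_zero, zero_add, add_zero] at hyy
    exact hyy

include hF in
/-- Neighbours from coordinates. -/
theorem nb_mk {g : Cfsg.GU (m + 2) F q} {r : Fin (m + 2) → F} (hg : g.1.1 *ᵥ vp P = r) {a : Fin m → F}
    (ha : a ∈ Isot F q m) (k : F) : Nb (q := q) r (g.1.1 *ᵥ (inc a + k • vp P)) := by
  have hp : pr (inc a + k • vp P : Fin (m + 2) → F) = a := by
    rw [pr_add, pr_inc, pr_smul, pr_top, smul_zero, add_zero]
  have e0 : hn (inc a) (vp P) = 0 := by rw [h_vp hF, lo_inc, h_zero_left hF]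
  refine ⟨⟨mulVec_ne_zero g fun e => ha.1 (by rw [← hp, e, pr_zero]), ?_⟩, ?_, fun l e => ha.1 ?_⟩
  · rw [gu_h g]
    simp only [h_add_left, h_add_right hF, h_smul_left, h_smul_right hF, vp_iso hF P, h_inc hF, ha.2, e0,
      perp_symm hF e0, mul_zero, add_zero]
  · rw [← hg, gu_h g, h_add_left, h_smul_left, e0, vp_iso hF P, mul_zero, add_zero]
  · have e1 := congrArg (fun z => g⁻¹.1.1 *ᵥ z) e
    simp only [inv_apply_apply, mulVec_smul, ← hg] at e1
    have := congrArg pr e1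
    rwa [hp, pr_smul, pr_top, smul_zero] at this

include hF in
/-- The neighbours with the first part in a given set. -/
theorem nb_le {g : Cfsg.GU (m + 2) F q} {r : Fin (m + 2) → F} (hg : g.1.1 *ᵥ vp P = r) (Q : Set (Fin m → F))
    (X : Set (Fin (m + 2) → F)) (hX : ∀ x ∈ X, Nb (q := q) r x ∧ pr (g⁻¹.1.1 *ᵥ x) ∈ Q) :
    X.ncard ≤ Q.ncard * q ^ 2 := by
  rw [← hF, ← Nat.card_eq_fintype_card, ← Nat.card_coe_set_eq, ← Nat.card_coe_set_eq, ← Nat.card_prod]
  refine Nat.card_le_card_of_injective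
    (fun x : X => ((⟨_, (hX x.1 x.2).2⟩ : Q), hn (g⁻¹.1.1 *ᵥ x.1) (wp P))) fun x y e => Subtype.ext ?_
  simp only [Prod.mk.injEq, Subtype.mk.injEq] at e
  have hx := (nb_coord hF P hg (hX x.1 x.2).1).1
  have hy := (nb_coord hF P hg (hX y.1 y.2).1).1
  rw [e.1, e.2, ← hy] at hx
  rw [← apply_inv_apply g x.1, ← apply_inv_apply g y.1, hx]

include hF in
/-- A vector whose lines meet `R` has many neighbours in `R`. -/
theorem nb_ge (hm2 : 1 ≤ m) {R : Set (Fin (m + 2) → F)} {b : Fin (m + 2) → F} (hb : b ∈ Isot F q (m + 2))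
    (hR : ∀ x, Nb (q := q) b x → ∃ k : F, x + k • b ∈ R) :
    L0 F q m ≤ ({x | x ∈ R ∧ Nb (q := q) b x}).ncard := by
  obtain ⟨P⟩ := exists_hpair hF
  obtain ⟨g, -, hg⟩ := trans_level hF (show 3 ≤ m + 2 by omega) (vp_ne hF P) hb.1 ((vp_iso hF P).trans hb.2.symm)
  have hnb : ∀ a : Isot F q m, Nb (q := q) b (g.1.1 *ᵥ (inc a.1 + (0 : F) • vp P)) := fun a =>
    nb_mk hF P hg a.2 0
  choose k hk using fun a : Isot F q m => hR _ (hnb a)
  have hL : L0 F q m = Nat.card (Isot F q m) := (Nat.card_coe_set_eq _).symm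
  rw [hL, ← Nat.card_coe_set_eq]
  refine Nat.card_le_card_of_injective (fun a => ⟨_, hk a, nb_add hF hb (hnb a) _⟩) fun a a' e => Subtype.ext ?_
  have e1 := congrArg (fun z => pr (g⁻¹.1.1 *ᵥ z)) (congrArg Subtype.val e)
  simp only [mulVec_add, mulVec_smul, ← hg, inv_apply_apply, pr_add, pr_inc, pr_smul, pr_top, smul_zero,
    add_zero] at e1
  exact e1

/-- Double counting. -/
theorem incidence {α : Type*} [Finite α] (B R : Set α) (rel : α → α → Prop) {lo hi : ℕ}
    (hB : ∀ b ∈ B, lo ≤ ({r | r ∈ R ∧ rel b r}).ncard) (hR : ∀ r ∈ R, ({b | b ∈ B ∧ rel b r}).ncard ≤ hi) :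
    B.ncard * lo ≤ R.ncard * hi := by
  classical
  haveI : Fintype α := Fintype.ofFinite α
  rw [Set.ncard_eq_toFinset_card' B, Set.ncard_eq_toFinset_card' R]
  refine Finset.card_mul_le_card_mul rel (fun b hb => ?_) fun r hr => ?_
  · refine (hB b (Set.mem_toFinset.1 hb)).trans (le_of_eq ?_)
    rw [Set.ncard_eq_toFinset_card']
    congr 1
    ext; simp [Finset.bipartiteAbove]
  · refine le_trans (le_of_eq ?_) (hR r (Set.mem_toFinset.1 hr))
    rw [Set.ncard_eq_toFinset_card']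
    congr 1
    ext; simp [Finset.bipartiteBelow]

end CfsgLib.PsuMin
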