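import Mathlib
import Cfsg.Agent.Lib.PsuMin.Nb

/-! The group of six dimensions over the field of four elements. -/

set_option autoImplicit false

namespace CfsgLib.PsuMin

open Matrix CfsgLib.UnitaryTransvection Module CfsgLib.HermCount

variable {F : Type*} [Field F] [Fintype F] {q : ℕ} (hF : Fintype.card F = q ^ 2)

local notation "σ" => frob hF
local notation "G6" => Cfsg.GU (4 + 2) F q
local notation "h6" => Cfsg.hermForm (4 + 2) F q

include hF in
theorem values6 (hq : q = 2) :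
    L0 F q 2 = 9 ∧ L0 F q 4 = 135 ∧ L0 F q (4 + 2) = 2079 ∧ A1 F q (4 + 2) = 2016 := by
  subst hq
  have l2 := L0_eq hF 1
  have l4 := L0_eq hF 3
  have l6 := L0_eq hF 5
  have a6 := A1_eq hF 5
  norm_num at l2 l4 l6 a6
  exact ⟨by exact_mod_cast l2, by exact_mod_cast l4, by exact_mod_cast l6, by exact_mod_cast a6⟩

include hF in
theorem small_not_big (hq : q = 2) {n : ℕ} (hn : n ≤ 671) : ¬ Big F q (4 + 2) n := by
  obtain ⟨-, -, l6, a6⟩ := values6 hF hq
  rintro (h | h)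
  · rw [l6, hq] at h; norm_num at h; omega
  · rw [a6, hq] at h; omega

include hF in
theorem skew_two (hq : q = 2) {c : F} (hc : c ∈ skew hF) : c = 0 ∨ c = 1 := by
  by_cases h0 : c = 0
  · exact Or.inl h0
  · exact Or.inr (fix_two hF hq (by rw [skew_neg hF hc]; linear_combination -c * char_two hF hq) h0)

include hF in
/-- A set of isotropic vectors meeting all totally isotropic planes of dimension four. -/
theorem block_two (hq : q = 2) (A : Set (Fin (2 + 2) → F)) (hA : A ⊆ Isot F q (2 + 2))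
    (hblk : ∀ b ∈ Isot F q (2 + 2), b ∉ A → ∀ x, Nb (q := q) b x → ∃ k : F, x + k • b ∈ A) : 27 ≤ A.ncard := by
  obtain ⟨P⟩ := exists_hpair hF
  obtain ⟨l2, l4, -, -⟩ := values6 hF hq
  have h := incidence (Isot F q (2 + 2) \ A) A (fun b r => Nb (q := q) b r) (lo := 9) (hi := 36)
    (fun b hb => l2 ▸ nb_ge hF one_le_two hb.1 (fun x hx => hblk b hb.1 hb.2 x hx))
    (fun r hr => by
      have hr' := hA hr
      obtain ⟨g, -, hg⟩ := trans_level hF (show 3 ≤ 2 + 2 by norm_num) (vp_ne (m := 2) hF P) hr'.1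
        ((vp_iso hF P).trans hr'.2.symm)
      refine (nb_le hF P hg (Isot F q 2) _ fun x hx => ⟨nb_symm hF hx.1.1 hx.2,
        (nb_coord hF P hg (nb_symm hF hx.1.1 hx.2)).2⟩).trans (le_of_eq ?_)
      rw [show (Isot F q 2).ncard = 9 from l2, hq]; norm_num)
  rw [Set.ncard_sdiff hA (Set.toFinite _), show (Isot F q (2 + 2)).ncard = 135 from l4] at h
  omega

variable (P : HPair F q) (H : Subgroup (Cfsg.GU (4 + 2) F q))

/-- The images of a vector under `H`. -/
def Orb (x : Fin (4 + 2) → F) : Set (Fin (4 + 2) → F) := {y | ∃ g ∈ H, g.1.1 *ᵥ x = y}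

set_option synthInstance.maxHeartbeats 400000 in
set_option maxHeartbeats 800000 in
include hF in
theorem orbit_base (hq : q = 2) (hH : H ≤ det1 F q (4 + 2)) (hfree : Free hF P H)
    (hn : H.relIndex (det1 F q (4 + 2)) ≤ 671) : 1587 ≤ (Orb H (vp P)).ncard := by
  classical
  rcases free_case hF P H (by norm_num) hH hfree with h | ⟨hW, hK⟩
  · exact absurd h (small_not_big hF hq hn)
  letI : MulAction G6 (Fin (4 + 2) → F) :=
    { smul := fun g x => g.1.1 *ᵥ x
      one_smul := fun x => one_apply x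
      mul_smul := fun g g' x => mul_apply g g' x }
  obtain ⟨-, -, l6, -⟩ := values6 hF hq
  set L := Line (F := F) (q := q) 4 P with hL
  set S := MulAction.stabilizer G6 (vp P : Fin (4 + 2) → F) ⊓ det1 F q (4 + 2) with hS
  have hSL : S ≤ L := fun g hg => ⟨hg.2, 1, by
    rw [one_smul]; exact MulAction.mem_stabilizer_iff.1 hg.1⟩
  have hSeq : MulAction.stabilizer G6 (vp P : Fin (4 + 2) → F) ⊓ L = S :=
    le_antisymm (fun g hg => ⟨hg.1, hg.2.1⟩) fun g hg => ⟨hg.1, hSL hg⟩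
  have hres : ∀ X ≤ L, (H ⊓ L).relIndex X = H.relIndex X := fun X hX => by
    rw [← Subgroup.inf_relIndex_right (H ⊓ L) X, ← Subgroup.inf_relIndex_right H X, inf_assoc, inf_eq_right.2 hX]
  have h1 := OmegaMin.orbit_count (H ⊓ L) L inf_le_right (vp P : Fin (4 + 2) → F)
  rw [hSeq, hres L le_rfl, hres S hSL] at h1
  have hoL : Nat.card (MulAction.orbit L (vp P : Fin (4 + 2) → F)) ≤ 3 := by
    have hu : (3 : ℕ) = Nat.card Fˣ := by rw [Nat.card_units, Nat.card_eq_fintype_card, hF, hq]; norm_num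
    rw [hu]
    have hex : ∀ x : MulAction.orbit L (vp P : Fin (4 + 2) → F), ∃ r : Fˣ, (r : F) • vp P = x.1 := by
      rintro ⟨x, g, rfl⟩
      obtain ⟨r, hr⟩ := g.2.2
      refine ⟨Units.mk0 r fun e => mulVec_ne_zero g.1 (vp_ne hF P) (by rw [hr, e, zero_smul]), hr.symm⟩
    choose r hr using hex
    exact Nat.card_le_card_of_injective r fun x y e => Subtype.ext (by rw [← hr x, ← hr y, e])
  have hoH : Nat.card (Sc hF P H) ≤ Nat.card (MulAction.orbit (H ⊓ L : Subgroup G6) (vp P : Fin (4 + 2) → F)) := by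
    have hex : ∀ l : Sc hF P H, ((l.1 : F) • vp P : Fin (4 + 2) → F) ∈
        MulAction.orbit (H ⊓ L : Subgroup G6) (vp P : Fin (4 + 2) → F) := by
      rintro ⟨_, ⟨l, g⟩, hp, rfl⟩
      obtain ⟨a, s, hs, he⟩ := (mem_Rg hF P H hH).1 hp
      have hv : (emb hF P l g * uel hF P a s).1.1 *ᵥ vp P = (l : F) • vp P := by
        rw [mul_apply, uel_vp hF P hs, emb_vp]
      exact ⟨⟨_, he, ⟨hH he, _, hv⟩⟩, hv⟩
    exact Nat.card_le_card_of_injective (fun l => ⟨_, hex l⟩) fun l l' e => Subtype.ext (Units.ext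
      (smul_left_injective F (vp_ne hF P) (congrArg Subtype.val e :)))
  have hX : 512 ≤ H.relIndex S := by
    have h := line_ineq hF P H (by norm_num) hH
    haveI : Subsingleton (Wh hF P H) := ⟨fun a b => Subtype.ext ((hW _ a.2).trans (hW _ b.2).symm)⟩
    have e : (q ^ 2 - 1) * 1 * (q ^ (2 * 4) * q) = 1536 := by rw [hq]; norm_num
    rw [Nat.card_of_subsingleton (0 : Wh hF P H), mul_one, Subgroup.relIndex_eq_one.2 hK, e] at h
    have hz : Nat.card (Zh hF P H) ≤ 1 := by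
      have h2 : Nat.card (skew hF) = 2 := (card_skew hF).trans hq
      have hle := AddSubgroup.card_le_of_le (zh_le hF P H)
      obtain ⟨c, hc, hcZ⟩ := hfree
      have hne : Nat.card (Zh hF P H) ≠ 2 := fun e => hcZ (by
        rw [AddSubgroup.eq_of_le_of_card_ge (zh_le hF P H) (by omega)]; exact hc)
      omega
    have h2 : 1536 ≤ H.relIndex L * Nat.card (MulAction.orbit (H ⊓ L : Subgroup G6) (vp P : Fin (4 + 2) → F)) := by
      refine le_trans h (Nat.mul_le_mul_left _ ?_)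
      calc Nat.card (Sc hF P H) * Nat.card (Zh hF P H) ≤ Nat.card (Sc hF P H) * 1 := Nat.mul_le_mul_left _ hz
        _ ≤ _ := by rw [mul_one]; exact hoH
    have h2' : 1536 ≤ 3 * H.relIndex S :=
      (h2.trans_eq h1).trans (Nat.mul_le_mul_right (H.relIndex S) hoL)
    omega
  have h3 := OmegaMin.orbit_count H (det1 F q (4 + 2)) hH (vp P : Fin (4 + 2) → F)
  rw [← hS] at h3
  have hall : 2079 ≤ Nat.card (MulAction.orbit (det1 F q (4 + 2)) (vp P : Fin (4 + 2) → F)) := by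
    rw [Nat.card_coe_set_eq, ← l6]
    refine Set.ncard_le_ncard (fun x hx => ?_) (Set.toFinite _)
    obtain ⟨g, hg, hgx⟩ := trans_level hF (show 3 ≤ 4 + 2 by norm_num) (vp_ne hF P) hx.1
      ((vp_iso hF P).trans hx.2.symm)
    exact ⟨⟨g, hg⟩, hgx⟩
  have ho : Nat.card (MulAction.orbit H (vp P : Fin (4 + 2) → F)) = (Orb H (vp P)).ncard := by
    rw [Nat.card_coe_set_eq]
    congr 1
    ext y
    exact ⟨fun ⟨g, hg⟩ => ⟨g.1, g.2, hg⟩, fun ⟨g, hg, e⟩ => ⟨⟨g, hg⟩, e⟩⟩
  have h3' : H.relIndex (det1 F q (4 + 2)) * (Orb H (vp P)).ncard =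
      Nat.card (MulAction.orbit (det1 F q (4 + 2)) (vp P : Fin (4 + 2) → F)) * H.relIndex S :=
    (congrArg (H.relIndex (det1 F q (4 + 2)) * ·) ho).symm.trans h3
  have h4 : 2079 * 512 ≤ 671 * (Orb H (vp P)).ncard := by
    calc 2079 * 512 ≤ _ := Nat.mul_le_mul hall hX
      _ = _ := h3'.symm
      _ ≤ _ := Nat.mul_le_mul_right _ hn
  omega

include hF in
/-- Moving a free vector to the base point. -/
theorem free_at (hH : H ≤ det1 F q (4 + 2)) {x : Fin (4 + 2) → F} (hx : x ∈ Isot F q (4 + 2))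
    (hR : ¬ Rt hF H x) :
    ∃ (g : G6) (H1 : Subgroup G6), g ∈ det1 F q (4 + 2) ∧ g.1.1 *ᵥ vp P = x ∧ H1 ≤ det1 F q (4 + 2) ∧
      Free hF P H1 ∧ H1.relIndex (det1 F q (4 + 2)) = H.relIndex (det1 F q (4 + 2)) ∧
      ∀ y, y ∈ H1 ↔ g * y * g⁻¹ ∈ H := by
  obtain ⟨g, hg, hgx⟩ := trans_level hF (show 3 ≤ 4 + 2 by norm_num) (vp_ne hF P) hx.1
    ((vp_iso hF P).trans hx.2.symm)
  refine ⟨g, H.comap (MulAut.conj g).toMonoidHom, hg, hgx, conj_le hH g, ?_, relIndex_conj H _ g, fun y => Iff.rfl⟩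
  by_contra hno
  refine hR ⟨hx.1, hx.2, fun c hc => ?_⟩
  by_contra hcH
  exact hno ⟨c, hc, fun h => hcH (by
    have h' := (mem_conj H g _).1 h.2
    rwa [root_conj hF g (vp_iso hF P) hc, hgx] at h')⟩

include hF in
/-- A lift forces a point whose root group lies in `H`. -/
theorem exists_rt (hq : q = 2) (hH : H ≤ det1 F q (4 + 2)) (hn : H.relIndex (det1 F q (4 + 2)) ≤ 671)
    {a : Fin 4 → F} (ha : a ∈ Isot F q 4) {t : F} (ht : t ∈ skew hF)
    (hX : root hF (inc a) 1 * root hF (vp P) t ∈ H) : ∃ x, Rt hF H x := by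
  have h1 : (1 : F) ∈ skew hF := by rw [mem_skew, map_one]; linear_combination char_two hF hq
  have hia : h6 (inc a) (inc a) = 0 := by rw [h_inc hF, ha.2]
  have hia0 : (inc a : Fin (4 + 2) → F) ≠ 0 := fun e => ha.1 (by rw [← pr_inc (s := 2) a, e, pr_zero])
  rcases skew_two hF hq ht with rfl | rfl
  · rw [root_zero hF (vp_iso hF P), mul_one] at hX
    refine ⟨inc a, hia0, hia, fun c hc => ?_⟩
    rcases skew_two hF hq hc with rfl | rfl
    · rw [root_zero hF hia]; exact one_mem H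
    · exact hX
  have hva : h6 (inc a) (vp P) = 0 := by rw [h_vp hF, lo_inc, h_zero_left hF]
  set w := vp P + inc a with hw
  have hwi : w ∈ Isot F q (4 + 2) := by
    refine ⟨fun e => ha.1 ?_, ?_⟩
    · have := congrArg pr e
      rwa [pr_add, pr_top, pr_inc, zero_add, pr_zero] at this
    · rw [hw, h_add_left, h_add_right hF, h_add_right hF, vp_iso hF P, hia, hva, perp_symm hF hva]; ring
  by_contra hno
  push Not at hno
  obtain ⟨g, H1, -, hgw, hH1, hfree1, hidx, hmem⟩ := free_at hF P H hH hwi (hno w)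
  rcases free_case hF P H1 (by norm_num) hH1 hfree1 with h | ⟨hW1, -⟩
  · exact small_not_big hF hq (hidx ▸ hn) h
  set a' := g⁻¹.1.1 *ᵥ (vp P : Fin (4 + 2) → F)
  set b' := g⁻¹.1.1 *ᵥ (inc a : Fin (4 + 2) → F)
  set Y := root hF b' 1 * root hF a' 1
  have hY : Y ∈ H1 := (hmem Y).2 (by
    have : g * Y * g⁻¹ = (g * root hF b' 1 * g⁻¹) * (g * root hF a' 1 * g⁻¹) := by
      simp only [Y, mul_assoc, inv_mul_cancel_left]
    rw [this, root_conj hF g (z := b') (by rw [gu_h g⁻¹, hia]) h1,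
      root_conj hF g (z := a') (by rw [gu_h g⁻¹, vp_iso hF P]) h1,
      apply_inv_apply, apply_inv_apply]
    exact hX)
  have hsum : a' + b' = vp P := by
    show g⁻¹.1.1 *ᵥ (vp P : Fin (4 + 2) → F) + g⁻¹.1.1 *ᵥ inc a = _
    rw [← mulVec_add, ← hw, ← hgw, inv_apply_apply]
  have hab : h6 a' b' = 0 := by rw [gu_h g⁻¹]; exact perp_symm hF hva
  have hYx : ∀ x, h6 x (vp P) = 0 → Y.1.1 *ᵥ x = x + h6 x b' • vp P := by
    intro x hx
    rw [← hsum, h_add_right hF] at hx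
    have e : h6 x a' = h6 x b' := by linear_combination hx - h6 x b' * char_two hF hq
    rw [mul_apply, root_apply hF (z := a') (by rw [gu_h g⁻¹, vp_iso hF P]) h1,
      root_apply hF (z := b') (by rw [gu_h g⁻¹, hia]) h1, h_add_left, h_smul_left, hab, e, ← hsum]
    module
  have hvb : h6 (vp P) b' = 0 := by
    rw [← hsum, h_add_left, hab, gu_h g⁻¹, hia, add_zero]
  have hYv : Y.1.1 *ᵥ vp P = vp P := by rw [hYx _ (vp_iso hF P), hvb, zero_smul, add_zero]
  have hYl : Y ∈ Line 4 P := ⟨hH1 hY, 1, by rw [hYv, one_smul]⟩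
  obtain ⟨a0, s, hs, hdec⟩ := decomp hF P hYl
  have hr1 : (rho hF P ⟨Y, hYl⟩).1 = 1 := Units.ext (by
    show h6 (Y.1.1 *ᵥ vp P) (wp P) = 1
    rw [hYv, vp_wp hF P])
  have hinc : ∀ y : Fin 4 → F, h6 (inc y) (vp P) = 0 := fun y => by rw [h_vp hF, lo_inc, h_zero_left hF]
  have hr2 : (rho hF P ⟨Y, hYl⟩).2 = 1 := gu_ext fun y => by
    show (small hF P ⟨Y, hYl⟩).1.1 *ᵥ y = (1 : Cfsg.GU 4 F q).1.1 *ᵥ y
    rw [small_apply]
    show pr (Y.1.1 *ᵥ inc y) = _
    rw [hYx _ (hinc y), pr_add, pr_inc, pr_smul, pr_top, smul_zero, add_zero, one_apply]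
  rw [hr1, hr2, emb_one, one_mul] at hdec
  have ha0 : a0 = 0 := hW1 a0 ⟨s, hs, hdec ▸ hY⟩
  subst ha0
  have hs' : s ∈ skew hF := by unfold Ok at hs; rwa [h_zero_left hF, zero_add] at hs
  rw [uel_zero hF P hs'] at hdec
  have hpb : pr b' = 0 := by
    refine h_nondeg hF fun y => perp_symm hF ?_
    have e := hYx _ (hinc y)
    rw [hdec, root_apply hF (vp_iso hF P) hs', hinc, mul_zero, zero_smul, add_zero] at e
    have e1 : h6 (inc y) b' • (vp P : Fin (4 + 2) → F) = 0 := left_eq_add.1 e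
    have e2 := (smul_eq_zero.1 e1).resolve_right (vp_ne hF P)
    rwa [h_split, pr_inc, lo_inc, h_zero_left hF, add_zero] at e2
  have e := split3 hF P b'
  rw [perp_symm hF hvb, zero_smul, add_zero, hpb,
    show inc (0 : Fin 4 → F) = (0 : Fin (4 + 2) → F) from ext2 (pr_inc _) (lo_inc _), add_zero] at e
  have e2 := congrArg (fun z => g.1.1 *ᵥ z) e
  simp only [apply_inv_apply, b', mulVec_smul, hgw, hw] at e2
  have e3 := congrArg pr e2
  have e4 := congrArg lo e2
  rw [pr_inc, pr_smul, pr_add, pr_top, pr_inc, zero_add] at e3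
  rw [lo_inc, lo_smul, lo_add, lo_top, lo_inc, add_zero] at e4
  rw [(smul_eq_zero.1 e4.symm).resolve_right (P.ne hF), zero_smul] at e3
  exact ha.1 e3

set_option maxHeartbeats 800000 in
include hF in
/-- The index bound. -/
theorem two_bound (hq : q = 2) (hH : H ≤ det1 F q (4 + 2)) (hprop : ¬ det1 F q (4 + 2) ≤ H) :
    Big F q (4 + 2) (H.relIndex (det1 F q (4 + 2))) := by
  classical
  obtain ⟨P⟩ := exists_hpair hF
  obtain ⟨-, l4, l6, a6⟩ := values6 hF hq
  by_contra hbig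
  have hn : H.relIndex (det1 F q (4 + 2)) ≤ 671 := by
    by_contra h
    exact hbig (Or.inr (by rw [a6, show q + 1 = 3 by omega]; omega))
  obtain ⟨x, hx, hxR⟩ : ∃ x, x ∈ Isot F q (4 + 2) ∧ ¬ Rt hF H x := by
    by_contra hno
    push Not at hno
    exact hprop (eq_det1_of_roots hF (by norm_num) (fun e => by omega)
      fun x hx0 hx c hc => (hno x ⟨hx0, hx⟩).2.2 c hc)
  obtain ⟨g, H1, -, -, hH1, hfree1, hidx1, -⟩ := free_at hF P H hH hx hxR
  rcases free_case hF P H1 (by norm_num) hH1 hfree1 with h | ⟨-, hK1⟩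
  · exact small_not_big hF hq (hidx1 ▸ hn) h
  -- a diagonal element
  obtain ⟨ω, hω1, hω⟩ := exists_omega hF
  obtain ⟨hsω, -⟩ := omega_two hF hq hω1 hω
  have hω3 : ω * ω * ω = 1 := by rw [hsω] at hω; linear_combination hω
  let d : Fin (2 + 2) → F := Fin.append (fun _ => ω * ω) fun _ => ω
  have hd : ∀ i, d i * σ (d i) = 1 := fun i => Fin.addCases
    (fun j => by simp only [d, Fin.append_left, map_mul, hsω]; linear_combination (ω * ω * ω + 1) * hω3)
    (fun j => by simp only [d, Fin.append_right]; exact hω) i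
  have hd1 : ∀ i, d i ≠ 1 := fun i => Fin.addCases
    (fun j => by
      simp only [d, Fin.append_left]
      exact fun e => hω1 (by linear_combination hω3 - ω * e))
    (fun j => by simp only [d, Fin.append_right]; exact hω1) i
  have hdet : ∏ i, d i = 1 := by
    simp only [Fin.prod_univ_add, d, Fin.append_left, Fin.append_right, Finset.prod_const, Finset.card_univ,
      Fintype.card_fin]
    linear_combination (ω * ω * ω + 1) * hω3
  have hfree_e : ∀ x, (dg hF d hd).1.1 *ᵥ x = x → x = 0 := fun x hx => dg_free hF d hd hd1 hx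
  obtain ⟨H', hH', hfree', hidx', he⟩ := exists_centred hF P H1 hH1 hfree1
    (hK1 (mem_det1.2 ((dg_det hF d hd).trans hdet))) hfree_e
  have hn' : H'.relIndex (det1 F q (4 + 2)) ≤ 671 := by rw [hidx', hidx1]; exact hn
  rcases free_case hF P H' (by norm_num) hH' hfree' with h | ⟨hW', hK'⟩
  · exact small_not_big hF hq hn' h
  have h1s : (1 : F) ∈ skew hF := by rw [mem_skew, map_one]; linear_combination char_two hF hq
  -- a member of `R`
  obtain ⟨x0, hx0⟩ : ∃ x, Rt hF H' x := by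
    obtain ⟨θ, hθ⟩ := exists_norm_eq hF (c := (-1 : F)) (by simp)
    set a : Fin (2 + 2) → F := Pi.single 0 1 + θ • Pi.single 1 1 with haeq
    have ha : a ∈ Isot F q 4 := by
      refine ⟨fun e => by simpa [haeq] using congrFun e 0, ?_⟩
      simp [haeq, h_add_left, h_add_right hF, h_smul_left, h_smul_right hF, UnitaryOrder.herm_single_right hF]
      linear_combination hθ
    have hea : (dg hF d hd).1.1 *ᵥ a = (ω * ω) • a := funext fun i => by
      rw [dg_apply, Pi.smul_apply, smul_eq_mul]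
      refine Fin.addCases (fun j => ?_) (fun j => ?_) i
      · simp only [d, Fin.append_left]
      · have : a (Fin.natAdd 2 j) = 0 := by
          fin_cases j <;> simp [haeq, Fin.ext_iff]
        rw [this, mul_zero, mul_zero]
    have hD := dz_of_comm hF P H' hH' hW' hK' he hfree_e (root_mem hF ha.2 h1s)
      (mul_inv_eq_iff_eq_mul.1 (by
        rw [root_conj hF _ ha.2 h1s, hea, root_smul hF ha.2 h1s, map_mul, hsω, one_mul,
          show ω * ω * (ω * ω * (ω * ω)) = 1 by linear_combination (ω * ω * ω + 1) * hω3]))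
    obtain ⟨t, ht, hX⟩ := hD
    rw [emb_root hF P ha.2 h1s] at hX
    exact exists_rt hF P H' hq hH' hn' ha ht hX
  set R : Set (Fin (4 + 2) → F) := {x | Rt hF H' x}
  have hRi : R ⊆ Isot F q (4 + 2) := fun x hx => ⟨hx.1, hx.2.1⟩
  have hinv : ∀ g ∈ H', ∀ y ∈ R, g.1.1 *ᵥ y ∈ R := fun g hg y hy => rt_map hF hy hg
  have hvR : (vp P : Fin (4 + 2) → F) ∉ R := fun hv => by
    obtain ⟨c, hc, hcZ⟩ := hfree'
    exact hcZ ⟨hc, hv.2.2 c hc⟩
  have horb : ∀ x ∈ Isot F q (4 + 2), x ∉ R → 1587 ≤ (Orb H' x).ncard := by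
    intro x hx hxR
    obtain ⟨g, H2, -, hgx, hH2, hfree2, hidx2, hmem⟩ := free_at hF P H' hH' hx hxR
    have h := orbit_base hF P H2 hq hH2 hfree2 (hidx2 ▸ hn')
    refine h.trans (Set.ncard_le_ncard_of_injOn (fun y => g.1.1 *ᵥ y) ?_ (fun y _ z _ e => ?_) (Set.toFinite _))
    · rintro _ ⟨k, hk, rfl⟩
      refine ⟨g * k * g⁻¹, (hmem k).1 hk, ?_⟩
      rw [mul_apply, mul_apply, ← hgx, inv_apply_apply]
    · simpa [inv_apply_apply] using congrArg (fun z => g⁻¹.1.1 *ᵥ z) e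
  have hvI : (vp P : Fin (4 + 2) → F) ∈ Isot F q (4 + 2) := ⟨vp_ne hF P, vp_iso hF P⟩
  have hO : ∀ {x}, x ∈ Isot F q (4 + 2) → Orb H' x ⊆ Isot F q (4 + 2) := fun {x} hx y hy => by
    obtain ⟨g, -, rfl⟩ := hy
    exact ⟨mulVec_ne_zero g hx.1, by rw [gu_h g]; exact hx.2⟩
  have hI : (Isot F q (4 + 2)).ncard = 2079 := l6
  have hone : ∀ x ∈ Isot F q (4 + 2), x ∉ R → ∃ X ∈ H', X.1.1 *ᵥ vp P = x := by
    intro x hx hxR
    by_contra hno
    have hd : Disjoint (Orb H' (vp P)) (Orb H' x) := Set.disjoint_left.2 fun y ⟨g, hg, e1⟩ ⟨g', hg', e2⟩ =>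
      hno ⟨g'⁻¹ * g, mul_mem (inv_mem hg') hg, by rw [mul_apply, e1, ← e2, inv_apply_apply]⟩
    have h := Set.ncard_le_ncard (Set.union_subset (hO hvI) (hO hx)) (Set.toFinite _)
    rw [Set.ncard_union_eq hd, hI] at h
    have := horb x hx hxR
    have := horb _ hvI hvR
    omega
  have hR492 : R.ncard ≤ 492 := by
    have hd : Disjoint (Orb H' (vp P)) R := Set.disjoint_left.2 fun y ⟨g, hg, e⟩ hy => hvR (by
      rw [← inv_apply_apply g (vp P : Fin (4 + 2) → F), e]; exact hinv _ (inv_mem hg) y hy)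
    have h := Set.ncard_le_ncard (Set.union_subset (hO hvI) hRi) (Set.toFinite _)
    rw [Set.ncard_union_eq hd, hI] at h
    have := horb _ hvI hvR
    omega
  -- a member orthogonal to the base point
  obtain ⟨r0, hr0, hr0v⟩ : ∃ r ∈ R, h6 r (vp P) = 0 := by
    by_contra hno
    push Not at hno
    have hrv := hno x0 hx0
    set r' := (h6 x0 (vp P))⁻¹ • x0
    have hr' : r' ∈ R := rt_smul hF hx0 (inv_ne_zero hrv)
    have e1 : h6 r' (vp P) = 1 := by rw [h_smul_left, inv_mul_cancel₀ hrv]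
    have e2 : h6 (vp P) r' = 1 := by rw [← h_swap hF r' (vp P), e1, map_one]
    obtain ⟨g, -, hgv, hgw⟩ := trans_pair hF (show 3 ≤ 4 + 2 by norm_num) (a := (vp P : Fin (4 + 2) → F)) (b := wp P)
      (x := vp P) (y := r')
      (by rw [NdPair, vp_iso hF P, vp_wp hF P, h_top hF P.w P.v, P.wv hF]; simp)
      rfl (by rw [e2, vp_wp hF P]) (by rw [hr'.2.1, h_top hF, P.ww])
    obtain ⟨b, hb0, hb⟩ := UnitarySimple.exists_isotropic hF (n := 4) (by norm_num)
    set y := g.1.1 *ᵥ (inc b : Fin (4 + 2) → F)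
    have hy : y ∈ Isot F q (4 + 2) := ⟨mulVec_ne_zero g fun e => hb0 (by rw [← pr_inc (s := 2) b, e, pr_zero]),
      by rw [gu_h g, h_inc hF, hb]⟩
    have hyv : h6 y (vp P) = 0 := by
      rw [← hgv, gu_h g, h_vp hF, lo_inc, h_zero_left hF]
    have hyr : h6 r' y = 0 := perp_symm hF (by rw [← hgw, gu_h g, h_wp hF, lo_inc, h_zero_left hF])
    by_cases hyR : y ∈ R
    · exact hno y hyR hyv
    obtain ⟨X, hX, hXv⟩ := hone y hy hyR
    refine hno _ (hinv _ (inv_mem hX) r' hr') ?_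
    rw [← gu_h X, apply_inv_apply, hXv]
    exact hyr
  have hnb0 : ∀ r ∈ R, h6 r (vp P) = 0 → Nb (q := q) (vp P) r := fun r hr hrv =>
    ⟨hRi hr, hrv, fun k e => hvR (by
      have hk : k ≠ 0 := fun e0 => hr.1 (by rw [e, e0, zero_smul])
      have := rt_smul hF hr (inv_ne_zero hk)
      rwa [e, inv_smul_smul₀ hk] at this)⟩
  have h1v : (1 : G6).1.1 *ᵥ (vp P) = vp P := one_apply _
  have hcoord : ∀ {y}, Nb (q := q) (vp P) y → (y = h6 y (wp P) • vp P + inc (pr y)) ∧ pr y ∈ Isot F q 4 :=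
    fun {y} hy => by simpa [one_apply] using nb_coord hF P h1v hy
  -- lifts move the first parts
  have hlift : ∀ y ∈ Isot F q 4, ∀ r, Nb (q := q) (vp P) r →
      ∀ (g : Cfsg.GU 4 F q), g.1.1 *ᵥ pr r = y → g ∈ det1 F q 4 →
      ∃ X ∈ H', X.1.1 *ᵥ vp P = vp P ∧ pr (X.1.1 *ᵥ r) = y := by
    intro y _ r hr g hgy hg
    obtain ⟨a, s, hs, hX⟩ := (mem_Kh hF P H' hH').1 (hK' hg)
    refine ⟨_, hX, ?_, ?_⟩
    · rw [mul_apply, uel_vp hF P hs, emb_vp, Units.val_one, one_smul]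
    · rw [mul_apply, (emb_rest hF P g _).1, uel_apply hF P hs, hr.2.1, zero_smul, mul_zero, zero_smul, add_zero,
        add_zero, show pr (r - Cfsg.hermForm 4 F q (pr r) a • vp P : Fin (4 + 2) → F) = pr r from funext fun i => by
          have := congrFun (pr_top (m := 4) P.v) i
          simp only [pr, Pi.zero_apply] at this
          simp [pr, this], hgy]
  have hfib : ∀ y ∈ Isot F q 4, ∃ X ∈ H', X.1.1 *ᵥ vp P = vp P ∧ pr (X.1.1 *ᵥ r0) = y := by
    intro y hy
    have hp := (hcoord (hnb0 r0 hr0 hr0v)).2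
    obtain ⟨g, hg, hgy⟩ := trans_level hF (show 3 ≤ 4 by norm_num) hp.1 hy.1 (hp.2.trans hy.2.symm)
    exact hlift y hy r0 (hnb0 r0 hr0 hr0v) g hgy hg
  have nb_map : ∀ (X : G6) (r x : Fin (4 + 2) → F), Nb (q := q) r x → Nb (q := q) (X.1.1 *ᵥ r) (X.1.1 *ᵥ x) :=
    fun X r x h => ⟨⟨mulVec_ne_zero X h.1.1, by rw [gu_h X]; exact h.1.2⟩, by rw [gu_h X]; exact h.2.1,
      fun k e => h.2.2 k (by
        have := congrArg (fun z => X⁻¹.1.1 *ᵥ z) e
        simpa only [inv_apply_apply, mulVec_smul] using this)⟩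
  have hblk : ∀ b ∈ Isot F q (4 + 2) \ R, ∀ y, Nb (q := q) b y → ∃ k : F, y + k • b ∈ R := by
    intro b hb y hy
    obtain ⟨X, hX, hXv⟩ := hone b hb.1 hb.2
    set y' := X⁻¹.1.1 *ᵥ y
    have hy' : Nb (q := q) (vp P) y' := by
      have := nb_map X⁻¹ b y hy
      rwa [show X⁻¹.1.1 *ᵥ b = vp P by rw [← hXv, inv_apply_apply]] at this
    obtain ⟨he1, hp⟩ := hcoord hy'
    obtain ⟨Z, hZ, hZv, hZp⟩ := hfib _ hp
    have hr : Nb (q := q) (vp P) (Z.1.1 *ᵥ r0) := by
      have := nb_map Z (vp P) r0 (hnb0 r0 hr0 hr0v)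
      rwa [hZv] at this
    have he2 := (hcoord hr).1
    rw [hZp] at he2
    refine ⟨h6 (Z.1.1 *ᵥ r0) (wp P) - h6 y' (wp P), ?_⟩
    have e3 : Z.1.1 *ᵥ r0 = y' + (h6 (Z.1.1 *ᵥ r0) (wp P) - h6 y' (wp P)) • vp P := by
      conv_lhs => rw [he2]
      conv_rhs => arg 1; rw [he1]
      module
    have := hinv X hX _ (hinv Z hZ r0 hr0)
    rw [e3, mulVec_add, mulVec_smul, hXv, apply_inv_apply] at this
    exact this
  have hRB : (Isot F q (4 + 2) \ R).ncard = 2079 - R.ncard := by rw [Set.ncard_sdiff hRi (Set.toFinite _), hI]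
  have hframe : ∀ r ∈ R, ∃ g : G6, g.1.1 *ᵥ vp P = r := fun r hr => by
    obtain ⟨g, -, hg⟩ := trans_level hF (show 3 ≤ 4 + 2 by norm_num) (vp_ne hF P) hr.1
      ((vp_iso hF P).trans hr.2.1.symm)
    exact ⟨g, hg⟩
  by_cases huniq : ∀ r ∈ R, ∀ r' ∈ R, h6 r (vp P) = 0 → h6 r' (vp P) = 0 → pr r = pr r' → r = r'
  · -- one member on each line
    have hU : ∀ r ∈ R, ∀ b ∈ Isot F q (4 + 2) \ R, Nb (q := q) r b → ∀ k : F, b + k • r ∉ R := by
      intro r hr b hb hrb k hk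
      by_cases hk0 : k = 0
      · rw [hk0, zero_smul, add_zero] at hk; exact hb.2 hk
      obtain ⟨X, hX, hXv⟩ := hone b hb.1 hb.2
      set r' := X⁻¹.1.1 *ᵥ r
      have hr' : r' ∈ R := hinv _ (inv_mem hX) r hr
      have hr'v : h6 r' (vp P) = 0 := by
        rw [← gu_h X, apply_inv_apply, hXv]; exact perp_symm hF hrb.2.1
      have h1 := rt_smul hF (hinv _ (inv_mem hX) _ hk) (inv_ne_zero hk0)
      rw [mulVec_add, mulVec_smul, show X⁻¹.1.1 *ᵥ b = vp P by rw [← hXv, inv_apply_apply], smul_add,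
        inv_smul_smul₀ hk0] at h1
      have e := huniq _ h1 _ hr' (by rw [h_add_left, h_smul_left, vp_iso hF P, hr'v, mul_zero, add_zero]) hr'v
        (by rw [pr_add, pr_smul, pr_top, smul_zero, zero_add])
      exact (smul_ne_zero (inv_ne_zero hk0) (vp_ne (m := 4) hF P)) (add_eq_right.1 e)
    have hhi : ∀ r ∈ R, ({b | b ∈ Isot F q (4 + 2) \ R ∧ Nb (q := q) b r}).ncard ≤ 432 := by
      intro r hr
      obtain ⟨g, hg⟩ := hframe r hr
      set A : Set (Fin (2 + 2) → F) := {a | a ∈ Isot F q (2 + 2) ∧ g.1.1 *ᵥ (inc a : Fin (4 + 2) → F) ∈ R}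
      have hA : 27 ≤ A.ncard := block_two hF hq A (fun a ha => ha.1) fun b hb hbA x hx => by
        have hbI : g.1.1 *ᵥ (inc b : Fin (4 + 2) → F) ∈ Isot F q (4 + 2) \ R :=
          ⟨⟨mulVec_ne_zero g fun e => hb.1 (by rw [← pr_inc (s := 2) b, e, pr_zero]), by
            rw [gu_h g, h_inc hF]; exact hb.2⟩, fun h => hbA ⟨hb, h⟩⟩
        have hn2 : Nb (q := q) (inc b : Fin (4 + 2) → F) (inc x) :=
          ⟨⟨fun e => hx.1.1 (by rw [← pr_inc (s := 2) x, e, pr_zero]), by rw [h_inc hF]; exact hx.1.2⟩,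
            by rw [h_inc hF]; exact hx.2.1, fun k e => hx.2.2 k (by
              have := congrArg pr e
              rwa [pr_inc, pr_smul, pr_inc] at this)⟩
        obtain ⟨k, hk⟩ := hblk _ hbI _ (nb_map g _ _ hn2)
        refine ⟨k, (nb_add hF hb hx k).1, ?_⟩
        rw [← mulVec_smul, ← mulVec_add] at hk
        rwa [show (inc (x + k • b) : Fin (4 + 2) → F) = inc x + k • inc b from ext2
          (by rw [pr_inc, pr_add, pr_smul, pr_inc, pr_inc])
          (by rw [lo_inc, lo_add, lo_smul, lo_inc, lo_inc, smul_zero, add_zero])]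
      refine (nb_le hF P hg (Isot F q 4 \ A) _ fun b hb => ?_).trans ?_
      · have hn := nb_symm hF hb.1.1 hb.2
        obtain ⟨he, hp⟩ := nb_coord hF P hg hn
        refine ⟨hn, hp, fun hA' => hU r hr b hb.1 hn (-(h6 (g⁻¹.1.1 *ᵥ b) (wp P))) ?_⟩
        have h2 := hA'.2
        have e2 : b + -(h6 (g⁻¹.1.1 *ᵥ b) (wp P)) • r = g.1.1 *ᵥ (inc (pr (g⁻¹.1.1 *ᵥ b)) : Fin (4 + 2) → F) := by
          conv_lhs => arg 1; rw [← apply_inv_apply g b, he, mulVec_add, mulVec_smul, hg]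
          module
        rw [e2]; exact h2
      · rw [Set.ncard_sdiff (fun a ha => ha.1) (Set.toFinite _), show (Isot F q 4).ncard = 135 from l4, hq]
        omega
    have h := incidence (Isot F q (4 + 2) \ R) R (fun b r => Nb (q := q) b r) (lo := 135)
      (fun b hb => l4 ▸ nb_ge hF (by norm_num) hb.1 (hblk b hb)) hhi
    rw [hRB] at h
    omega
  · push Not at huniq
    obtain ⟨r1, hr1, r2, hr2, hv1, hv2, hp12, hne⟩ := huniq
    have hlo : ∀ b ∈ Isot F q (4 + 2) \ R, 270 ≤ ({x | x ∈ R ∧ Nb (q := q) b x}).ncard := by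
      intro b hb
      obtain ⟨X, hX, hXv⟩ := hone b hb.1 hb.2
      have hp := (hcoord (hnb0 r1 hr1 hv1)).2
      have hex : ∀ y : Isot F q 4, ∃ Z ∈ H', Z.1.1 *ᵥ vp P = vp P ∧ pr (Z.1.1 *ᵥ r1) = y.1 ∧
          pr (Z.1.1 *ᵥ r2) = y.1 := by
        intro y
        obtain ⟨g, hg, hgy⟩ := trans_level hF (show 3 ≤ 4 by norm_num) hp.1 y.2.1 (hp.2.trans y.2.2.symm)
        obtain ⟨a, s, hs, hZ⟩ := (mem_Kh hF P H' hH').1 (hK' hg)
        have hcalc : ∀ r, h6 r (vp P) = 0 → pr ((emb hF P 1 g * uel hF P a s).1.1 *ᵥ r) = g.1.1 *ᵥ pr r := by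
          intro r hrv
          rw [mul_apply, (emb_rest hF P g _).1, uel_apply hF P hs, hrv, zero_smul, mul_zero, zero_smul, add_zero,
            add_zero, show pr (r - Cfsg.hermForm 4 F q (pr r) a • vp P : Fin (4 + 2) → F) = pr r from funext fun i => by
              have := congrFun (pr_top (m := 4) P.v) i
              simp only [pr, Pi.zero_apply] at this
              simp [pr, this]]
        exact ⟨_, hZ, by rw [mul_apply, uel_vp hF P hs, emb_vp, Units.val_one, one_smul],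
          by rw [hcalc r1 hv1, hgy], by rw [hcalc r2 hv2, ← hp12, hgy]⟩
      choose Z hZ hZv hZ1 hZ2 using hex
      have hsize : 270 = Nat.card (Isot F q 4 × Bool) := by
        rw [Nat.card_prod, Nat.card_coe_set_eq, show (Isot F q 4).ncard = 135 from l4]; simp
      rw [hsize, ← Nat.card_coe_set_eq]
      have hmem : ∀ (y : Isot F q 4) (s : Bool),
          X.1.1 *ᵥ ((Z y).1.1 *ᵥ (if s then r1 else r2)) ∈ {x | x ∈ R ∧ Nb (q := q) b x} := by
        intro y s
        have hr : (if s then r1 else r2) ∈ R ∧ h6 (if s then r1 else r2) (vp P) = 0 := by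
          cases s
          · exact ⟨hr2, hv2⟩
          · exact ⟨hr1, hv1⟩
        refine ⟨hinv X hX _ (hinv _ (hZ y) _ hr.1), ?_⟩
        have := nb_map X _ _ (nb_map (Z y) _ _ (hnb0 _ hr.1 hr.2))
        rwa [hZv y, hXv] at this
      refine Nat.card_le_card_of_injective (fun p => ⟨_, hmem p.1 p.2⟩) ?_
      rintro ⟨y, s⟩ ⟨y', s'⟩ e
      have e1 := congrArg (fun z => X⁻¹.1.1 *ᵥ z) (congrArg Subtype.val e)
      simp only [inv_apply_apply] at e1
      have hpy : ∀ (y : Isot F q 4) (s : Bool), pr ((Z y).1.1 *ᵥ (if s then r1 else r2)) = y.1 := by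
        intro y s; cases s
        · exact hZ2 y
        · exact hZ1 y
      obtain rfl : y = y' := Subtype.ext (by rw [← hpy y s, ← hpy y' s', e1])
      have e2 := congrArg (fun z => (Z y)⁻¹.1.1 *ᵥ z) e1
      simp only [inv_apply_apply] at e2
      cases s <;> cases s'
      · rfl
      · exact absurd e2.symm hne
      · exact absurd e2 hne
      · rfl
    have hhi : ∀ r ∈ R, ({b | b ∈ Isot F q (4 + 2) \ R ∧ Nb (q := q) b r}).ncard ≤ 540 := by
      intro r hr
      obtain ⟨g, hg⟩ := hframe r hr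
      refine (nb_le hF P hg (Isot F q 4) _ fun b hb => ⟨nb_symm hF hb.1.1 hb.2,
        (nb_coord hF P hg (nb_symm hF hb.1.1 hb.2)).2⟩).trans (le_of_eq ?_)
      rw [show (Isot F q 4).ncard = 135 from l4, hq]; norm_num
    have h := incidence (Isot F q (4 + 2) \ R) R (fun b r => Nb (q := q) b r) hlo hhi
    rw [hRB] at h
    omega

end CfsgLib.PsuMin
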