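import Mathlib
import Cfsg.Agent.Lib.PsuMin.Two

/-! The least index of a proper subgroup of the projective special unitary group. -/

set_option autoImplicit false

namespace CfsgLib.PsuMin

open Matrix CfsgLib.UnitaryTransvection Module CfsgLib.HermCount

variable {F : Type*} [Field F] [Fintype F] {q n : ℕ} (hF : Fintype.card F = q ^ 2)

local notation "σ" => frob hF
local notation "h" => Cfsg.hermForm n F q

include hF in
/-- The bound in the projective group. -/
theorem index_big (hn : 5 ≤ n) (H : Subgroup (Cfsg.PSU n F q)) (hH : H ≠ ⊤) : Big F q n H.index := by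
  obtain ⟨m, rfl⟩ : ∃ m, n = m + 2 := ⟨n - 2, by omega⟩
  set K := H.comap (QuotientGroup.mk' (Subgroup.center (Cfsg.SU (m + 2) F q)))
  have hsurj : Function.Surjective (QuotientGroup.mk' (Subgroup.center (Cfsg.SU (m + 2) F q))) :=
    QuotientGroup.mk'_surjective _
  have hidx : K.index = H.index := Subgroup.index_comap_of_surjective _ hsurj
  set L := K.map (incl (n := m + 2) hF)
  have hL : L ≤ det1 F q (m + 2) := by
    rw [← incl_range hF]
    exact Subgroup.map_le_range _ _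
  have hrel : L.relIndex (det1 F q (m + 2)) = H.index := by
    rw [← incl_range hF, MonoidHom.range_eq_map, Subgroup.relIndex_map_map_of_injective _ _ (incl_injective hF),
      Subgroup.relIndex_top_right, hidx]
  have hprop : ¬ det1 F q (m + 2) ≤ L := fun e => hH (Subgroup.index_eq_one.1 (by
    rw [← hrel, Subgroup.relIndex_eq_one.2 e]))
  rw [← hrel]
  by_cases hex : m = 4 ∧ q = 2
  · obtain ⟨rfl, hq⟩ := hex
    exact two_bound hF L hq hL hprop
  · exact big_proper hF (by omega) hex L hL hprop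

include hF in
/-- A central element fixes every vector up to one scalar. -/
theorem center_scalar (hn : 3 ≤ n) (g : Cfsg.SU n F q) (hg : g ∈ Subgroup.center (Cfsg.SU n F q)) :
    ∃ c : F, ∀ v, UnitarySimple.mat g *ᵥ v = c • v := by
  refine UnitarySimple.scalar_of_fix hF hn g fun x => ?_
  obtain ⟨c0, hc0, hc0'⟩ := exists_skew hF
  obtain ⟨e, he0, he, rfl⟩ := UnitarySimple.pt_surj x
  have hcomm := (UnitarySimple.conj_tv hF g e he c0 hc0').symm.trans
    (mul_inv_eq_of_eq_mul (Subgroup.mem_center_iff.mp hg (UnitarySimple.tv hF e he c0 hc0')).symm)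
  obtain ⟨y, hey, hye⟩ := UnitarySimple.exists_partner hF (UnitarySimple.mat_ne_zero g he0)
  have h1 := congrArg (fun k : Cfsg.SU n F q => UnitarySimple.mat k *ᵥ y) hcomm
  simp only [UnitarySimple.tv_mulVec, hye, mul_one, add_right_inj] at h1
  refine UnitarySimple.smul_pt_eq g he0 he he0 he (c0⁻¹ * (c0 * h y e)) ?_
  rw [mul_smul, ← h1, inv_smul_smul₀ hc0]

include hF in
/-- The stabiliser of a line. -/
theorem exists_stab (hn : 3 ≤ n) {v : Fin n → F} (hv : v ≠ 0) :
    ∃ H : Subgroup (Cfsg.PSU n F q),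
      H.index * Nat.card {r : F // r ≠ 0 ∧ h (r • v) (r • v) = h v v} =
        ({x : Fin n → F | x ≠ 0 ∧ h x x = h v v}).ncard := by
  classical
  letI : MulAction (Cfsg.SU n F q) (Fin n → F) :=
    { smul := fun g x => UnitarySimple.mat g *ᵥ x
      one_smul := fun x => by
        show UnitarySimple.mat (1 : Cfsg.SU n F q) *ᵥ x = x
        rw [UnitarySimple.mat_one, one_mulVec]
      mul_smul := fun g g' x => by
        show UnitarySimple.mat (g * g') *ᵥ x = _
        rw [UnitarySimple.mat_mul, ← mulVec_mulVec]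
        rfl }
  have hsm : ∀ (g : Cfsg.SU n F q) (x : Fin n → F), g • x = UnitarySimple.mat g *ᵥ x := fun _ _ => rfl
  let St : Subgroup (Cfsg.SU n F q) :=
    { carrier := {g | ∃ r : F, r ≠ 0 ∧ UnitarySimple.mat g *ᵥ v = r • v}
      one_mem' := ⟨1, one_ne_zero, by rw [UnitarySimple.mat_one, one_mulVec, one_smul]⟩
      mul_mem' := fun {a b} ⟨r, hr0, hr⟩ ⟨t, ht0, ht⟩ => ⟨t * r, mul_ne_zero ht0 hr0, by
        rw [UnitarySimple.mat_mul, ← mulVec_mulVec, ht, mulVec_smul, hr, smul_smul]⟩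
      inv_mem' := fun {a} ⟨r, hr0, hr⟩ => ⟨r⁻¹, inv_ne_zero hr0, by
        have e := congrArg (fun z => UnitarySimple.mat a⁻¹ *ᵥ z) hr
        simp only [UnitarySimple.mat_inv_mulVec', mulVec_smul] at e
        conv_rhs => rw [e]
        rw [inv_smul_smul₀ hr0]⟩ }
  have hcen : Subgroup.center (Cfsg.SU n F q) ≤ St := fun g hg => by
    obtain ⟨c, hc⟩ := center_scalar hF hn g hg
    exact ⟨c, fun e => UnitarySimple.mat_ne_zero g hv (by rw [hc, e, zero_smul]), hc v⟩
  refine ⟨St.map (QuotientGroup.mk' _), ?_⟩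
  rw [Subgroup.index_map_eq St (QuotientGroup.mk'_surjective _) (by rw [QuotientGroup.ker_mk']; exact hcen)]
  have hstab : MulAction.stabilizer (Cfsg.SU n F q) v ⊓ ⊤ ≤ St := fun g hg =>
    ⟨1, one_ne_zero, (MulAction.mem_stabilizer_iff.1 hg.1).trans (one_smul F v).symm⟩
  have hoc := OmegaMin.orbit_count St ⊤ le_top v
  rw [Subgroup.relIndex_top_right, Subgroup.relIndex_eq_one.2 hstab, mul_one] at hoc
  have htr : ∀ x : Fin n → F, x ≠ 0 → h x x = h v v → ∃ g : Cfsg.SU n F q, g • v = x := by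
    intro x hx hxx
    obtain ⟨g, hg, hgx⟩ := trans_level hF hn hv hx hxx.symm
    rw [← incl_range hF] at hg
    obtain ⟨k, rfl⟩ := hg
    exact ⟨k, hgx⟩
  have e1 : Nat.card (MulAction.orbit St v) = Nat.card {r : F // r ≠ 0 ∧ h (r • v) (r • v) = h v v} := by
    refine (Nat.card_congr (Equiv.ofBijective (fun r => (⟨r.1 • v, ?_⟩ : MulAction.orbit St v)) ⟨?_, ?_⟩)).symm
    · obtain ⟨g, hg⟩ := htr _ (smul_ne_zero r.2.1 hv) r.2.2
      exact ⟨⟨g, r.1, r.2.1, hg⟩, hg⟩
    · intro a b e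
      exact Subtype.ext (smul_left_injective F hv (congrArg Subtype.val e :))
    · rintro ⟨_, ⟨g, r, hr0, hr⟩, rfl⟩
      refine ⟨⟨r, hr0, ?_⟩, Subtype.ext hr.symm⟩
      rw [← hr]
      exact UnitarySimple.su_h g v v
  have e2 : Nat.card (MulAction.orbit (⊤ : Subgroup (Cfsg.SU n F q)) v) =
      ({x : Fin n → F | x ≠ 0 ∧ h x x = h v v}).ncard := by
    rw [Nat.card_coe_set_eq]
    congr 1
    ext x
    constructor
    · rintro ⟨⟨g, -⟩, rfl⟩
      exact ⟨UnitarySimple.mat_ne_zero g hv, UnitarySimple.su_h g v v⟩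
    · rintro ⟨hx, hxx⟩
      obtain ⟨g, hg⟩ := htr x hx hxx
      exact ⟨⟨g, trivial⟩, hg⟩
  rw [← e1, ← e2]
  exact hoc

include hF in
theorem exists_point (hn : 3 ≤ n) : ∃ H : Subgroup (Cfsg.PSU n F q), H.index * (q ^ 2 - 1) = L0 F q n := by
  obtain ⟨e, he0, he⟩ := UnitarySimple.exists_isotropic hF (n := n) (by omega)
  obtain ⟨H, hH⟩ := exists_stab hF hn he0
  have : Nat.card {r : F // r ≠ 0 ∧ h (r • e) (r • e) = h e e} = q ^ 2 - 1 := by
    rw [Nat.card_congr (Equiv.subtypeEquivRight fun (r : F) => (⟨fun hr => hr.1, fun hr => ⟨hr, by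
      rw [smul_iso hF he r, he]⟩⟩ : r ≠ 0 ∧ h (r • e) (r • e) = h e e ↔ r ≠ 0)),
      Nat.card_congr unitsEquivNeZero.symm, Nat.card_units, Nat.card_eq_fintype_card, hF]
  rw [this, he] at hH
  exact ⟨H, hH⟩

include hF in
theorem exists_unit_line (hn : 3 ≤ n) : ∃ H : Subgroup (Cfsg.PSU n F q), H.index * (q + 1) = A1 F q n := by
  obtain ⟨u, hu⟩ := exists_unit hF (m := n) (by omega)
  have hu0 : u ≠ 0 := fun e => by rw [e, h_zero_left hF] at hu; exact zero_ne_one hu
  obtain ⟨H, hH⟩ := exists_stab hF hn hu0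
  have hiff : ∀ r : F, (r ≠ 0 ∧ h (r • u) (r • u) = h u u) ↔ r * σ r = 1 := fun r => by
    rw [h_smul_left, h_smul_right hF, hu, mul_one]
    exact ⟨fun hr => hr.2, fun hr => ⟨left_ne_zero_of_mul_eq_one hr, hr⟩⟩
  have : Nat.card {r : F // r ≠ 0 ∧ h (r • u) (r • u) = h u u} = q + 1 := by
    rw [← card_norm_ker hF, Nat.card_congr (Equiv.subtypeEquivRight hiff)]
    exact Nat.card_congr
      { toFun := fun r => ⟨Units.mk0 r.1 (left_ne_zero_of_mul_eq_one r.2), Units.ext (by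
          show ((Units.mk0 r.1 _ ^ (q + 1) : Fˣ) : F) = 1
          rw [Units.val_pow_eq_pow_val, Units.val_mk0, pow_succ', ← frob_apply hF]
          exact r.2)⟩
        invFun := fun z => ⟨z.1, by
          have := congrArg Units.val z.2
          rw [frob_apply hF, ← pow_succ']
          simpa using this⟩
        left_inv := fun r => rfl
        right_inv := fun z => Subtype.ext (Units.ext rfl) }
  rw [this, hu, ncard_nonzero_level hF one_ne_zero, card_level hF one_ne_zero (map_one _)] at hH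
  exact ⟨H, hH⟩

include hF in
/-- The point stabilisers are largest away from even dimension over four elements. -/
theorem min_point (hn : 5 ≤ n) (hq : Odd n ∨ 3 ≤ q) :
    (∀ H : Subgroup (Cfsg.PSU n F q), H ≠ ⊤ → L0 F q n / (q ^ 2 - 1) ≤ H.index) ∧
      ∃ H : Subgroup (Cfsg.PSU n F q), H.index = L0 F q n / (q ^ 2 - 1) := by
  have hq2 := two_le_q hF
  have hpos : 0 < q ^ 2 - 1 := by
    have : 2 ^ 2 ≤ q ^ 2 := Nat.pow_le_pow_left hq2 2
    omega
  obtain ⟨H0, hH0⟩ := exists_point hF (n := n) (by omega)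
  refine ⟨fun H hH => Nat.div_le_of_le_mul ?_, H0, by rw [← hH0, Nat.mul_div_cancel _ hpos]⟩
  rw [mul_comm]
  rcases index_big hF hn H hH with e | e
  · exact e
  obtain ⟨k, rfl⟩ : ∃ k, n = k + 1 := ⟨n - 1, by omega⟩
  have h1 : L0 F q (k + 1) ≤ (q - 1) * A1 F q (k + 1) := by
    have hl := L0_eq hF k
    have ha := A1_eq hF k
    zify [(by omega : 1 ≤ q)]
    rw [hl, ha]
    have hq' : (2 : ℤ) ≤ q := by exact_mod_cast hq2
    have hk : (1 : ℤ) ≤ (q : ℤ) ^ k := one_le_pow₀ (by linarith)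
    have hk2 : (q : ℤ) ^ (k + 1) ≥ 2 := by rw [pow_succ]; nlinarith
    have hP1 : (0 : ℤ) ≤ (q : ℤ) ^ (k + 1) - 1 := by linarith
    have hP2 : (0 : ℤ) ≤ (q : ℤ) ^ (k + 1) + 1 := by linarith
    have hQ : (0 : ℤ) ≤ (q : ℤ) ^ k := by linarith
    have i1 := mul_nonneg (mul_nonneg (sub_nonneg.2 hq') hQ) hP2
    rcases hq with ho | hq3
    · rw [ho.neg_one_pow]
      nlinarith
    · have hq3' : (3 : ℤ) ≤ q := by exact_mod_cast hq3
      have i2 := mul_nonneg (mul_nonneg (sub_nonneg.2 hq3') hQ) hP1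
      have i3 := mul_nonneg (sub_nonneg.2 hk) hP1
      rcases neg_one_pow_eq_or ℤ (k + 1) with e1 | e1 <;> rw [e1] <;> nlinarith
  calc _ ≤ (q - 1) * A1 F q (k + 1) := h1
    _ ≤ (q - 1) * (H.index * (q + 1)) := Nat.mul_le_mul_left _ e
    _ = H.index * ((q + 1) * (q - 1)) := by ring
    _ = _ := by rw [← Nat.sq_sub_sq, one_pow]

include hF in
/-- The unit line stabilisers are largest in even dimension over four elements. -/
theorem min_unit (hn : 5 ≤ n) (he : Even n) (hq : q = 2) :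
    (∀ H : Subgroup (Cfsg.PSU n F q), H ≠ ⊤ → A1 F q n / (q + 1) ≤ H.index) ∧
      ∃ H : Subgroup (Cfsg.PSU n F q), H.index = A1 F q n / (q + 1) := by
  obtain ⟨H0, hH0⟩ := exists_unit_line hF (n := n) (by omega)
  refine ⟨fun H hH => Nat.div_le_of_le_mul ?_, H0, by rw [← hH0, Nat.mul_div_cancel _ (by omega)]⟩
  rw [mul_comm]
  rcases index_big hF hn H hH with e | e
  swap
  · exact e
  obtain ⟨k, rfl⟩ : ∃ k, n = k + 1 := ⟨n - 1, by omega⟩
  have h1 : A1 F q (k + 1) ≤ L0 F q (k + 1) := by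
    have hl := L0_eq hF k
    have ha := A1_eq hF k
    rw [he.neg_one_pow] at hl ha
    zify
    rw [hl, ha]
    have hk2 : (1 : ℤ) ≤ (q : ℤ) ^ (k + 1) := one_le_pow₀ (by rw [hq]; norm_num)
    nlinarith
  refine h1.trans (e.trans_eq ?_)
  congr 1
  rw [hq]; norm_num

include hF in
theorem L0_odd (hn : Odd n) : L0 F q n = (q ^ n + 1) * (q ^ (n - 1) - 1) := by
  obtain ⟨k, rfl⟩ : ∃ k, n = k + 1 := ⟨n - 1, by obtain ⟨r, rfl⟩ := hn; omega⟩
  have hl := L0_eq hF k
  rw [hn.neg_one_pow] at hl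
  have h1 : 1 ≤ q ^ k := Nat.one_le_pow _ _ (by have := two_le_q hF; omega)
  rw [Nat.add_sub_cancel]
  zify [h1]
  rw [hl]; ring

include hF in
theorem L0_even (hn : Even n) (hn0 : 1 ≤ n) : L0 F q n = (q ^ n - 1) * (q ^ (n - 1) + 1) := by
  obtain ⟨k, rfl⟩ : ∃ k, n = k + 1 := ⟨n - 1, by omega⟩
  have hl := L0_eq hF k
  rw [hn.neg_one_pow] at hl
  have h1 : 1 ≤ q ^ (k + 1) := Nat.one_le_pow _ _ (by have := two_le_q hF; omega)
  rw [Nat.add_sub_cancel]
  zify [h1]
  rw [hl]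

include hF in
theorem A1_even (hn : Even n) (hn0 : 1 ≤ n) : A1 F q n = q ^ (n - 1) * (q ^ n - 1) := by
  obtain ⟨k, rfl⟩ : ∃ k, n = k + 1 := ⟨n - 1, by omega⟩
  have ha := A1_eq hF k
  rw [hn.neg_one_pow] at ha
  have h1 : 1 ≤ q ^ (k + 1) := Nat.one_le_pow _ _ (by have := two_le_q hF; omega)
  rw [Nat.add_sub_cancel]
  zify [h1]
  rw [ha]

end CfsgLib.PsuMin
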